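import Cfsg.Agent.H23.GL23.ThreeAbelian

/-!
# The normaliser of the elementary subgroup of order nine
-/

set_option autoImplicit false
set_option maxHeartbeats 800000
set_option linter.style.haveILetI false

namespace Cfsg.Agent.H23.GL23

universe u

theorem ent_of_inj : ∀ u v : Vec, (∀ w : Vec, act u v w = 0 → w = 0) →
    ∃ d : M, d.ent = (u.1, v.1, u.2, v.2) := by
  decide +kernel

theorem lower_of_cube' : ∀ d : M, (d.ent.2.1 = 0 ∧ d.ent.2.2.2 = 1 ∧ d * d * d = 1 ∧ d ≠ 1) →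
    (d.ent = (1, 0, 1, 1) ∨ (d * d).ent = (1, 0, 1, 1)) := by
  decide +kernel

theorem lower_of_cube (d : M) (h1 : d.ent.2.1 = 0) (h2 : d.ent.2.2.2 = 1) (h3 : d * d * d = 1)
    (h4 : d ≠ 1) : d.ent = (1, 0, 1, 1) ∨ (d * d).ent = (1, 0, 1, 1) :=
  lower_of_cube' d ⟨h1, h2, h3, h4⟩

theorem ent_29 : (ofCode 29).ent = (1, 0, 0, 2) := by decide +kernel

theorem ent_55 : (ofCode 55).ent = (2, 0, 0, 1) := by decide +kernel

theorem upper_cases : ∀ d : M, ∀ k : ZMod 3, k ≠ 0 → d.ent = (1, k, 0, 1) →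
    d.ent = (1, 1, 0, 1) ∨ (d * d).ent = (1, 1, 0, 1) := by
  decide +kernel

variable {G : Type u} [Group G] [Finite G] {D : Setup G}

namespace Axes

variable (A : Axes D)

/-- the exponent map -/
noncomputable def ep (w : Vec) : G := expPair D.x A.y w

theorem ep_inj : Function.Injective A.ep :=
  expPair_injective D.x_cube D.x_ne_one A.y_cube A.y_not A.commute_xy

theorem ep_add (v w : Vec) : A.ep (v + w) = A.ep v * A.ep w :=
  expPair_add D.x_cube A.y_cube A.commute_xy v w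

theorem ep_zero : A.ep 0 = 1 := by simp [ep, expPair]

theorem ep_x : A.ep (1, 0) = D.x := by simp [ep, expPair, ZMod.val_one]

theorem ep_y : A.ep (0, 1) = A.y := by simp [ep, expPair, ZMod.val_one]

theorem ep_neg (v : Vec) : A.ep (-v) = (A.ep v)⁻¹ :=
  (inv_eq_of_mul_eq_one_right (by rw [← A.ep_add, add_neg_cancel, A.ep_zero])).symm

theorem ep_mem (w : Vec) : A.ep w ∈ A.plane := ⟨w, rfl⟩

theorem mem_plane {g : G} : g ∈ A.plane ↔ ∃ w, A.ep w = g := Iff.rfl

/-- `d` describes the action of `g` on the plane -/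
def Acts (g : G) (d : M) : Prop :=
  g * D.x * g⁻¹ = A.ep (d.ent.1, d.ent.2.2.1) ∧ g * A.y * g⁻¹ = A.ep (d.ent.2.1, d.ent.2.2.2)

theorem Acts.ep {A : Axes D} {g : G} {d : M} (h : A.Acts g d) (w : Vec) :
    g * A.ep w * g⁻¹ = A.ep (act (d.ent.1, d.ent.2.2.1) (d.ent.2.1, d.ent.2.2.2) w) :=
  expPair_act D.x_cube A.y_cube A.commute_xy h.1 h.2 w

theorem acts_mul {g h : G} {c d : M} (hg : A.Acts g c) (hh : A.Acts h d) : A.Acts (g * h) (c * d) := by
  have e : ∀ w : G, g * h * w * (g * h)⁻¹ = g * (h * w * h⁻¹) * g⁻¹ := fun w => by group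
  have hm : (c * d).ent = entMul c.ent d.ent := ent_mul' c d
  refine ⟨?_, ?_⟩
  · rw [e, hh.1, Acts.ep hg]
    congr 1
    simp only [hm, entMul, act]
    ext <;> simp <;> ring
  · rw [e, hh.2, Acts.ep hg]
    congr 1
    simp only [hm, entMul, act]
    ext <;> simp <;> ring

theorem acts_one : A.Acts 1 1 := by
  have h : (1 : M).ent = (1, 0, 0, 1) := ent_one
  refine ⟨?_, ?_⟩ <;> simp [h, A.ep_x, A.ep_y]

theorem acts_unique {g : G} {c d : M} (hc : A.Acts g c) (hd : A.Acts g d) : c = d := by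
  have h1 := A.ep_inj (hc.1.symm.trans hd.1)
  have h2 := A.ep_inj (hc.2.symm.trans hd.2)
  simp only [Prod.mk.injEq] at h1 h2
  exact ent_injective _ _ (Prod.ext h1.1 (Prod.ext h2.1 (Prod.ext h1.2 h2.2)))

/-- the normaliser -/
noncomputable def M0 : Subgroup G := Subgroup.normalizer (A.plane : Set G)

theorem mem_M0_of_acts {g : G} {d : M} (h : A.Acts g d) : g ∈ A.M0 := by
  rw [M0, Subgroup.mem_normalizer_iff]
  have hstep : ∀ a ∈ A.plane, g * a * g⁻¹ ∈ A.plane := by
    rintro _ ⟨w, rfl⟩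
    exact ⟨_, (Acts.ep h w).symm⟩
  intro a
  refine ⟨hstep a, fun ha => ?_⟩
  obtain ⟨b, hb⟩ := Finite.surjective_of_injective
    (f := fun a : ↥A.plane => (⟨g * a * g⁻¹, hstep a a.2⟩ : ↥A.plane))
    (fun b c e => Subtype.ext (mul_left_cancel (mul_right_cancel (congrArg Subtype.val e))))
    ⟨_, ha⟩
  have := mul_left_cancel (mul_right_cancel (congrArg Subtype.val hb))
  exact this ▸ b.2

theorem exists_acts {g : G} (hg : g ∈ A.M0) : ∃ d, A.Acts g d := by
  rw [M0, Subgroup.mem_normalizer_iff] at hg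
  obtain ⟨u, hu⟩ := (hg D.x).1 A.x_plane
  obtain ⟨v, hv⟩ := (hg A.y).1 A.y_plane
  obtain ⟨d, hd⟩ := ent_of_inj u v (fun w hw => by
    have h := expPair_act D.x_cube A.y_cube A.commute_xy hu.symm hv.symm w
    rw [hw, show expPair D.x A.y 0 = 1 from A.ep_zero, conj_eq_one_iff] at h
    exact expPair_eq_one D.x_cube D.x_ne_one A.y_cube A.y_not h)
  exact ⟨d, by simp only [Acts, hd]; exact ⟨hu.symm, hv.symm⟩⟩

/-- the action on the plane -/
noncomputable def mat : ↥A.M0 →* M where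
  toFun g := Classical.choose (A.exists_acts g.2)
  map_one' := A.acts_unique (Classical.choose_spec (A.exists_acts (1 : ↥A.M0).2)) A.acts_one
  map_mul' g h := A.acts_unique (Classical.choose_spec (A.exists_acts (g * h).2))
    (A.acts_mul (Classical.choose_spec (A.exists_acts g.2)) (Classical.choose_spec (A.exists_acts h.2)))

theorem mat_acts (g : ↥A.M0) : A.Acts g (A.mat g) := Classical.choose_spec (A.exists_acts g.2)

theorem mat_eq {g : G} {d : M} (h : A.Acts g d) : A.mat ⟨g, A.mem_M0_of_acts h⟩ = d :=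
  A.acts_unique (A.mat_acts ⟨g, A.mem_M0_of_acts h⟩) h

variable (hna : A.y * A.z ≠ A.z * A.y)

include hna in
theorem centralizer_plane {g : G} (hx : g * D.x = D.x * g) (hy : g * A.y = A.y * g) : g ∈ A.plane := by
  have key : ∀ k ∈ A.K, k * A.y = A.y * k → k ∈ A.plane := by
    intro k hk hky
    by_contra hn
    set H := A.K ⊓ Subgroup.centralizer ({A.y} : Set G)
    have hle : A.plane ≤ H := by
      rintro _ ⟨w, rfl⟩
      refine ⟨A.plane_le ⟨w, rfl⟩, Subgroup.mem_centralizer_singleton_iff.2 ?_⟩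
      exact (((A.commute_xy).pow_left _).mul_left ((Commute.refl _).pow_left _) : Commute _ A.y).eq
    obtain ⟨j, hj⟩ : 9 ∣ Nat.card ↥H := A.card_plane ▸ Subgroup.card_dvd_of_le hle
    have h27 : Nat.card ↥H ∣ 27 := A.card_K ▸ Subgroup.card_dvd_of_le inf_le_left
    have h3 : j ∣ 3 := Nat.dvd_of_mul_dvd_mul_left (show 0 < 9 by norm_num) (hj ▸ h27)
    rcases (Nat.dvd_prime Nat.prime_three).1 h3 with rfl | rfl
    · exact hn (Subgroup.eq_of_le_of_card_ge hle (by rw [hj, A.card_plane]) ▸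
        ⟨hk, Subgroup.mem_centralizer_singleton_iff.2 hky⟩)
    · have heq : H = A.K := Subgroup.eq_of_le_of_card_ge inf_le_left (by rw [hj, A.card_K])
      have hz : A.z ∈ H := heq ▸ A.z_mem
      exact hna (Subgroup.mem_centralizer_singleton_iff.1 hz.2).symm
  rcases A.C_split (D.mem_C.2 hx) with hk | hk
  · exact key g hk hy
  · exfalso
    set k := g * D.t
    -- `k` inverts `y`
    have hinv : k * A.y⁻¹ * k⁻¹ = A.y := by
      rw [show k * A.y⁻¹ * k⁻¹ = g * (D.t * A.y⁻¹ * D.t⁻¹) * g⁻¹ by simp only [k]; group,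
        show D.t * A.y⁻¹ * D.t⁻¹ = (D.t * A.y * D.t⁻¹)⁻¹ by group, A.t_y, inv_inv, conj_eq_of_comm hy]
    have hc := D.comm_mem A.mem_K A.card_K hk (A.K.inv_mem A.y_mem)
    rw [hinv, inv_inv] at hc
    refine A.y_not ?_
    have h3 : A.y = A.y * A.y * (A.y * A.y) := by
      calc A.y = A.y * A.y * A.y * A.y := by rw [A.y_cube, one_mul]
        _ = _ := by group
    rw [h3]
    exact Subgroup.mul_mem _ hc hc

include hna in
theorem mat_ker (g : ↥A.M0) : A.mat g = 1 ↔ (g : G) ∈ A.plane := by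
  have h1 : (1 : M).ent = (1, 0, 0, 1) := ent_one
  constructor
  · intro h
    have := A.mat_acts g
    rw [h] at this
    simp only [Acts, h1, A.ep_x, A.ep_y] at this
    exact A.centralizer_plane hna (comm_of_conj_eq this.1) (comm_of_conj_eq this.2)
  · rintro ⟨w, hw⟩
    refine A.acts_unique (A.mat_acts g) ?_
    simp only [Acts, h1, A.ep_x, A.ep_y]
    have hc : ∀ v, (g : G) * A.ep v * (g : G)⁻¹ = A.ep v := fun v => by
      refine conj_eq_of_comm ?_
      rw [← hw]
      change A.ep w * A.ep v = A.ep v * A.ep w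
      rw [← A.ep_add, ← A.ep_add, add_comm]
    exact ⟨by simpa [A.ep_x] using hc (1, 0), by simpa [A.ep_y] using hc (0, 1)⟩

include hna in
/-- The action on the plane is by the whole linear group. -/
theorem mat_surjective (hone : ∀ v : G, orderOf v = 2 → IsConj D.t v) : Function.Surjective A.mat := by
  haveI : Fact (Nat.Prime 3) := ⟨Nat.prime_three⟩
  -- the diagonal elements
  have hd1 : A.Acts D.t (ofCode 29) := by
    have h := ent_29
    simp only [Acts, h]
    refine ⟨by rw [D.t_x, A.ep_x], ?_⟩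
    rw [A.t_y, ← A.ep_y, ← A.ep_neg]; rfl
  have hd2 : A.Acts D.s (ofCode 55) := by
    have h := ent_55
    simp only [Acts, h]
    refine ⟨?_, by rw [A.s_y, A.ep_y]⟩
    rw [D.s_x, ← A.ep_x, ← A.ep_neg]; rfl
  -- the upper transvection
  obtain ⟨u, hu⟩ : ∃ u : ↥A.M0, (A.mat u).ent = (1, 1, 0, 1) := by
    have hc := D.comm_mem A.mem_K A.card_K A.z_mem A.y_mem
    obtain ⟨n, hn⟩ := Subgroup.mem_zpowers_iff.1 hc
    have hk : ∃ k : ZMod 3, A.ep (k, 0) = A.z * A.y * A.z⁻¹ * A.y⁻¹ := by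
      refine ⟨(n : ZMod 3), ?_⟩
      rw [← hn, ep, expPair, ZMod.val_zero, pow_zero, mul_one, ← zpow_natCast, ZMod.val_intCast]
      exact (zpow_eq_zpow_emod' n (by rw [pow_succ, pow_two]; exact D.x_cube)).symm
    obtain ⟨k, hk⟩ := hk
    have hk0 : k ≠ 0 := by
      rintro rfl
      rw [show ((0 : ZMod 3), (0 : ZMod 3)) = (0 : Vec) from rfl, A.ep_zero] at hk
      exact hna (comm_of_conj_eq (mul_inv_eq_one.1 hk.symm)).symm
    obtain ⟨d, hd⟩ := ent_of_inj (1, 0) (k, 1) (by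
      intro w hw
      simp only [act, Prod.mk_eq_zero, mul_one, mul_zero, zero_add] at hw
      obtain ⟨h1, h2⟩ := hw
      rw [h2, zero_mul, add_zero] at h1
      exact Prod.ext h1 h2)
    have hz : A.Acts A.z d := by
      simp only [Acts, hd]
      refine ⟨by rw [A.ep_x]; exact conj_eq_of_comm (A.x_comm A.z_mem), ?_⟩
      rw [show ((k, 1) : Vec) = (k, 0) + (0, 1) by simp, A.ep_add, hk, A.ep_y, inv_mul_cancel_right]
    rcases upper_cases d k hk0 hd with h | h
    · exact ⟨_, by rw [A.mat_eq hz]; exact h⟩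
    · exact ⟨_, by rw [A.mat_eq (A.acts_mul hz hz)]; exact h⟩
  -- the lower transvection
  obtain ⟨l, hl⟩ : ∃ l : ↥A.M0, (A.mat l).ent = (1, 0, 1, 1) := by
    obtain ⟨g, -, hg⟩ := D.pair_conj hone D.order_s A.y_cube A.y_ne_one (comm_of_conj_eq A.s_y).symm
    set R := A.K.map (MulAut.conj g).toMonoidHom
    have hRc : Nat.card ↥R = 27 := by
      rw [Subgroup.card_map_of_injective (MulAut.conj g).injective, A.card_K]
    have hxy : Commute D.x A.y := A.commute_xy
    have hPR : A.plane ≤ R := by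
      intro p hp
      refine ⟨g⁻¹ * p * g, (A.mem_K _).2 ⟨D.mem_C.2 ?_, ?_⟩, ?_⟩
      · have hpy : p * A.y = A.y * p := by
          obtain ⟨w, rfl⟩ := hp
          exact ((hxy.pow_left _).mul_left ((Commute.refl _).pow_left _) : Commute _ A.y).eq
        calc g⁻¹ * p * g * D.x = g⁻¹ * (p * (g * D.x * g⁻¹)) * g := by group
          _ = D.x * (g⁻¹ * p * g) := by rw [hg, hpy, ← hg]; group
      · have := orderOf_conj' g⁻¹ p
        rw [inv_inv] at this
        rw [this]; exact ((A.mem_K p).1 (A.plane_le hp)).2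
      · change g * (g⁻¹ * p * g) * g⁻¹ = p
        group
    obtain ⟨r, hr, hrp⟩ : ∃ r ∈ R, r ∉ A.plane := by
      by_contra h
      push Not at h
      have := Subgroup.card_le_of_le (show R ≤ A.plane from h)
      rw [hRc, A.card_plane] at this
      omega
    have hidx : (A.plane.subgroupOf R).index = 3 := by
      have := (A.plane.subgroupOf R).card_mul_index
      rw [Nat.card_congr (Subgroup.subgroupOfEquivOfLe hPR).toEquiv, A.card_plane, hRc] at this
      omega
    haveI hnorm : (A.plane.subgroupOf R).Normal := Subgroup.normal_of_index_eq_minFac_card (by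
      rw [hidx, hRc]; norm_num)
    have hr3 : r * r * r ∈ A.plane := by
      have := Subgroup.pow_index_mem (A.plane.subgroupOf R) (⟨r, hr⟩ : ↥R)
      rw [hidx, Subgroup.mem_subgroupOf] at this
      simpa [pow_succ, mul_assoc] using this
    have hry : r * A.y = A.y * r := by
      obtain ⟨k, hk, rfl⟩ := hr
      change g * k * g⁻¹ * A.y = A.y * (g * k * g⁻¹)
      rw [← hg, show g * k * g⁻¹ * (g * D.x * g⁻¹) = g * (k * D.x) * g⁻¹ by group, A.x_comm hk]
      group
    have hrN : r ∈ A.M0 := by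
      rw [M0, Subgroup.mem_normalizer_iff]
      intro p
      have hstep : ∀ r ∈ R, ∀ p ∈ A.plane, r * p * r⁻¹ ∈ A.plane := fun r hr p hp =>
        Subgroup.mem_subgroupOf.1 (hnorm.conj_mem ⟨p, hPR hp⟩ (Subgroup.mem_subgroupOf.2 hp) ⟨r, hr⟩)
      refine ⟨hstep r hr p, fun h => ?_⟩
      simpa [mul_assoc] using hstep r⁻¹ (R.inv_mem hr) _ h
    set r' : ↥A.M0 := ⟨r, hrN⟩
    have hd := A.mat_acts r'
    have hy1 : (A.mat r').ent.2.1 = 0 ∧ (A.mat r').ent.2.2.2 = 1 := by
      have h2 : A.ep ((A.mat r').ent.2.1, (A.mat r').ent.2.2.2) = A.ep (0, 1) := by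
        rw [← hd.2, A.ep_y]; exact conj_eq_of_comm hry
      exact Prod.mk.injEq .. ▸ A.ep_inj h2
    have hcube : A.mat r' * A.mat r' * A.mat r' = 1 := by
      rw [← map_mul, ← map_mul, A.mat_ker hna]; exact hr3
    have hne : A.mat r' ≠ 1 := fun h => hrp ((A.mat_ker hna r').1 h)
    rcases lower_of_cube _ hy1.1 hy1.2 hcube hne with h | h
    · exact ⟨r', h⟩
    · exact ⟨r' * r', by rw [map_mul]; exact h⟩
  intro d
  obtain ⟨a, b, c, e, f, hd⟩ := gen_word d (A.mat u) (A.mat l) (ofCode 29) (ofCode 55) hu hl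
    ent_29 ent_55
  exact ⟨u ^ (a : ℕ) * l ^ (b : ℕ) * u ^ (c : ℕ) * (⟨_, A.mem_M0_of_acts hd1⟩ : ↥A.M0) ^ (e : ℕ) *
    (⟨_, A.mem_M0_of_acts hd2⟩ : ↥A.M0) ^ (f : ℕ), by
      rw [map_mul, map_mul, map_mul, map_mul, map_pow, map_pow, map_pow, map_pow, map_pow,
        A.mat_eq hd1, A.mat_eq hd2, hd]⟩

include hna in
theorem card_M0 (hone : ∀ v : G, orderOf v = 2 → IsConj D.t v) : Nat.card ↥A.M0 = 432 := by
  have h := A.mat.ker.card_mul_index
  rw [Subgroup.index_ker, MonoidHom.range_eq_top.2 (A.mat_surjective hna hone), Subgroup.card_top,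
    card_M] at h
  have hk : Nat.card ↥A.mat.ker = 9 := by
    rw [← A.card_plane, ← Nat.card_congr (Subgroup.subgroupOfEquivOfLe
      (show A.plane ≤ A.M0 from Subgroup.le_normalizer)).toEquiv]
    refine Nat.card_congr (Equiv.subtypeEquivRight fun g => ?_)
    rw [MonoidHom.mem_ker, A.mat_ker hna, Subgroup.mem_subgroupOf]
  rw [hk] at h
  omega

/-- the involution inverting the plane -/
theorem st_inv {p : G} (hp : p ∈ A.plane) : D.s * D.t * p * (D.s * D.t)⁻¹ = p⁻¹ := by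
  obtain ⟨w, rfl⟩ := hp
  have h1 : D.s * D.t * D.x * (D.s * D.t)⁻¹ = A.ep (-1, 0) := by
    rw [D.st_x, ← A.ep_x, ← A.ep_neg, Prod.neg_mk, neg_zero]
  have h2 : D.s * D.t * A.y * (D.s * D.t)⁻¹ = A.ep (0, -1) := by
    rw [A.st_y, ← A.ep_y, ← A.ep_neg, Prod.neg_mk, neg_zero]
  rw [expPair_act D.x_cube A.y_cube A.commute_xy h1 h2]
  refine Eq.trans (congrArg A.ep ?_) (A.ep_neg w)
  simp [act, Prod.ext_iff]

end Axes

end Cfsg.Agent.H23.GL23
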