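import Cfsg.Agent.H23.GL23.Order
import Cfsg.Agent.H23.GL23.Frame
import Cfsg.Agent.S0983

/-!
# The order is `5616` or `7920`
-/

set_option autoImplicit false
set_option maxHeartbeats 800000
set_option linter.style.haveILetI false

namespace Cfsg.Agent.H23.GL23

universe u

variable {G : Type u} [Group G] [Finite G]

/-- A simple group acts faithfully on the cosets of a proper subgroup. -/
theorem faithful_cosets [IsSimpleGroup G] (H : Subgroup G) (hH : H ≠ ⊤) :
    Function.Injective (MulAction.toPermHom G (G ⧸ H)) := by
  rw [← MonoidHom.ker_eq_bot_iff]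
  refine ((MulAction.toPermHom G (G ⧸ H)).normal_ker.eq_bot_or_eq_top).resolve_right fun h => hH ?_
  rw [Subgroup.eq_top_iff']
  intro g
  have hg : g ∈ (MulAction.toPermHom G (G ⧸ H)).ker := h ▸ Subgroup.mem_top g
  have h1 := congrArg (fun e : Equiv.Perm (G ⧸ H) => e ((1 : G) : G ⧸ H)) (MonoidHom.mem_ker.1 hg)
  simp only [MulAction.toPermHom_apply, MulAction.toPerm_apply, Equiv.Perm.one_apply,
    MulAction.Quotient.smul_mk, smul_eq_mul, mul_one] at h1
  simpa using QuotientGroup.eq.1 h1.symm

theorem no_hom_of_simple [IsSimpleGroup G] (hG : 2 < Nat.card G) :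
    ∀ f : G →* Multiplicative (ZMod 2), f = 1 := by
  intro f
  rcases f.normal_ker.eq_bot_or_eq_top with h | h
  · exfalso
    have h2 := Nat.card_le_card_of_injective f ((MonoidHom.ker_eq_bot_iff f).1 h)
    rw [show Nat.card (Multiplicative (ZMod 2)) = 2 from Nat.card_zmod 2] at h2
    omega
  · exact MonoidHom.ker_eq_top_iff.1 h

namespace Setup

variable (D : Setup G)

include D in
theorem card_gt : 48 ≤ Nat.card G := by
  have h := Subgroup.card_le_card_group (Subgroup.centralizer ({D.t} : Set G))
  rwa [D.card_centralizer] at h

include D in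
omit [Finite G] in
theorem not_commutative : ¬ IsMulCommutative G := by
  intro h
  have h' : ∀ a b : G, a * b = b * a := fun a b => h.is_comm.comm a b
  have := D.inc_injective (show D.inc (e3 * es) = D.inc (es * e3) by rw [map_mul, map_mul, h'])
  revert this
  decide +kernel

/-- The two possible orders. -/
theorem card_final [IsSimpleGroup G] (hone : ∀ v : G, orderOf v = 2 → IsConj D.t v) :
    Nat.card G = 5616 ∨ Nat.card G = 7920 := by
  cases nonempty_fintype G
  rcases D.card_cases hone with h | h | h | h
  · exfalso
    have hcard : Nat.card G = 16 * 27 * 5 := h.trans (by norm_num)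
    obtain ⟨A⟩ := D.exists_axes hone (by norm_num) (by norm_num) hcard
    have h432 := A.card_M0 (A.not_abelian hone (Or.inl rfl) hcard) hone
    have hidx : A.M0.index = 5 := by
      have := A.M0.card_mul_index
      rw [h432, hcard] at this
      omega
    have hle := Nat.card_le_card_of_injective _ (faithful_cosets A.M0 (fun ht => by
      rw [ht, Subgroup.index_top] at hidx; omega))
    rw [Nat.card_perm, ← Subgroup.index, hidx, h] at hle
    simp [Nat.factorial] at hle
  · exfalso
    rcases Cfsg.Agent.S0983.result D.not_commutative (by omega) (by omega) with e | e | e | e <;> omega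
  · exact Or.inl h
  · exact Or.inr h

end Setup

end Cfsg.Agent.H23.GL23
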