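import Cfsg.Agent.H23.GL23.Model

/-!
# Computed facts about the model of `GL(2,3)`
-/

set_option autoImplicit false
set_option maxHeartbeats 800000

namespace Cfsg.Agent.H23.GL23

/-- the central involution -/
def zc : M := ⟨31⟩

/-- a reflection -/
def rf : M := ⟨13⟩

theorem zc_mul_self : zc * zc = 1 := by decide +kernel

theorem zc_ne_one : zc ≠ 1 := by decide +kernel

theorem zc_comm : ∀ g : M, g * zc = zc * g := by decide +kernel

theorem zc_unique_center : ∀ g : M, (∀ h : M, g * h = h * g) → g = 1 ∨ g = zc := by decide +kernel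

theorem invol : ∀ g : M, g * g = 1 → g = 1 ∨ g = zc ∨ ∃ h : M, h * rf * h⁻¹ = g := by decide +kernel

theorem comm_zc : ∀ g : M, g ≠ 1 → g = zc ∨ ∃ h : M,
    g * h * g⁻¹ * h⁻¹ = zc ∨ g * h * g⁻¹ * h⁻¹ * (g * h * g⁻¹ * h⁻¹) = zc := by decide +kernel

/-- product of two involutions -/
def isPairProd (g : M) : Bool := decide (∃ x : M, x * x = 1 ∧ (x * g) * (x * g) = 1)

theorem invol_gen : ∀ g : M, ∃ a : M, isPairProd a = true ∧ isPairProd (a⁻¹ * g) = true := by
  decide +kernel

/-- an element of order eight -/
def oct : M := ⟨(Finset.univ.filter fun i : Fin 48 => (⟨i⟩ : M).code = 13).min.getD 0⟩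

theorem oct_pow : oct ^ 4 = zc := by decide +kernel

/-- membership in the semidihedral Sylow subgroup -/
def inSD (g : M) : Prop := g * oct * g⁻¹ = oct ∨ g * oct * g⁻¹ = oct * oct * oct

instance : DecidablePred inSD := fun g => by unfold inSD; infer_instance

theorem inSD_mul : ∀ a b : M, inSD a → inSD b → inSD (a * b) := by decide +kernel

theorem inSD_one : inSD 1 := by decide +kernel

theorem inSD_inv : ∀ a : M, inSD a → inSD a⁻¹ := by decide +kernel

/-- a Sylow 2-subgroup -/
def sd : Subgroup M where
  carrier := {g | inSD g}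
  mul_mem' := fun {a b} => inSD_mul a b
  one_mem' := inSD_one
  inv_mem' := fun {a} => inSD_inv a

instance : DecidablePred (· ∈ sd) := fun g => inferInstanceAs (Decidable (inSD g))

theorem card_M : Nat.card M = 48 := by rw [Nat.card_eq_fintype_card]; decide +kernel

theorem card_sd : Nat.card sd = 16 := by rw [Nat.card_eq_fintype_card]; decide +kernel

theorem sd_center : ∀ g : M, g * g = 1 → g ≠ 1 → (∀ s : M, inSD s → g * s = s * g) → g = zc := by
  decide +kernel

theorem zc_mem_sd : inSD zc := by decide +kernel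

/-- parity of the determinant -/
def par (g : M) : ZMod 2 :=
  if g.ent.1 * g.ent.2.2.2 - g.ent.2.1 * g.ent.2.2.1 = 1 then 0 else 1

theorem par_mul : ∀ a b : M, par (a * b) = par a + par b := by decide +kernel

theorem par_one : par 1 = 0 := by decide +kernel

theorem par_invol : ∀ g : M, g * g = 1 → g ≠ 1 → par g = 0 → g = zc := by decide +kernel

theorem par_rf : par rf = 1 := by decide +kernel

/-- elements having the central involution as a power -/
def isT (g : M) : Prop := ∃ k : Fin 9, g ^ (k : ℕ) = zc

instance : DecidablePred isT := fun g => by unfold isT; infer_instance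

theorem isT_unique : ∀ g : M, isT g → ∀ k : Fin 9, g ^ (k : ℕ) * g ^ (k : ℕ) = 1 →
    g ^ (k : ℕ) ≠ 1 → g ^ (k : ℕ) = zc := by decide +kernel

end Cfsg.Agent.H23.GL23
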