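import Cfsg.Agent.H23.GL23.Facts

/-!
# Elements of order three in the model, and small computations with exponents
-/

set_option autoImplicit false
set_option maxHeartbeats 800000

namespace Cfsg.Agent.H23.GL23

/-- the element of `M` with given code -/
def ofCode (c : ℕ) : M := ⟨(Finset.univ.filter fun i : Fin 48 => (⟨i⟩ : M).code = c).min.getD 0⟩

/-- an element of order three -/
def e3 : M := ofCode 37

/-- the diagonal involution `diag(1,-1)` -/
def es : M := ofCode 29

theorem e3_cube : e3 * e3 * e3 = 1 := by decide +kernel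

theorem e3_ne_one : e3 ≠ 1 := by decide +kernel

theorem es_mul_self : es * es = 1 := by decide +kernel

theorem es_ne_one : es ≠ 1 := by decide +kernel

theorem es_zc_ne_one : es * zc ≠ 1 := by decide +kernel

theorem es_inv_e3 : es * e3 * es⁻¹ = e3⁻¹ := by decide +kernel

theorem three_conj : ∀ g : M, g * g * g = 1 → g ≠ 1 → ∃ h : M, h * e3 * h⁻¹ = g := by decide +kernel

theorem comm_e3 : ∀ g : M, g * e3 = e3 * g → ∃ i : Fin 3, g = e3 ^ (i : ℕ) ∨ g = e3 ^ (i : ℕ) * zc := by
  decide +kernel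

theorem order_dvd : ∀ g : M, g ^ 24 = 1 := by decide +kernel

theorem three_pow : ∀ g : M, g ^ 3 = 1 → g * g * g = 1 := by decide +kernel

/-- coordinates -/
abbrev Vec := ZMod 3 × ZMod 3

/-- product of two exponent matrices applied to a vector -/
def act (u v w : Vec) : Vec := (w.1 * u.1 + w.2 * v.1, w.1 * u.2 + w.2 * v.2)

/-- on an axis -/
def isAxis (w : Vec) : Prop := w.1 = 0 ∨ w.2 = 0

instance : DecidablePred isAxis := fun w => by unfold isAxis; infer_instance

theorem axis_fix : ∀ z : Vec, ¬ isAxis z → ∀ u : Vec, isAxis u → ∀ v : Vec, isAxis v →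
    act u v z = z → act u v u = (1, 0) := by
  decide +kernel

theorem gen_word : ∀ g u l d₁ d₂ : M, u.ent = (1, 1, 0, 1) → l.ent = (1, 0, 1, 1) →
    d₁.ent = (1, 0, 0, 2) → d₂.ent = (2, 0, 0, 1) →
      ∃ a b c : Fin 3, ∃ e f : Fin 2,
        g = u ^ (a : ℕ) * l ^ (b : ℕ) * u ^ (c : ℕ) * d₁ ^ (e : ℕ) * d₂ ^ (f : ℕ) := by
  intro g u l d₁ d₂ hu hl hd₁ hd₂
  obtain rfl : u = ofCode 37 := ent_injective _ _ (hu.trans (by decide +kernel))
  obtain rfl : l = ofCode 31 := ent_injective _ _ (hl.trans (by decide +kernel))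
  obtain rfl : d₁ = ofCode 29 := ent_injective _ _ (hd₁.trans (by decide +kernel))
  obtain rfl : d₂ = ofCode 55 := ent_injective _ _ (hd₂.trans (by decide +kernel))
  revert g
  decide +kernel

end Cfsg.Agent.H23.GL23
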