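import Cfsg.Agent.H23.GL23.Facts
import Cfsg.Agent.S1853
import Cfsg.Agent.PGroups.Basic

/-!
# Local structure of a group with an involution centraliser `GL(2,3)`
-/

set_option autoImplicit false
set_option maxHeartbeats 800000
set_option linter.style.haveILetI false

namespace Cfsg.Agent.H23.GL23

universe u

/-- A group with an involution `t` and the identification of its centraliser. -/
structure Setup (G : Type u) [Group G] where
  /-- the involution -/
  t : G
  order_t : orderOf t = 2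
  /-- the embedding -/
  inc : M →* G
  inc_injective : Function.Injective inc
  inc_zc : inc zc = t
  inc_surj : ∀ g : G, g * t = t * g → ∃ d, inc d = g

theorem mul_self_of_order_two {G : Type u} [Group G] {g : G} (h : orderOf g = 2) : g * g = 1 := by
  rw [← pow_two, ← h]; exact pow_orderOf_eq_one g

theorem order_two_of_mul_self {G : Type u} [Group G] {g : G} (h : g * g = 1) (h1 : g ≠ 1) :
    orderOf g = 2 :=
  orderOf_eq_prime (by rw [pow_two]; exact h) h1

theorem ne_one_of_order_two {G : Type u} [Group G] {g : G} (h : orderOf g = 2) : g ≠ 1 := by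
  intro h1; rw [h1, orderOf_one] at h; omega

theorem orderOf_conj' {G : Type u} [Group G] (g v : G) : orderOf (g * v * g⁻¹) = orderOf v :=
  orderOf_injective (MulAut.conj g).toMonoidHom (MulAut.conj g).injective v

variable {G : Type u} [Group G] [Finite G]

omit [Finite G] in
/-- The setup given by an isomorphism of the centraliser with `GL(2,3)`. -/
theorem exists_setup (t : G) (ht : orderOf t = 2)
    (e : ↥(Subgroup.centralizer ({t} : Set G)) ≃* GL (Fin 2) (ZMod 3)) :
    ∃ D : Setup G, D.t = t := by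
  set C := Subgroup.centralizer ({t} : Set G)
  let E : M ≃* ↥C := equivGL.trans e.symm
  have htC : t ∈ C := Subgroup.mem_centralizer_singleton_iff.2 rfl
  have hc : ∀ h : M, E.symm ⟨t, htC⟩ * h = h * E.symm ⟨t, htC⟩ := by
    intro h
    apply E.injective
    rw [map_mul, map_mul, E.apply_symm_apply]
    exact Subtype.ext (Subgroup.mem_centralizer_singleton_iff.1 (E h).2).symm
  have hz : E zc = ⟨t, htC⟩ := by
    rcases zc_unique_center _ hc with h | h
    · exfalso
      have h' := congrArg E h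
      rw [E.apply_symm_apply, map_one] at h'
      exact ne_one_of_order_two ht (congrArg Subtype.val h')
    · rw [← h, E.apply_symm_apply]
  refine ⟨⟨t, ht, C.subtype.comp E.toMonoidHom, C.subtype_injective.comp E.injective,
    congrArg Subtype.val hz, fun g hg => ?_⟩, rfl⟩
  obtain ⟨d, hd⟩ := E.surjective ⟨g, Subgroup.mem_centralizer_singleton_iff.2 hg⟩
  exact ⟨d, congrArg Subtype.val hd⟩

namespace Setup

variable (D : Setup G)

omit [Finite G] in
theorem inc_comm (d : M) : D.inc d * D.t = D.t * D.inc d := by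
  rw [← D.inc_zc, ← map_mul, ← map_mul, zc_comm]

omit [Finite G] in
theorem inc_orderOf (d : M) : orderOf (D.inc d) = orderOf d :=
  orderOf_injective D.inc D.inc_injective d

omit [Finite G] in
theorem eq_zc_iff (d : M) : D.inc d = D.t ↔ d = zc := by
  rw [← D.inc_zc]; exact D.inc_injective.eq_iff

omit [Finite G] in
/-- the centraliser as an image -/
theorem centralizer_eq : Subgroup.centralizer ({D.t} : Set G) = D.inc.range := by
  refine le_antisymm (fun g hg => ?_) ?_
  · exact D.inc_surj g (Subgroup.mem_centralizer_singleton_iff.1 hg)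
  · rintro _ ⟨d, rfl⟩
    exact Subgroup.mem_centralizer_singleton_iff.2 (D.inc_comm d)

omit [Finite G] in
theorem card_centralizer : Nat.card ↥(Subgroup.centralizer ({D.t} : Set G)) = 48 := by
  rw [D.centralizer_eq, ← Nat.card_congr (MonoidHom.ofInjective D.inc_injective).toEquiv, card_M]

/-- the Sylow subgroup -/
theorem exists_sylow : ∃ S : Sylow 2 G, (S : Subgroup G) = sd.map D.inc := by
  haveI : Fact (Nat.Prime 2) := ⟨Nat.prime_two⟩
  set S0 := sd.map D.inc
  have hc : Nat.card S0 = 16 := by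
    rw [← Nat.card_congr (sd.equivMapOfInjective _ D.inc_injective).toEquiv, card_sd]
  obtain ⟨S, hS⟩ := (IsPGroup.of_card (p := 2) (n := 4) (G := ↥S0)
    (by rw [hc]; norm_num)).exists_le_sylow
  refine ⟨S, ?_⟩
  haveI : Nontrivial ↥(S : Subgroup G) := by
    refine ⟨⟨D.t, hS ?_⟩, 1, fun h => ne_one_of_order_two D.order_t (congrArg Subtype.val h)⟩
    exact ⟨zc, zc_mem_sd, D.inc_zc⟩
  obtain ⟨z, -, hzc, hz⟩ := Cfsg.Agent.PGroups.exists_mem_center_orderOf_eq S.isPGroup'
    (⊤ : Subgroup ↥(S : Subgroup G)) top_ne_bot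
  have hz2 : orderOf (z : G) = 2 := (Subgroup.orderOf_coe z).trans hz
  have hzall : ∀ s ∈ (S : Subgroup G), s * (z : G) = (z : G) * s := fun s hs =>
    congrArg Subtype.val (Subgroup.mem_center_iff.1 hzc ⟨s, hs⟩)
  obtain ⟨d, hd⟩ := D.inc_surj (z : G) (hzall D.t (hS ⟨zc, zc_mem_sd, D.inc_zc⟩)).symm
  have hzt : (z : G) = D.t := by
    rw [← hd, D.eq_zc_iff]
    refine sd_center d ?_ ?_ fun s hs => ?_
    · apply D.inc_injective
      rw [map_mul, map_one, hd]; exact mul_self_of_order_two hz2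
    · rintro rfl
      exact ne_one_of_order_two hz2 (by rw [← hd, map_one])
    · apply D.inc_injective
      rw [map_mul, map_mul, hd]
      exact (hzall _ (hS ⟨s, hs, rfl⟩)).symm
  have hle : (S : Subgroup G) ≤ Subgroup.centralizer ({D.t} : Set G) := fun s hs => by
    rw [Subgroup.mem_centralizer_singleton_iff, ← hzt]; exact hzall s hs
  refine (Subgroup.eq_of_le_of_card_ge hS ?_).symm
  obtain ⟨k, hk⟩ := IsPGroup.iff_card.1 S.isPGroup'
  have h48 : 2 ^ k ∣ 48 := hk ▸ D.card_centralizer ▸ Subgroup.card_dvd_of_le hle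
  have : k ≤ 4 := by
    by_contra hlt
    have h32 : 32 ∣ 48 := (Nat.pow_dvd_pow 2 (show 5 ≤ k by omega)).trans h48
    norm_num at h32
  rw [hc, hk]
  exact (Nat.pow_le_pow_right (by norm_num) this).trans_eq (by norm_num)

include D in
theorem sixteen_dvd_card : ∃ m : ℕ, Nat.card G = 16 * m ∧ Odd m := by
  haveI : Fact (Nat.Prime 2) := ⟨Nat.prime_two⟩
  obtain ⟨S, hS⟩ := D.exists_sylow
  refine ⟨(S : Subgroup G).index, ?_, ?_⟩
  · rw [← (S : Subgroup G).card_mul_index, hS,
      ← Nat.card_congr (sd.equivMapOfInjective _ D.inc_injective).toEquiv, card_sd]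
  · rw [Nat.odd_iff, ← Nat.two_dvd_ne_zero]
    exact S.not_dvd_index

/-- parity as a homomorphism -/
def parHom : M →* Multiplicative (ZMod 2) where
  toFun g := Multiplicative.ofAdd (par g)
  map_one' := by rw [par_one]; rfl
  map_mul' a b := by rw [par_mul]; rfl

/-- All involutions are conjugate when there is no homomorphism onto a group of order two. -/
theorem isConj_of_no_hom (hG : ∀ f : G →* Multiplicative (ZMod 2), f = 1) (v : G)
    (hv : orderOf v = 2) : IsConj D.t v := by
  haveI : Fact (Nat.Prime 2) := ⟨Nat.prime_two⟩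
  obtain ⟨S, hS⟩ := D.exists_sylow
  let E : ↥sd ≃* ↥(S : Subgroup G) :=
    (sd.equivMapOfInjective _ D.inc_injective).trans (MulEquiv.subgroupCongr hS.symm)
  let φ : ↥(S : Subgroup G) →* Multiplicative (ZMod 2) :=
    (parHom.comp sd.subtype).comp E.symm.toMonoidHom
  have hφ : ∀ (d : M) (_ : d ∈ sd) (h : D.inc d ∈ (S : Subgroup G)),
      φ ⟨D.inc d, h⟩ = Multiplicative.ofAdd (par d) := by
    intro d hd h
    have : E.symm ⟨D.inc d, h⟩ = ⟨d, hd⟩ := by
      rw [MulEquiv.symm_apply_eq]; exact Subtype.ext rfl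
    exact congrArg parHom (congrArg Subtype.val this)
  obtain ⟨R, hR⟩ := (IsPGroup.of_card (p := 2) (n := 1) (G := ↥(Subgroup.zpowers v))
    (by rw [Nat.card_zpowers, hv, pow_one])).exists_le_sylow
  obtain ⟨g, hg⟩ := MulAction.exists_smul_eq G R S
  have hwS : g * v * g⁻¹ ∈ (S : Subgroup G) := by
    rw [← hg]
    exact Subgroup.smul_mem_pointwise_smul v (MulAut.conj g) _ (hR (Subgroup.mem_zpowers v))
  have hw2 : orderOf (g * v * g⁻¹) = 2 := (orderOf_conj' g v).trans hv
  refine IsConj.trans ?_ (isConj_iff.2 ⟨g⁻¹, by group⟩ : IsConj (g * v * g⁻¹) v)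
  obtain ⟨d, hds, hd⟩ := Subgroup.mem_map.1 (hS ▸ hwS)
  have hdd : d * d = 1 := D.inc_injective (by
    rw [map_mul, hd, map_one]; exact mul_self_of_order_two hw2)
  have hd1 : d ≠ 1 := fun h => ne_one_of_order_two hw2 (by rw [← hd, h, map_one])
  by_cases hp : par d = 0
  · rw [← hd, par_invol d hdd hd1 hp, D.inc_zc]
  · obtain ⟨k, -, hk, hk1⟩ := Cfsg.Agent.S1853.exists_conj_mem S φ hG _ hw2 hwS
      (by
        have h' := hd ▸ hwS
        rw [show (⟨g * v * g⁻¹, hwS⟩ : ↥(S : Subgroup G)) = ⟨D.inc d, h'⟩ from Subtype.ext hd.symm,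
          hφ d hds]
        exact fun h => hp (congrArg Multiplicative.toAdd h))
      (Subgroup.zpowers (g * v * g⁻¹))
      (IsPGroup.of_card (n := 1) (by rw [Nat.card_zpowers, hw2, pow_one]))
      (Subgroup.mem_zpowers _)
      (Subgroup.zpowers_le.2 (Subgroup.mem_centralizer_singleton_iff.2 rfl))
    obtain ⟨d', hd's, hd'⟩ := Subgroup.mem_map.1 (hS ▸ hk)
    have hk2 : orderOf (k⁻¹ * (g * v * g⁻¹) * k) = 2 := by
      have := orderOf_conj' k⁻¹ (g * v * g⁻¹)
      rw [inv_inv] at this
      exact this.trans hw2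
    rw [show (⟨_, hk⟩ : ↥(S : Subgroup G)) = ⟨D.inc d', hd'.symm ▸ hk⟩ from Subtype.ext hd'.symm,
      hφ d' hd's] at hk1
    have he := par_invol d' (D.inc_injective (by
        rw [map_mul, hd', map_one]; exact mul_self_of_order_two hk2))
      (fun h => ne_one_of_order_two hk2 (by rw [← hd', h, map_one]))
      (congrArg Multiplicative.toAdd hk1)
    rw [he, D.inc_zc] at hd'
    exact (isConj_iff.2 ⟨k⁻¹, by rw [inv_inv]; exact hd'.symm⟩ : IsConj (g * v * g⁻¹) D.t).symm

/-- The group is simple when all involutions are conjugate. -/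
theorem isSimpleGroup (hone : ∀ v : G, orderOf v = 2 → IsConj D.t v) : IsSimpleGroup G := by
  haveI : Fact (Nat.Prime 2) := ⟨Nat.prime_two⟩
  haveI : Nontrivial G := ⟨⟨D.t, 1, ne_one_of_order_two D.order_t⟩⟩
  refine ⟨fun N hN => or_iff_not_imp_left.2 fun hbot => ?_⟩
  have heven : ∃ v ∈ N, orderOf v = 2 := by
    by_contra hno
    push Not at hno
    have hodd : ∀ n ∈ N, n * n = 1 → n = 1 := fun n hn h => by
      by_contra h1
      exact hno n hn (order_two_of_mul_self h h1)
    have hzN : D.t ∉ N := fun h => hno _ h D.order_t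
    -- the involutions invert `N`
    have hfix : ∀ n ∈ N, D.t * n = n * D.t → n = 1 := by
      intro n hn h
      obtain ⟨d, hd⟩ := D.inc_surj n h.symm
      by_contra hne
      have hd1 : d ≠ 1 := fun e => hne (by rw [← hd, e, map_one])
      rcases comm_zc d hd1 with e | ⟨h', e | e⟩
      · exact hzN (by rwa [← D.inc_zc, ← e, hd])
      · refine hzN ?_
        rw [← D.inc_zc, ← e, map_mul, map_mul, map_mul, map_inv, map_inv, hd,
          mul_assoc, mul_assoc n, ← mul_assoc (D.inc h') n⁻¹]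
        exact N.mul_mem hn (hN.conj_mem _ (N.inv_mem hn) _)
      · refine hzN ?_
        rw [← D.inc_zc, ← e, map_mul]
        have hm : D.inc (d * h' * d⁻¹ * h'⁻¹) ∈ N := by
          rw [map_mul, map_mul, map_mul, map_inv, map_inv, hd, mul_assoc, mul_assoc n,
            ← mul_assoc (D.inc h') n⁻¹]
          exact N.mul_mem hn (hN.conj_mem _ (N.inv_mem hn) _)
        exact N.mul_mem hm hm
    have hinv : ∀ v : G, orderOf v = 2 → ∀ n ∈ N, v * n * v⁻¹ = n⁻¹ := by
      intro v hv
      have hv1 : v * v = 1 := mul_self_of_order_two hv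
      have hv' : v⁻¹ = v := inv_eq_of_mul_eq_one_right hv1
      have hfix' : ∀ n ∈ N, v * n * v⁻¹ = n → n = 1 := by
        intro n hn h
        obtain ⟨k, rfl⟩ := isConj_iff.1 (hone v hv)
        have hm : k⁻¹ * n * k ∈ N := by simpa using hN.conj_mem n hn k⁻¹
        have h0 := hfix _ hm (by
          calc D.t * (k⁻¹ * n * k) = k⁻¹ * ((k * D.t * k⁻¹) * n * (k * D.t * k⁻¹)⁻¹) * k * D.t := by
                group
            _ = (k⁻¹ * n * k) * D.t := by rw [h])
        calc n = k * (k⁻¹ * n * k) * k⁻¹ := by group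
          _ = 1 := by rw [h0]; group
      have hinj : Function.Injective fun n : ↥N =>
          (⟨(n : G)⁻¹ * (v * n * v⁻¹), N.mul_mem (N.inv_mem n.2) (hN.conj_mem _ n.2 v)⟩ : ↥N) := by
        intro a b h
        have h' : (a : G)⁻¹ * (v * a * v⁻¹) = (b : G)⁻¹ * (v * b * v⁻¹) := congrArg Subtype.val h
        have : v * ((b : G) * (a : G)⁻¹) * v⁻¹ = (b : G) * (a : G)⁻¹ := by
          calc v * ((b : G) * (a : G)⁻¹) * v⁻¹ = (b : G) * ((b : G)⁻¹ * (v * b * v⁻¹)) *
                ((a : G) * ((a : G)⁻¹ * (v * a * v⁻¹)))⁻¹ := by group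
            _ = (b : G) * (a : G)⁻¹ := by rw [h']; group
        exact Subtype.ext (mul_inv_eq_one.1 (hfix' _ (N.mul_mem b.2 (N.inv_mem a.2)) this)).symm
      intro n hn
      obtain ⟨m, hm⟩ := Finite.surjective_of_injective hinj ⟨n, hn⟩
      have hm' : (m : G)⁻¹ * (v * m * v⁻¹) = n := congrArg Subtype.val hm
      rw [← hm', hv', mul_inv_rev, inv_inv]
      calc v * ((m : G)⁻¹ * (v * m * v)) * v = (v * (m : G)⁻¹ * v) * (m : G) * (v * v) := by group
        _ = (v * (m : G) * v)⁻¹ * (m : G) := by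
          rw [hv1, mul_one, mul_inv_rev, mul_inv_rev, hv', mul_assoc v]
    apply hbot
    rw [Subgroup.eq_bot_iff_forall]
    intro n hn
    have hr2 : orderOf (D.inc rf) = 2 := by
      rw [D.inc_orderOf]; exact order_two_of_mul_self (by decide +kernel) (by decide +kernel)
    have hrz2 : orderOf (D.inc (rf * zc)) = 2 := by
      rw [D.inc_orderOf]; exact order_two_of_mul_self (by decide +kernel) (by decide +kernel)
    have h1 := hinv _ hr2 n hn
    have h2 := hinv _ D.order_t n hn
    have h3 := hinv _ hrz2 n hn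
    rw [map_mul, D.inc_zc] at h3
    refine hodd n hn ?_
    rw [show D.inc rf * D.t * n * (D.inc rf * D.t)⁻¹ =
      D.inc rf * (D.t * n * D.t⁻¹) * (D.inc rf)⁻¹ by group, h2,
      show D.inc rf * n⁻¹ * (D.inc rf)⁻¹ = (D.inc rf * n * (D.inc rf)⁻¹)⁻¹ by group, h1, inv_inv] at h3
    nth_rw 2 [h3]; exact mul_inv_cancel n
  obtain ⟨v, hvN, hv⟩ := heven
  have hall : ∀ w : G, orderOf w = 2 → w ∈ N := by
    intro w hw
    obtain ⟨k, hk⟩ := isConj_iff.1 ((hone v hv).symm.trans (hone w hw))
    rw [← hk]; exact hN.conj_mem v hvN k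
  have hinvN : ∀ x : M, x * x = 1 → D.inc x ∈ N := fun x hx => by
    by_cases h1 : x = 1
    · rw [h1, map_one]; exact N.one_mem
    · exact hall _ ((D.inc_orderOf x).trans (order_two_of_mul_self hx h1))
  have hpair : ∀ a : M, isPairProd a = true → D.inc a ∈ N := by
    intro a ha
    obtain ⟨x, hx, hxa⟩ := of_decide_eq_true ha
    rw [show a = x * (x * a) by rw [← mul_assoc, hx, one_mul], map_mul]
    exact N.mul_mem (hinvN x hx) (hinvN _ hxa)
  have hCN : Subgroup.centralizer ({D.t} : Set G) ≤ N := by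
    rw [D.centralizer_eq]
    rintro _ ⟨g, rfl⟩
    obtain ⟨a, ha, hb⟩ := invol_gen g
    rw [show g = a * (a⁻¹ * g) by group, map_mul]
    exact N.mul_mem (hpair a ha) (hpair _ hb)
  obtain ⟨S, hS⟩ := D.exists_sylow
  have hSC : (S : Subgroup G) ≤ Subgroup.centralizer ({D.t} : Set G) := by
    rw [hS, D.centralizer_eq]; exact Subgroup.map_le_range _ _
  have htop := Sylow.normalizer_sup_eq_top' S (N := N) (hSC.trans hCN)
  rw [← htop]
  refine le_antisymm le_sup_right (sup_le ?_ le_rfl)
  intro n hn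
  refine hCN (Subgroup.mem_centralizer_singleton_iff.2 ?_)
  have htS : D.t ∈ (S : Subgroup G) := hS ▸ ⟨zc, zc_mem_sd, D.inc_zc⟩
  obtain ⟨d, hds, hd⟩ := Subgroup.mem_map.1 (hS ▸ (Subgroup.mem_normalizer_iff.1 hn D.t).1 htS)
  have ho : orderOf (n * D.t * n⁻¹) = 2 := (orderOf_conj' n D.t).trans D.order_t
  refine mul_inv_eq_iff_eq_mul.1 ?_
  rw [← hd, D.eq_zc_iff]
  refine sd_center d ?_ ?_ fun s hs => ?_
  · apply D.inc_injective
    rw [map_mul, map_one, hd]; exact mul_self_of_order_two ho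
  · rintro rfl
    exact ne_one_of_order_two ho (by rw [← hd, map_one])
  · apply D.inc_injective
    rw [map_mul, map_mul, hd]
    have h2 : n⁻¹ * D.inc s * n ∈ (S : Subgroup G) := by
      refine (Subgroup.mem_normalizer_iff.1 hn _).2 ?_
      rw [show n * (n⁻¹ * D.inc s * n) * n⁻¹ = D.inc s by group, hS]
      exact ⟨s, hs, rfl⟩
    have h3 : (n⁻¹ * D.inc s * n) * D.t = D.t * (n⁻¹ * D.inc s * n) :=
      Subgroup.mem_centralizer_singleton_iff.1 (hSC h2)
    calc n * D.t * n⁻¹ * D.inc s = n * (D.t * (n⁻¹ * D.inc s * n)) * n⁻¹ := by group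
      _ = n * ((n⁻¹ * D.inc s * n) * D.t) * n⁻¹ := by rw [h3]
      _ = D.inc s * (n * D.t * n⁻¹) := by group

end Setup

end Cfsg.Agent.H23.GL23
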