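import Cfsg.Agent.H23.GL23.Plane

/-!
# Groups with an involution centraliser `GL(2,3)`: the case of order `5616`
-/

set_option autoImplicit false
set_option linter.style.haveILetI false

namespace Cfsg.Agent.H23.GL23

universe u

variable {G : Type u} [Group G] [Finite G]

/-- The group of order `5616` is the linear group. -/
theorem Setup.nonempty_equiv_of_card (D : Setup G) [IsSimpleGroup G]
    (hone : ∀ v : G, orderOf v = 2 → IsConj D.t v) (h : Nat.card G = 5616) :
    Nonempty (G ≃* Matrix.ProjectiveSpecialLinearGroup (Fin 3) (ZMod 3)) := by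
  have hcard : Nat.card G = 16 * 27 * 13 := h.trans (by norm_num)
  obtain ⟨A⟩ := D.exists_axes hone (by norm_num) (by norm_num) hcard
  exact Axes.Good.nonempty_equiv (A := A)
    ⟨inferInstance, hone, A.not_abelian hone (Or.inr rfl) hcard, h⟩

end Cfsg.Agent.H23.GL23
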