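import Mathlib

/-!
# A model of the projective plane of order three and its collineations
-/

set_option autoImplicit false
set_option maxHeartbeats 800000

namespace Cfsg.Agent.H23.GL23.PlaneModel

/-- directions -/
def rep : Fin 4 → ZMod 3 × ZMod 3 := ![(1, 0), (0, 1), (1, 1), (1, 2)]

/-- coordinates of the thirteen points (and lines) -/
def crd (p : Fin 13) : ZMod 3 × ZMod 3 × ZMod 3 :=
  if h : p.val < 12 then ((rep ⟨p.val / 3, by omega⟩).1, (rep ⟨p.val / 3, by omega⟩).2, (p.val % 3 : ℕ))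
  else (0, 0, 1)

/-- incidence -/
def inc (i p : Fin 13) : Prop :=
  (crd i).1 * (crd p).1 + (crd i).2.1 * (crd p).2.1 + (crd i).2.2 * (crd p).2.2 = 0

instance (i : Fin 13) : DecidablePred (inc i) := fun p => by unfold inc; infer_instance

/-- the determinant -/
def det3 (a b c : ZMod 3 × ZMod 3 × ZMod 3) : ZMod 3 :=
  a.1 * b.2.1 * c.2.2 - a.1 * b.2.2 * c.2.1 - a.2.1 * b.1 * c.2.2 + a.2.1 * b.2.2 * c.1 +
    a.2.2 * b.1 * c.2.1 - a.2.2 * b.2.1 * c.1

/-- collinearity -/
def col (p q r : Fin 13) : Prop := det3 (crd p) (crd q) (crd r) = 0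

instance (p q r : Fin 13) : Decidable (col p q r) := by unfold col; infer_instance

/-- the line through two points -/
def ln (p q : Fin 13) : Fin 13 :=
  ((Finset.univ.filter fun i => inc i p ∧ inc i q).min).getD 0

theorem inc_ln : ∀ p q : Fin 13, inc (ln p q) p ∧ inc (ln p q) q := by decide +kernel

theorem col_iff : ∀ p q r : Fin 13, p ≠ q → (col p q r ↔ inc (ln p q) r) := by decide +kernel

theorem col_self : ∀ p r : Fin 13, col p p r := by decide +kernel

theorem line_unique : ∀ i p q : Fin 13, p ≠ q → inc i p → inc i q → i = ln p q := by decide +kernel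

theorem card_line : ∀ i : Fin 13, (Finset.univ.filter fun p => inc i p).card = 4 := by decide +kernel

theorem meet_unique : ∀ i j x : Fin 13, i ≠ j → inc i x → inc j x →
    (Finset.univ.filter fun y => inc i y ∧ inc j y) = {x} := by decide +kernel

theorem crd_ne : ∀ p : Fin 13, crd p ≠ 0 := by decide +kernel

theorem crd_scalar : ∀ p q : Fin 13, ∀ c : ZMod 3,
    crd q = (c * (crd p).1, c * (crd p).2.1, c * (crd p).2.2) → p = q := by decide +kernel

theorem crd_surj : ∀ v : ZMod 3 × ZMod 3 × ZMod 3, v ≠ 0 →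
    ∃ p : Fin 13, ∃ c : ZMod 3, c ≠ 0 ∧ v = (c * (crd p).1, c * (crd p).2.1, c * (crd p).2.2) := by
  decide +kernel

/-- collineations -/
def Aut : Subgroup (Equiv.Perm (Fin 13)) where
  carrier := {σ | ∀ p q r, col (σ p) (σ q) (σ r) ↔ col p q r}
  one_mem' := fun _ _ _ => Iff.rfl
  mul_mem' := fun {σ τ} hσ hτ p q r => (hσ (τ p) (τ q) (τ r)).trans (hτ p q r)
  inv_mem' := fun {σ} hσ p q r => by
    have := hσ (σ⁻¹ p) (σ⁻¹ q) (σ⁻¹ r)
    simpa using this.symm

theorem mem_Aut {σ : Equiv.Perm (Fin 13)} : σ ∈ Aut ↔ ∀ p q r, col (σ p) (σ q) (σ r) ↔ col p q r :=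
  Iff.rfl

/-- a quadrangle -/
def q0 : Fin 13 := 0
/-- a quadrangle -/
def q1 : Fin 13 := 3
/-- a quadrangle -/
def q2 : Fin 13 := 12
/-- a quadrangle -/
def q3 : Fin 13 := 7

theorem meet_fixed {σ : Equiv.Perm (Fin 13)} (hσ : σ ∈ Aut) {a b c d x : Fin 13}
    (ha : σ a = a) (hb : σ b = b) (hc : σ c = c) (hd : σ d = d)
    (h : a ≠ b ∧ c ≠ d ∧ ln a b ≠ ln c d ∧ inc (ln a b) x ∧ inc (ln c d) x) : σ x = x := by
  obtain ⟨hab, hcd, hne, hx1, hx2⟩ := h
  have h1 : inc (ln a b) (σ x) := by
    have := (hσ a b x).2 ((col_iff a b x hab).2 hx1)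
    rw [ha, hb] at this
    exact (col_iff a b _ hab).1 this
  have h2 : inc (ln c d) (σ x) := by
    have := (hσ c d x).2 ((col_iff c d x hcd).2 hx2)
    rw [hc, hd] at this
    exact (col_iff c d _ hcd).1 this
  have := meet_unique _ _ _ hne hx1 hx2
  exact Finset.mem_singleton.1 (this ▸ Finset.mem_filter.2 ⟨Finset.mem_univ _, h1, h2⟩)

theorem eq_one_of_quad {σ : Equiv.Perm (Fin 13)} (hσ : σ ∈ Aut) (h0 : σ q0 = q0) (h3 : σ q1 = q1)
    (h12 : σ q2 = q2) (h7 : σ q3 = q3) : σ = 1 := by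
  change σ (0 : Fin 13) = 0 at h0
  change σ (3 : Fin 13) = 3 at h3
  change σ (12 : Fin 13) = 12 at h12
  change σ (7 : Fin 13) = 7 at h7
  have h6 : σ (6 : Fin 13) = 6 := meet_fixed hσ h0 h3 h12 h7 (by decide +kernel)
  have h1 : σ (1 : Fin 13) = 1 := meet_fixed hσ h0 h12 h3 h7 (by decide +kernel)
  have h4 : σ (4 : Fin 13) = 4 := meet_fixed hσ h0 h7 h3 h12 (by decide +kernel)
  have h9 : σ (9 : Fin 13) = 9 := meet_fixed hσ h0 h3 h1 h4 (by decide +kernel)
  have h2 : σ (2 : Fin 13) = 2 := meet_fixed hσ h0 h12 h7 h9 (by decide +kernel)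
  have h11 : σ (11 : Fin 13) = 11 := meet_fixed hσ h0 h7 h3 h2 (by decide +kernel)
  have h5 : σ (5 : Fin 13) = 5 := meet_fixed hσ h3 h12 h7 h9 (by decide +kernel)
  have h10 : σ (10 : Fin 13) = 10 := meet_fixed hσ h0 h5 h3 h7 (by decide +kernel)
  have h8 : σ (8 : Fin 13) = 8 := meet_fixed hσ h0 h5 h3 h2 (by decide +kernel)
  refine Equiv.ext fun x => ?_
  fin_cases x <;> assumption

/-- the ordered quadrangles -/
def quads : Finset (Σ _ : Fin 13, Σ _ : Fin 13, Fin 13 × Fin 13) :=
  Finset.univ.sigma fun a => (Finset.univ.filter fun b => b ≠ a).sigma fun b =>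
    (Finset.univ.filter fun p : Fin 13 × Fin 13 =>
      ¬ col a b p.1 ∧ ¬ col a b p.2 ∧ ¬ col a p.1 p.2 ∧ ¬ col b p.1 p.2)

/-- table of collinear triples -/
def colTable : ℕ := 23062010546918832189030503744586030586534643525587644918639769734143514549682335817926342105236066075543164729653302983852005475222554368797402033852518792796117587480300044104504263903202832214726092095160624173212010514702109229060488305539530332054102965259840963682516268364272011744728927564232203330076517590410155478856634867908240990380633739090105667950880919346746162356213748834003920196377501371451124909788660875870957760179156390463150492661278851877841782867727450072799418577196255123700666449987735328591777219324394467893427216971547860261179132191021046213739878068025127110465616738578709949070189252382546197625966935274168778023907983687679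

/-- collinearity read from the table -/
def colB (p q r : Fin 13) : Bool := colTable.testBit (169 * p.val + 13 * q.val + r.val)

theorem colB_eq : ∀ p q r : Fin 13, colB p q r = decide (col p q r) := by decide +kernel

theorem card_quad_rowB : ∀ a b : Fin 13, b ≠ a → (Finset.univ.filter fun p : Fin 13 × Fin 13 =>
    colB a b p.1 = false ∧ colB a b p.2 = false ∧ colB a p.1 p.2 = false ∧ colB b p.1 p.2 = false).card =
      36 := by
  decide +kernel

theorem card_quad_row (a b : Fin 13) (h : b ≠ a) : (Finset.univ.filter fun p : Fin 13 × Fin 13 =>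
    ¬ col a b p.1 ∧ ¬ col a b p.2 ∧ ¬ col a p.1 p.2 ∧ ¬ col b p.1 p.2).card = 36 := by
  rw [← card_quad_rowB a b h]
  congr 1
  ext p
  simp [colB_eq]

theorem card_quads : quads.card = 5616 := by
  rw [quads, Finset.card_sigma]
  have h : ∀ a : Fin 13, ((Finset.univ.filter fun b => b ≠ a).sigma fun b =>
      (Finset.univ.filter fun p : Fin 13 × Fin 13 =>
      ¬ col a b p.1 ∧ ¬ col a b p.2 ∧ ¬ col a p.1 p.2 ∧ ¬ col b p.1 p.2)).card = 432 := by
    intro a
    rw [Finset.card_sigma, Finset.sum_congr rfl fun b hb => card_quad_row a b (Finset.mem_filter.1 hb).2,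
      Finset.sum_const, Finset.filter_ne', Finset.card_erase_of_mem (Finset.mem_univ a)]
    simp
  rw [Finset.sum_congr rfl fun a _ => h a]
  simp

theorem q_spec : q1 ≠ q0 ∧ ¬ col q0 q1 q2 ∧ ¬ col q0 q1 q3 ∧ ¬ col q0 q2 q3 ∧ ¬ col q1 q2 q3 := by
  decide +kernel

theorem card_Aut_le : Nat.card ↥Aut ≤ 5616 := by
  have hmem : ∀ σ : ↥Aut,
      (⟨σ.1 q0, σ.1 q1, σ.1 q2, σ.1 q3⟩ : Σ _ : Fin 13, Σ _ : Fin 13, Fin 13 × Fin 13) ∈ quads := by
    intro σ
    simp only [quads, Finset.mem_sigma, Finset.mem_univ, Finset.mem_filter, true_and, ne_eq,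
      EmbeddingLike.apply_eq_iff_eq]
    obtain ⟨h0, h1, h2, h3, h4⟩ := q_spec
    exact ⟨h0, by rwa [σ.2], by rwa [σ.2], by rwa [σ.2], by rwa [σ.2]⟩
  have hinj : Function.Injective fun σ : ↥Aut => (⟨_, hmem σ⟩ : ↥quads) := by
    intro σ τ h
    simp only [Subtype.mk.injEq, Sigma.mk.injEq, heq_eq_eq, Prod.mk.injEq] at h
    obtain ⟨e0, e1, e2, e3⟩ := h
    have := eq_one_of_quad (σ := (τ⁻¹ * σ).1) (τ⁻¹ * σ).2
    refine inv_mul_eq_one.1 (Subtype.ext (this ?_ ?_ ?_ ?_)) |>.symm <;>
      simp [e0, e1, e2, e3]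
  refine (Nat.card_le_card_of_injective _ hinj).trans (le_of_eq ?_)
  rw [Nat.card_eq_fintype_card, Fintype.card_coe, card_quads]

end Cfsg.Agent.H23.GL23.PlaneModel
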