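import Cfsg.Agent.H23.GL23.Cases
import Cfsg.Agent.H23.GL23.PlaneModel

/-!
# The action on thirteen points
-/

set_option autoImplicit false
set_option maxHeartbeats 800000
set_option linter.style.haveILetI false

namespace Cfsg.Agent.H23.GL23

open PlaneModel (rep)

universe u

/-- the four lines of the plane through the origin -/
def dot2 (j : Fin 4) (w : Vec) : ZMod 3 := (rep j).1 * w.1 + (rep j).2 * w.2

/-- the lines as sets -/
def line (j : Fin 4) : Finset Vec := Finset.univ.filter fun w => dot2 j w = 0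

/-- linear image -/
def mact (d : M) (w : Vec) : Vec := act (d.ent.1, d.ent.2.2.1) (d.ent.2.1, d.ent.2.2.2) w

theorem line_card : ∀ j : Fin 4, (line j).card = 3 := by decide +kernel

theorem line_ne : ∀ i j : Fin 4, line i = line j → i = j := by decide +kernel

theorem line_ne_univ : ∀ j : Fin 4, ∃ w, w ∉ line j := by decide +kernel

theorem line_trans : ∀ i j : Fin 4, ∃ d : M, (line i).image (mact d) = line j := by decide +kernel

theorem mact_inv : ∀ d : M, ∀ w : Vec, mact d⁻¹ (mact d w) = w := by decide +kernel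

theorem sub_cases : ∀ S : Finset Vec, (0 : Vec) ∈ S → (∀ u ∈ S, ∀ v ∈ S, u + v ∈ S) →
    S = {0} ∨ S = Finset.univ ∨ ∃ j, S = line j := by
  intro S h0 hadd
  revert h0 hadd
  revert S
  decide +kernel

theorem fix_one_line : ∀ d : M, d * d * d = 1 → d ≠ 1 → ∀ i j : Fin 4,
    (∀ w ∈ line i, mact d w ∈ line i) → (∀ w ∈ line j, mact d w ∈ line j) → i = j := by
  decide +kernel

theorem norm_three : ∀ d : M, d * d * d = 1 → d ≠ 1 →
    (Finset.univ.filter fun c : M => c * d * c⁻¹ = d ∨ c * d * c⁻¹ = d⁻¹).card = 12 := by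
  decide +kernel

theorem line_sub : ∀ j : Fin 4, ∀ v w : Vec, dot2 j v = dot2 j w → v - w ∈ line j := by decide +kernel

theorem neg_line : ∀ j : Fin 4, ∀ w : Vec, -w ∈ line j → w ∈ line j := by decide +kernel

theorem half : ∀ j : Fin 4, ∀ w : Vec, w + w ∈ line j → w ∈ line j := by decide +kernel

theorem to_x : ∀ w : Vec, w ≠ 0 → ∃ d : M, mact d (1, 0) = w := by decide +kernel

variable {G : Type u} [Group G] [Finite G] {D : Setup G}

namespace Axes

variable (A : Axes D)

/-- the points -/
abbrev Pts : Type u := G ⧸ A.M0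

/-- the base point -/
noncomputable def base : A.Pts := ((1 : G) : G ⧸ A.M0)

theorem smul_base {g : G} : g • A.base = A.base ↔ g ∈ A.M0 := by
  rw [base, MulAction.Quotient.smul_mk, QuotientGroup.eq, smul_eq_mul, mul_one, mul_one,
    inv_mem_iff]

theorem transitive (p : A.Pts) : ∃ g : G, g • A.base = p := MulAction.exists_smul_eq G _ _

theorem ep_M0 (w : Vec) : A.ep w ∈ A.M0 := Subgroup.le_normalizer (A.ep_mem w)

/-- elements of the plane fixing a point -/
noncomputable def W (p : A.Pts) : Finset Vec := by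
  classical exact Finset.univ.filter fun w => A.ep w • p = p

theorem mem_W {p : A.Pts} {w : Vec} : w ∈ A.W p ↔ A.ep w • p = p := by
  classical simp [W]

theorem W_cases (p : A.Pts) : A.W p = {0} ∨ A.W p = Finset.univ ∨ ∃ j, A.W p = line j :=
  sub_cases _ (A.mem_W.2 (by rw [A.ep_zero, one_smul]))
    (fun u hu v hv => A.mem_W.2 (by rw [A.ep_add, mul_smul, A.mem_W.1 hv, A.mem_W.1 hu]))

theorem W_smul {g : G} {d : M} (h : A.Acts g d) (p : A.Pts) :
    A.W (g • p) = (A.W p).image (mact d) := by
  classical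
  ext w
  rw [Finset.mem_image, mem_W]
  constructor
  · intro hw
    refine ⟨mact d⁻¹ w, A.mem_W.2 ?_, ?_⟩
    · have he : A.ep w = g * A.ep (mact d⁻¹ w) * g⁻¹ := by
        rw [h.ep]
        exact congrArg A.ep (by simpa [mact, inv_inv] using (mact_inv d⁻¹ w).symm)
      rw [he, mul_smul, mul_smul, inv_smul_smul] at hw
      exact MulAction.injective g hw
    · simpa [inv_inv] using mact_inv d⁻¹ w
  · rintro ⟨v, hv, rfl⟩
    have he : A.ep (mact d v) = g * A.ep v * g⁻¹ := (h.ep v).symm
    rw [he, mul_smul, mul_smul, inv_smul_smul, A.mem_W.1 hv]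

theorem W_ep (v : Vec) (p : A.Pts) : A.W (A.ep v • p) = A.W p := by
  classical
  ext w
  rw [mem_W, mem_W, ← mul_smul, ← A.ep_add, add_comm, A.ep_add, mul_smul]
  exact (MulAction.injective _).eq_iff

/-- the orbit of the plane -/
noncomputable def orb (p : A.Pts) : Finset A.Pts := by
  classical exact Finset.univ.image fun w => A.ep w • p

theorem ep_eq_iff {p : A.Pts} {v w : Vec} : A.ep v • p = A.ep w • p ↔ v - w ∈ A.W p := by
  rw [mem_W]
  constructor
  · intro h
    rw [show A.ep (v - w) = A.ep (-w) * A.ep v by rw [← A.ep_add]; congr 1; abel, mul_smul, h,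
      ← mul_smul, ← A.ep_add, neg_add_cancel, A.ep_zero, one_smul]
  · intro h
    calc A.ep v • p = A.ep w • (A.ep (v - w) • p) := by rw [← mul_smul, ← A.ep_add]; congr 2; abel
      _ = A.ep w • p := by rw [h]

theorem card_orb_of_trivial {p : A.Pts} (h : A.W p = {0}) : (A.orb p).card = 9 := by
  classical
  rw [orb, Finset.card_image_of_injective _ fun v w e => sub_eq_zero.1
    (Finset.mem_singleton.1 (h ▸ A.ep_eq_iff.1 e)), Finset.card_univ, Fintype.card_prod, ZMod.card]

theorem three_le_orb {p : A.Pts} {j : Fin 4} (h : A.W p = line j) : 3 ≤ (A.orb p).card := by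
  classical
  obtain ⟨w, hw⟩ := line_ne_univ j
  have h1 : ({p, A.ep w • p, A.ep (w + w) • p} : Finset A.Pts) ⊆ A.orb p := by
    intro q hq
    simp only [Finset.mem_insert, Finset.mem_singleton] at hq
    rcases hq with rfl | rfl | rfl
    · exact Finset.mem_image.2 ⟨0, Finset.mem_univ _, by rw [A.ep_zero, one_smul]⟩
    · exact Finset.mem_image.2 ⟨w, Finset.mem_univ _, rfl⟩
    · exact Finset.mem_image.2 ⟨w + w, Finset.mem_univ _, rfl⟩
  refine le_trans (le_of_eq ?_) (Finset.card_le_card h1)
  symm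
  refine Finset.card_eq_three.2 ⟨_, _, _, ?_, ?_, ?_, rfl⟩
  · exact fun e => hw (h ▸ A.mem_W.2 e.symm)
  · exact fun e => hw (half j w (h ▸ A.mem_W.2 e.symm))
  · intro e
    have := A.ep_eq_iff.1 e
    rw [sub_add_cancel_left, h] at this
    exact hw (neg_line j w this)

theorem mem_orb_W {p q : A.Pts} (h : q ∈ A.orb p) : A.W q = A.W p := by
  classical
  obtain ⟨w, -, rfl⟩ := Finset.mem_image.1 h
  exact A.W_ep w p

theorem base_notMem_orb {p : A.Pts} (hp : p ≠ A.base) : A.base ∉ A.orb p := by
  classical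
  intro h
  obtain ⟨w, -, hw⟩ := Finset.mem_image.1 h
  exact hp (MulAction.injective (A.ep w) (hw.trans (A.smul_base.2 (A.ep_M0 w)).symm))

/-- Points other than the base fixed by the plane fall in sets of size at least four. -/
theorem four_le_fixed (hna : A.y * A.z ≠ A.z * A.y) (hone : ∀ v : G, orderOf v = 2 → IsConj D.t v)
    {p : A.Pts} (hp : p ≠ A.base) (hfix : A.W p = Finset.univ) :
    4 ≤ Nat.card {q : A.Pts // q ≠ A.base ∧ A.W q = Finset.univ} := by
  classical
  obtain ⟨k, rfl⟩ := A.transitive p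
  have hk : k ∉ A.M0 := fun h => hp (A.smul_base.2 h)
  -- the image of the plane in the other stabiliser
  have hmem : ∀ w, k⁻¹ * A.ep w * k ∈ A.M0 := fun w => A.smul_base.1 (by
    rw [mul_smul, mul_smul, A.mem_W.1 (hfix ▸ Finset.mem_univ w), inv_smul_smul])
  set P' : Subgroup ↥A.M0 := (A.plane.map (MulAut.conj k⁻¹).toMonoidHom).subgroupOf A.M0
  have hP'mem : ∀ g : ↥A.M0, g ∈ P' ↔ k * g * k⁻¹ ∈ A.plane := by
    intro g
    rw [Subgroup.mem_subgroupOf, Subgroup.mem_map]
    constructor
    · rintro ⟨a, ha, e⟩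
      rw [← e]
      change k * (k⁻¹ * a * k⁻¹⁻¹) * k⁻¹ ∈ A.plane
      rwa [show k * (k⁻¹ * a * k⁻¹⁻¹) * k⁻¹ = a by group]
    · intro h
      refine ⟨_, h, ?_⟩
      change k⁻¹ * (k * g * k⁻¹) * k⁻¹⁻¹ = g
      group
  have hP'card : Nat.card ↥P' = 9 := by
    rw [Nat.card_congr (Subgroup.subgroupOfEquivOfLe (show A.plane.map (MulAut.conj k⁻¹).toMonoidHom ≤ A.M0 by
      rintro _ ⟨_, ⟨w, rfl⟩, rfl⟩
      change k⁻¹ * A.ep w * k⁻¹⁻¹ ∈ A.M0
      rw [inv_inv]
      exact hmem w)).toEquiv, Subgroup.card_map_of_injective (MulAut.conj k⁻¹).injective,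
      A.card_plane]
  -- some element is outside the plane
  obtain ⟨g₀, hg₀, hg₀n⟩ : ∃ g ∈ P', (g : G) ∉ A.plane := by
    by_contra h
    push Not at h
    refine hk ?_
    have hle : A.plane.map (MulAut.conj k⁻¹).toMonoidHom ≤ A.plane := by
      rintro _ ⟨_, ⟨w, rfl⟩, rfl⟩
      change k⁻¹ * A.ep w * k⁻¹⁻¹ ∈ A.plane
      rw [inv_inv]
      refine h ⟨_, hmem w⟩ ((hP'mem _).2 ?_)
      rw [show k * (k⁻¹ * A.ep w * k) * k⁻¹ = A.ep w by group]
      exact A.ep_mem w
    have heq := Subgroup.eq_of_le_of_card_ge hle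
      (le_of_eq (Subgroup.card_map_of_injective (MulAut.conj k⁻¹).injective).symm)
    refine inv_mem_iff.1 (show k⁻¹ ∈ A.M0 from ?_)
    rw [M0, Subgroup.mem_normalizer_iff]
    intro a
    constructor
    · intro ha
      rw [← heq]
      exact ⟨a, ha, rfl⟩
    · intro ha
      rw [← heq] at ha
      obtain ⟨b, hb, e⟩ := ha
      rwa [← (MulAut.conj k⁻¹).injective (e : (MulAut.conj k⁻¹) b = (MulAut.conj k⁻¹) a)]
  set d := A.mat g₀
  have hd1 : d ≠ 1 := fun h => hg₀n ((A.mat_ker hna _).1 h)
  have hd3 : d * d * d = 1 := by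
    obtain ⟨w, hw⟩ := (hP'mem g₀).1 hg₀
    have hw3 : A.ep w * A.ep w * A.ep w = 1 := by
      rw [← A.ep_add, ← A.ep_add, show w + w + w = 0 from (by decide : ∀ w : Vec, w + w + w = 0) w,
        A.ep_zero]
    have hg : g₀ * g₀ * g₀ = 1 := Subtype.ext (by
      change (g₀ : G) * g₀ * g₀ = 1
      have he : (g₀ : G) = k⁻¹ * A.ep w * k := by
        rw [show A.ep w = k * g₀ * k⁻¹ from hw]; group
      rw [he, show k⁻¹ * A.ep w * k * (k⁻¹ * A.ep w * k) * (k⁻¹ * A.ep w * k) =
        k⁻¹ * (A.ep w * A.ep w * A.ep w) * k by group, hw3]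
      group)
    rw [← map_mul, ← map_mul, hg, map_one]
  -- the image of `P'` is generated by `d`
  have hd_ord : orderOf d = 3 := orderOf_eq_prime (by rw [pow_succ, pow_two]; exact hd3) hd1
  have himg : P'.map A.mat = Subgroup.zpowers d := by
    refine (Subgroup.eq_of_le_of_card_ge (Subgroup.zpowers_le.2 (Subgroup.mem_map_of_mem A.mat hg₀)) ?_).symm
    rw [Nat.card_zpowers, hd_ord]
    refine Nat.le_of_dvd (by norm_num) ?_
    have h1 : Nat.card ↥(P'.map A.mat) ∣ 9 := hP'card ▸ Subgroup.card_map_dvd _ _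
    have h2 : Nat.card ↥(P'.map A.mat) ∣ 48 := card_M ▸ Subgroup.card_subgroup_dvd_card _
    exact (Nat.dvd_gcd h1 h2).trans (dvd_of_eq (by norm_num))
  -- the two-point stabiliser
  set H : Subgroup ↥A.M0 := (MulAction.stabilizer G (k • A.base)).subgroupOf A.M0
  have hH : Nat.card ↥H ∣ 108 := by
    set f : ↥H →* ↥A.M0 :=
      { toFun := fun g => ⟨k⁻¹ * ((g : ↥A.M0) : G) * k, A.smul_base.1 (by
          rw [mul_smul, mul_smul, MulAction.mem_stabilizer_iff.1 (Subgroup.mem_subgroupOf.1 g.2),
            inv_smul_smul])⟩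
        map_one' := Subtype.ext (by simp)
        map_mul' := fun a b => Subtype.ext (by simp [mul_assoc]) }
    have hfinj : Function.Injective f := fun a b e =>
      Subtype.ext (Subtype.ext (mul_left_cancel (mul_right_cancel (congrArg Subtype.val e))))
    set J := f.range
    have hJ : Nat.card ↥J = Nat.card ↥H := (Nat.card_congr (MonoidHom.ofInjective hfinj).toEquiv).symm
    let NN : Subgroup M := Subgroup.normalizer (Subgroup.zpowers d : Set M)
    have hJN : J.map A.mat ≤ NN := by
      rintro _ ⟨_, ⟨g, rfl⟩, rfl⟩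
      have hnorm : ∀ e ∈ P', f g * e * (f g)⁻¹ ∈ P' := by
        intro e he
        rw [hP'mem] at he ⊢
        change k * (k⁻¹ * ((g : ↥A.M0) : G) * k * e * (k⁻¹ * ((g : ↥A.M0) : G) * k)⁻¹) * k⁻¹ ∈ A.plane
        rw [show k * (k⁻¹ * ((g : ↥A.M0) : G) * k * e * (k⁻¹ * ((g : ↥A.M0) : G) * k)⁻¹) * k⁻¹ =
          ((g : ↥A.M0) : G) * (k * e * k⁻¹) * ((g : ↥A.M0) : G)⁻¹ by group]
        exact (Subgroup.mem_normalizer_iff.1 (g : ↥A.M0).2 _).1 he
      have hstep : ∀ a ∈ Subgroup.zpowers d,
          A.mat (f g) * a * (A.mat (f g))⁻¹ ∈ Subgroup.zpowers d := by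
        rw [← himg]
        rintro _ ⟨e, he, rfl⟩
        exact ⟨_, hnorm e he, by rw [map_mul, map_mul, map_inv]⟩
      rw [Subgroup.mem_normalizer_iff]
      intro a
      refine ⟨hstep a, fun ha => ?_⟩
      obtain ⟨b, hb⟩ := Finite.surjective_of_injective
        (f := fun a : ↥(Subgroup.zpowers d) =>
          (⟨A.mat (f g) * a * (A.mat (f g))⁻¹, hstep a a.2⟩ : ↥(Subgroup.zpowers d)))
        (fun b c e => Subtype.ext (mul_left_cancel (mul_right_cancel (congrArg Subtype.val e))))
        ⟨_, ha⟩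
      have := mul_left_cancel (mul_right_cancel (congrArg Subtype.val hb))
      exact this ▸ b.2
    have hNN : Nat.card ↥NN = 12 := by
      rw [← norm_three d hd3 hd1, ← Nat.card_eq_finsetCard]
      refine Nat.card_congr (Equiv.subtypeEquivRight fun c => ?_)
      rw [Finset.mem_filter]
      simp only [Finset.mem_univ, true_and]
      constructor
      · intro hc
        have hcd := (Subgroup.mem_normalizer_iff.1 hc d).1 (Subgroup.mem_zpowers d)
        obtain ⟨i, hi⟩ := Subgroup.mem_zpowers_iff.1 hcd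
        rw [← hi, zpow_eq_zpow_emod' i (show d ^ 3 = 1 by rw [pow_succ, pow_two]; exact hd3)]
        rcases (show i % 3 = 0 ∨ i % 3 = 1 ∨ i % 3 = 2 by omega) with e | e | e <;>
          simp only [Nat.cast_ofNat, e]
        · exfalso
          have h1 : d ^ i = 1 := by
            rw [zpow_eq_zpow_emod' i (show d ^ 3 = 1 by rw [pow_succ, pow_two]; exact hd3)]
            simp [e]
          rw [h1] at hi
          exact hd1 (conj_eq_one_iff.1 hi.symm)
        · exact Or.inl (zpow_one d)
        · exact Or.inr (by rw [zpow_two]; exact (inv_eq_of_mul_eq_one_left hd3).symm)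
      · intro hc
        have hpm : ∀ a ∈ Subgroup.zpowers d, c * a * c⁻¹ ∈ Subgroup.zpowers d := by
          intro a ha
          obtain ⟨i, rfl⟩ := Subgroup.mem_zpowers_iff.1 ha
          have h := map_zpow (MulAut.conj c) d i
          simp only [MulAut.conj_apply] at h
          rw [h]
          rcases hc with e | e <;> rw [e]
          · exact Subgroup.zpow_mem_zpowers _ _
          · exact Subgroup.zpow_mem _ (Subgroup.inv_mem _ (Subgroup.mem_zpowers _)) _
        rw [Subgroup.mem_normalizer_iff]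
        intro a
        refine ⟨hpm a, fun ha => ?_⟩
        obtain ⟨b, hb⟩ := Finite.surjective_of_injective
          (f := fun a : ↥(Subgroup.zpowers d) =>
            (⟨c * a * c⁻¹, hpm a a.2⟩ : ↥(Subgroup.zpowers d)))
          (fun b e h => Subtype.ext (mul_left_cancel (mul_right_cancel (congrArg Subtype.val h))))
          ⟨_, ha⟩
        have := mul_left_cancel (mul_right_cancel (congrArg Subtype.val hb))
        exact this ▸ b.2
    set fJ := A.mat.comp J.subtype
    have hker : Nat.card ↥fJ.ker ∣ 9 := by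
      let i : ↥fJ.ker →* ↥A.plane :=
        { toFun := fun g => ⟨((g : ↥J) : ↥A.M0), (A.mat_ker hna _).1 g.2⟩
          map_one' := rfl
          map_mul' := fun _ _ => rfl }
      rw [← A.card_plane]
      exact Subgroup.card_dvd_of_injective i
        (fun a b e => Subtype.ext (Subtype.ext (Subtype.ext
          (congrArg (fun w : ↥A.plane => (w : G)) e))))
    have hrange : Nat.card ↥fJ.range ∣ 12 := by
      rw [← hNN]
      refine Subgroup.card_dvd_of_le ?_
      rw [MonoidHom.range_comp, Subgroup.range_subtype]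
      exact hJN
    rw [← hJ, ← fJ.ker.card_mul_index, Subgroup.index_ker]
    exact Nat.mul_dvd_mul hker hrange
  -- the orbit
  let O := MulAction.orbit ↥A.M0 (k • A.base)
  have hOc : Nat.card ↥O * Nat.card ↥H = 432 := by
    rw [← A.card_M0 hna hone, ← H.card_mul_index, mul_comm]
    congr 1
    have hHs : H = MulAction.stabilizer ↥A.M0 (k • A.base) := by
      ext g
      rw [Subgroup.mem_subgroupOf, MulAction.mem_stabilizer_iff, MulAction.mem_stabilizer_iff]
      rfl
    rw [hHs, MulAction.index_stabilizer, Nat.card_coe_set_eq]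
  have h4 : 4 ≤ Nat.card ↥O := by
    obtain ⟨j, hj⟩ := hH
    have h432 : Nat.card ↥O * Nat.card ↥H = 4 * (Nat.card ↥H * j) := by rw [hOc, ← hj]
    have hne : 0 < Nat.card ↥H := Nat.card_pos
    have hj0 : 0 < j := Nat.pos_of_ne_zero fun e => by rw [e, mul_zero] at hj; omega
    have : Nat.card ↥O = 4 * j :=
      Nat.eq_of_mul_eq_mul_right hne (h432.trans (by ring))
    omega
  refine h4.trans (Nat.card_le_card_of_injective (fun q => ⟨q.1, ?_⟩)
    fun a b e => Subtype.ext (congrArg Subtype.val e :))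
  obtain ⟨g, hg⟩ := q.2
  rw [← hg]
  change (g : G) • (k • A.base) ≠ A.base ∧ A.W ((g : G) • (k • A.base)) = Finset.univ
  refine ⟨fun e => hp ?_, ?_⟩
  · exact MulAction.injective (g : G) (e.trans (A.smul_base.2 g.2).symm)
  · rw [A.W_smul (A.mat_acts g), hfix]
    exact Finset.eq_univ_of_card _ (by
      rw [Finset.card_image_of_injective _ (Function.LeftInverse.injective (mact_inv _)),
        Finset.card_univ])

/-- the hypotheses on the plane -/
structure Good : Prop where
  simple : IsSimpleGroup G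
  hone : ∀ v : G, orderOf v = 2 → IsConj D.t v
  hna : A.y * A.z ≠ A.z * A.y
  card_G : Nat.card G = 5616

variable {A}

theorem Good.card_pts (h : A.Good) : Nat.card A.Pts = 13 := by
  have := A.M0.card_mul_index
  rw [A.card_M0 h.hna h.hone, h.card_G] at this
  rw [Pts, ← Subgroup.index]
  omega

theorem Good.exists_line (h : A.Good) {p : A.Pts} {j₀ : Fin 4} (hp : p ≠ A.base) (hW : A.W p = line j₀)
    (j : Fin 4) : ∃ q, q ≠ A.base ∧ A.W q = line j := by
  obtain ⟨d, hd⟩ := line_trans j₀ j
  obtain ⟨g, hg⟩ := A.mat_surjective h.hna h.hone d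
  refine ⟨(g : G) • p, fun e => hp ?_, ?_⟩
  · exact MulAction.injective (g : G) (e.trans (A.smul_base.2 g.2).symm)
  · rw [A.W_smul (A.mat_acts g), hW, hg, hd]

/-- The orbits of the plane: four of size three, with the four lines as kernels. -/
theorem Good.orbits (h : A.Good) :
    (∀ p, p ≠ A.base → ∃ j, A.W p = line j) ∧
    (∀ j : Fin 4, ∃ q, q ≠ A.base ∧ A.W q = line j) ∧
    (∀ p q, p ≠ A.base → q ≠ A.base → A.W p = A.W q → q ∈ A.orb p) ∧
    (∀ p, p ≠ A.base → (A.orb p).card = 3) := by
  classical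
  haveI := h.simple
  haveI : Fintype A.Pts := Fintype.ofFinite _
  set S := (Finset.univ : Finset A.Pts).erase A.base
  have hScard : S.card = 12 := by
    rw [Finset.card_erase_of_mem (Finset.mem_univ _), Finset.card_univ, ← Nat.card_eq_fintype_card,
      h.card_pts]
  have horbS : ∀ p, p ≠ A.base → A.orb p ⊆ S := fun p hp q hq =>
    Finset.mem_erase.2 ⟨fun e => A.base_notMem_orb hp (e ▸ hq), Finset.mem_univ _⟩
  set F := S.filter fun p => A.W p = Finset.univ
  have hF : F.Nonempty → 4 ≤ F.card := by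
    rintro ⟨p, hp⟩
    obtain ⟨hpS, hpW⟩ := Finset.mem_filter.1 hp
    refine (A.four_le_fixed h.hna h.hone (Finset.mem_erase.1 hpS).1 hpW).trans (le_of_eq ?_)
    rw [← Nat.card_eq_finsetCard]
    exact Nat.card_congr (Equiv.subtypeEquivRight fun q => by simp [F, S])
  -- some point has a line as kernel, or a trivial kernel
  have hfaith : ∃ p, p ≠ A.base ∧ A.W p ≠ Finset.univ := by
    by_contra hall
    push Not at hall
    have hker : ∀ q : A.Pts, A.ep (1, 0) • q = q := by
      intro q
      by_cases hq : q = A.base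
      · rw [hq]; exact A.smul_base.2 (A.ep_M0 _)
      · exact A.mem_W.1 (hall q hq ▸ Finset.mem_univ _)
    have hinj := faithful_cosets A.M0 (fun ht => by
      have := A.card_M0 h.hna h.hone
      rw [ht, Subgroup.card_top, h.card_G] at this
      omega)
    have h1 : A.ep (1, 0) = 1 := hinj (Equiv.ext fun q => by simpa using hker q)
    exact D.x_ne_one (A.ep_x ▸ h1)
  have hlines : ∀ p j, p ≠ A.base → A.W p = line j →
      12 ≤ (S.filter fun q => ∃ i, A.W q = line i).card := by
    intro p j hp hj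
    choose q hq1 hq2 using h.exists_line hp hj
    have hdisj : (↑(Finset.univ : Finset (Fin 4)) : Set (Fin 4)).PairwiseDisjoint fun i => A.orb (q i) := by
      intro i _ i' _ hii'
      refine Finset.disjoint_left.2 fun r hr hr' => hii' (line_ne _ _ ?_)
      rw [← hq2 i, ← hq2 i', ← A.mem_orb_W hr, ← A.mem_orb_W hr']
    refine le_trans ?_ (Finset.card_le_card (s := Finset.univ.biUnion fun i => A.orb (q i)) ?_)
    · rw [Finset.card_biUnion hdisj]
      exact le_trans (by simp) (Finset.sum_le_sum fun i _ => A.three_le_orb (hq2 i))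
    · intro r hr
      obtain ⟨i, -, hri⟩ := Finset.mem_biUnion.1 hr
      exact Finset.mem_filter.2 ⟨horbS _ (hq1 i) hri, i, (A.mem_orb_W hri).trans (hq2 i)⟩
  have hcases : ∀ r ∈ S, ∃ i, A.W r = line i := by
    by_contra hbad
    -- no line kernels at all
    have hnone : ∀ q ∈ S, ∀ i, A.W q ≠ line i := by
      intro q hq i hi
      refine hbad fun r hr => ?_
      have hsub := Finset.eq_of_subset_of_card_le (Finset.filter_subset (fun q => ∃ i, A.W q = line i) S)
        (by rw [hScard]; exact hlines q i (Finset.mem_erase.1 hq).1 hi)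
      rw [← hsub] at hr
      exact (Finset.mem_filter.1 hr).2
    obtain ⟨p, hp, hpne⟩ := hfaith
    have hpS : p ∈ S := Finset.mem_erase.2 ⟨hp, Finset.mem_univ _⟩
    rcases A.W_cases p with h0 | h0 | ⟨j, h0⟩
    · have h9 := A.card_orb_of_trivial h0
      have hsub : S \ A.orb p ⊆ F := by
        intro r hr
        obtain ⟨hrS, hro⟩ := Finset.mem_sdiff.1 hr
        rcases A.W_cases r with h1 | h1 | ⟨j, h1⟩
        · exfalso
          have h9' := A.card_orb_of_trivial h1
          have hd : Disjoint (A.orb p) (A.orb r) := by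
            refine Finset.disjoint_left.2 fun u hu hu' => hro ?_
            obtain ⟨v, -, rfl⟩ := Finset.mem_image.1 hu
            obtain ⟨w, -, hw⟩ := Finset.mem_image.1 hu'
            refine Finset.mem_image.2 ⟨-w + v, Finset.mem_univ _, ?_⟩
            rw [A.ep_add, mul_smul, ← hw, ← mul_smul, ← A.ep_add, neg_add_cancel, A.ep_zero, one_smul]
          have := Finset.card_le_card (Finset.union_subset (horbS p hp)
            (horbS r (Finset.mem_erase.1 hrS).1))
          rw [Finset.card_union_of_disjoint hd, h9, h9', hScard] at this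
          omega
        · exact Finset.mem_filter.2 ⟨hrS, h1⟩
        · exact absurd h1 (hnone r hrS j)
      have h3 : (S \ A.orb p).card = 3 := by
        rw [Finset.card_sdiff_of_subset (horbS p hp), hScard, h9]
      have h4 := hF (Finset.card_pos.1 (by
        have := Finset.card_le_card hsub; omega))
      have hdisj : Disjoint (A.orb p) F := Finset.disjoint_left.2 fun u hu hu' => hpne
        ((A.mem_orb_W hu).symm.trans (Finset.mem_filter.1 hu').2)
      have := Finset.card_le_card (Finset.union_subset (horbS p hp) (Finset.filter_subset _ _ : F ⊆ S))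
      rw [Finset.card_union_of_disjoint hdisj, h9, hScard] at this
      omega
    · exact hpne h0
    · exact hnone p hpS j h0
  have hA : ∀ p, p ≠ A.base → ∃ j, A.W p = line j := fun p hp =>
    hcases p (Finset.mem_erase.2 ⟨hp, Finset.mem_univ _⟩)
  obtain ⟨p, hp, -⟩ := hfaith
  obtain ⟨j, hj⟩ := hA p hp
  have hB : ∀ i : Fin 4, ∃ q, q ≠ A.base ∧ A.W q = line i := h.exists_line hp hj
  -- each class is one orbit of size three
  have hsum : S.card = ∑ i : Fin 4, (S.filter fun q => A.W q = line i).card := by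
    rw [← Finset.card_biUnion (fun i _ i' _ hne => Finset.disjoint_filter.2 fun q _ e e' =>
      hne (line_ne _ _ (e.symm.trans e')))]
    congr 1
    ext q
    simp only [Finset.mem_biUnion, Finset.mem_univ, true_and, Finset.mem_filter]
    exact ⟨fun hq => (hcases q hq).elim fun i hi => ⟨i, hq, hi⟩, fun ⟨i, hq, _⟩ => hq⟩
  have horbsub : ∀ p, p ≠ A.base → ∀ i, A.W p = line i →
      A.orb p ⊆ S.filter fun q => A.W q = line i := fun p hp i hi q hq =>
    Finset.mem_filter.2 ⟨horbS p hp hq, (A.mem_orb_W hq).trans hi⟩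
  have hge : ∀ i : Fin 4, 3 ≤ (S.filter fun q => A.W q = line i).card := fun i => by
    obtain ⟨q, hq1, hq2⟩ := hB i
    exact (A.three_le_orb hq2).trans (Finset.card_le_card (horbsub q hq1 i hq2))
  have heq : ∀ i : Fin 4, (S.filter fun q => A.W q = line i).card = 3 := by
    intro i
    rw [hScard, Fin.sum_univ_four] at hsum
    have := hge 0; have := hge 1; have := hge 2; have := hge 3
    match i with
    | 0 => omega
    | 1 => omega
    | 2 => omega
    | 3 => omega
  refine ⟨hA, hB, fun p q hp hq hpq => ?_, fun p hp => ?_⟩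
  · obtain ⟨i, hi⟩ := hA p hp
    rw [Finset.eq_of_subset_of_card_le (horbsub p hp i hi) (by rw [heq]; exact A.three_le_orb hi)]
    exact Finset.mem_filter.2 ⟨Finset.mem_erase.2 ⟨hq, Finset.mem_univ _⟩, hpq ▸ hi⟩
  · obtain ⟨i, hi⟩ := hA p hp
    exact le_antisymm (heq i ▸ Finset.card_le_card (horbsub p hp i hi)) (A.three_le_orb hi)

end Axes

end Cfsg.Agent.H23.GL23
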