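import Cfsg.Agent.H70.SignedUnits

/-!
# Integer vectors with the Gram matrix of the special virtual characters of `GL(2,3)`
-/

set_option autoImplicit false
set_option maxHeartbeats 800000

namespace Cfsg.Agent.H23.GL23

open Finset Cfsg.Agent.H70.SignedUnits

variable {X : Type*} [Fintype X] [DecidableEq X]

theorem dot_sub_unit {v : X → ℤ} {u : X × ℤˣ} (h : v u.1 = u.2) :
    dot (v - vec u) (v - vec u) = dot v v - 1 := by
  rw [dot_sub_left, dot_sub_right, dot_sub_right, dot_vec_self, dot_comm (vec u) v, dot_vec, h]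
  rcases Int.units_eq_one_or u.2 with e | e <;> simp [e]

omit [Fintype X] in
theorem sub_unit_apply {v : X → ℤ} {u : X × ℤˣ} {x : X} (h : x ≠ u.1) : (v - vec u) x = v x := by
  simp [vec, Pi.single_eq_of_ne h]

omit [Fintype X] in
theorem vec_apply_self (x : X) (u : ℤˣ) : vec (x, u) x = (u : ℤ) := by simp [vec]

omit [Fintype X] in
theorem vec_apply_ne {x y : X} (u : ℤˣ) (h : y ≠ x) : vec (x, u) y = 0 := by
  simp [vec, Pi.single_eq_of_ne h]

omit [DecidableEq X] in
theorem abs_le_one_of_norm {v : X → ℤ} {n : ℤ} (h : dot v v = n) (hn : n < 4) (x : X) :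
    v x = -1 ∨ v x = 0 ∨ v x = 1 :=
  small (h ▸ single_le_sum (f := fun y => v y * v y) (fun y _ => mul_self_nonneg (v y))
    (mem_univ x)) hn

theorem unit_sq (u : ℤˣ) : (u : ℤ) * u = 1 := by
  rcases Int.units_eq_one_or u with e | e <;> simp [e]

/-- sums of squares on an injective family of coordinates -/
theorem bessel' (v : X → ℤ) {n : ℕ} (f : Fin n → X) (hf : Function.Injective f) :
    ∑ i, v (f i) * v (f i) ≤ dot v v := by
  refine le_trans (le_of_eq ?_) (bessel v (fun i => (f i, 1)) fun i j hij => hf.ne hij)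
  refine sum_congr rfl fun i _ => ?_
  simp [dot_vec]

/-- Vectors with the Gram matrix of the five virtual characters. -/
structure VData (X : Type*) [Fintype X] [DecidableEq X] where
  e : X
  d : X → ℤ
  v0 : X → ℤ
  v1 : X → ℤ
  v2 : X → ℤ
  v3 : X → ℤ
  v4 : X → ℤ
  dpos : ∀ x, 0 < d x
  de : d e = 1
  e0 : v0 e = 0
  e1 : v1 e = 0
  e2 : v2 e = 1
  e3 : v3 e = 1
  e4 : v4 e = 0
  d0 : dot v0 d = 0
  d1 : dot v1 d = 0
  d2 : dot v2 d = 0
  g00 : dot v0 v0 = 2
  g11 : dot v1 v1 = 2
  g22 : dot v2 v2 = 3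
  g33 : dot v3 v3 = 3
  g44 : dot v4 v4 = 3
  g01 : dot v1 v0 = -1
  g02 : dot v2 v0 = 0
  g03 : dot v3 v0 = 0
  g04 : dot v4 v0 = 0
  g12 : dot v2 v1 = 1
  g13 : dot v3 v1 = 0
  g14 : dot v4 v1 = 0
  g23 : dot v3 v2 = 1
  g24 : dot v4 v2 = -1
  g34 : dot v4 v3 = 1

variable (V : VData X)

/-- the values at the central involution -/
def VData.val (x : X) : ℤ := 2 * V.v0 x + 4 * V.v1 x + -2 * V.v2 x + 3 * V.v3 x + V.v4 x

theorem VData.core {A B : X} {α β : ℤˣ} (hAB : A ≠ B) (hv0 : V.v0 = vec (A, α) + vec (B, β))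
    (hA : V.v1 A * α = -1) (hB : V.v1 B = 0) :
    ∃ a : ℤ, a ≠ 0 ∧ a + 1 ≠ 0 ∧
      ∑ x, (V.val x : ℚ) ^ 2 * V.v2 x / V.d x = 1 + 4 / (a : ℚ) - 9 / ((a : ℚ) + 1) := by
  have hαu := unit_sq α
  have hβu := unit_sq β
  have h0 : ∀ v : X → ℤ, dot v V.v0 = v A * α + v B * β := fun v => by
    rw [hv0, dot_add_right, dot_vec, dot_vec]
  have hAe : A ≠ V.e := by
    rintro rfl
    have := V.e0
    rw [hv0, Pi.add_apply, vec_apply_self, vec_apply_ne β hAB] at this
    simp at this
  have hBe : B ≠ V.e := by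
    rintro rfl
    have := V.e0
    rw [hv0, Pi.add_apply, vec_apply_self, vec_apply_ne α hAB.symm] at this
    simp at this
  -- the second vector
  have hA' : V.v1 A = ((-α : ℤˣ) : ℤ) := by
    push_cast
    linear_combination (α : ℤ) * hA - (V.v1 A) * hαu
  obtain ⟨⟨Xc, ξ⟩, hX⟩ := exists_vec_of_norm_one (v := V.v1 - vec (A, -α))
    (by rw [dot_sub_unit (u := (A, -α)) hA', V.g11]; norm_num)
  have hv1 : V.v1 = vec (A, -α) + vec (Xc, ξ) := by rw [← hX]; abel
  have hξu := unit_sq ξ
  have hXA : Xc ≠ A := by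
    intro h
    have := congrFun hX A
    rw [← h, vec_apply_self, Pi.sub_apply, h, hA', vec_apply_self] at this
    simp at this; exact (Units.ne_zero _ this.symm).elim
  have hXB : Xc ≠ B := by
    intro h
    have := congrFun hX B
    rw [← h, vec_apply_self, Pi.sub_apply, h, hB, vec_apply_ne _ hAB.symm] at this
    simp at this; exact (Units.ne_zero _ this.symm).elim
  have hXe : Xc ≠ V.e := by
    intro h
    have := congrFun hX V.e
    rw [← h, vec_apply_self, Pi.sub_apply, h, V.e1, vec_apply_ne _ hAe.symm] at this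
    simp at this; exact (Units.ne_zero _ this.symm).elim
  have h1 : ∀ v : X → ℤ, dot v V.v1 = -(v A * α) + v Xc * ξ := fun v => by
    rw [hv1, dot_add_right, dot_vec, dot_vec]; push_cast; ring
  -- the third vector
  have e20 := h0 V.v2; rw [V.g02] at e20
  have e21 := h1 V.v2; rw [V.g12] at e21
  have hdA := V.dpos A
  have hd0 : (α : ℤ) * V.d A + β * V.d B = 0 := by
    have := V.d0
    rw [dot_comm, h0] at this
    linarith
  have hd1 : (ξ : ℤ) * V.d Xc = α * V.d A := by
    have := V.d1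
    rw [dot_comm, h1] at this
    linarith
  have inj4 : Function.Injective ![V.e, A, B, Xc] := by
    intro i j h
    fin_cases i <;> fin_cases j <;>
      first
        | rfl
        | (simp at h
           first
             | exact absurd h hAe | exact absurd h.symm hAe | exact absurd h hBe
             | exact absurd h.symm hBe | exact absurd h hXe | exact absurd h.symm hXe
             | exact absurd h hAB | exact absurd h.symm hAB | exact absurd h hXA
             | exact absurd h.symm hXA | exact absurd h hXB | exact absurd h.symm hXB)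
  have hb2 := bessel' V.v2 _ inj4
  simp [Fin.sum_univ_four, V.e2, V.g22] at hb2
  have hsq : ∀ (v : ℤ) (u : ℤˣ), (v * u) * (v * u) = v * v := fun v u => by
    linear_combination (v * v) * unit_sq u
  have hcase : V.v2 A = 0 ∧ V.v2 B = 0 ∧ V.v2 Xc = (ξ : ℤ) := by
    have hb : V.v2 B * β = -(V.v2 A * α) := by linarith
    have hx : V.v2 Xc * ξ = 1 + V.v2 A * α := by linarith
    have hk : V.v2 A * α = -1 ∨ V.v2 A * α = 0 ∨ V.v2 A * α = 1 := by
      rcases Int.units_eq_one_or α with e | e <;>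
        rcases abs_le_one_of_norm V.g22 (by norm_num) A with a | a | a <;> simp [e, a]
    rw [← hsq (V.v2 A) α, ← hsq (V.v2 B) β, ← hsq (V.v2 Xc) ξ, hb, hx] at hb2
    rcases hk with hk | hk | hk
    · exfalso
      rw [hk] at hb hx
      have hA2 : V.v2 A = ((-α : ℤˣ) : ℤ) := by
        push_cast; linear_combination (α : ℤ) * hk - (V.v2 A) * hαu
      have hB2 : V.v2 B = (β : ℤ) := by linear_combination (β : ℤ) * hb - (V.v2 B) * hβu
      have hrest : V.v2 - vec (V.e, 1) - vec (A, -α) - vec (B, β) = 0 := eq_zero_of_dot_self (by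
        rw [dot_sub_unit (u := (B, β)) (by
            rw [sub_unit_apply (u := (A, -α)) hAB.symm, sub_unit_apply (u := (V.e, 1)) hBe, hB2]),
          dot_sub_unit (u := (A, -α)) (by rw [sub_unit_apply (u := (V.e, 1)) hAe, hA2]),
          dot_sub_unit (u := (V.e, 1)) (by simp [V.e2]), V.g22]
        norm_num)
      have hdd := congrArg (fun w => dot V.d w) hrest
      simp only [dot_sub_right, dot_vec, dot_comm V.d V.v2, V.d2, V.de] at hdd
      simp [dot] at hdd
      rcases Int.units_eq_one_or α with eα | eα <;> rcases Int.units_eq_one_or β with eβ | eβ <;>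
        simp [eα, eβ] at hdd hd0 <;> omega
    · refine ⟨?_, ?_, ?_⟩
      · linear_combination (α : ℤ) * hk - (V.v2 A) * hαu
      · rw [hk] at hb; linear_combination (β : ℤ) * hb - (V.v2 B) * hβu
      · rw [hk] at hx; linear_combination (ξ : ℤ) * hx - (V.v2 Xc) * hξu
    · rw [hk] at hb2; norm_num at hb2
  obtain ⟨h2A, h2B, h2X⟩ := hcase
  obtain ⟨⟨Y, η⟩, hY⟩ := exists_vec_of_norm_one (v := V.v2 - vec (V.e, 1) - vec (Xc, ξ))
    (by rw [dot_sub_unit (u := (Xc, ξ)) (by rw [sub_unit_apply (u := (V.e, 1)) hXe, h2X]),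
      dot_sub_unit (u := (V.e, 1)) (by simp [V.e2]), V.g22]; norm_num)
  have hv2 : V.v2 = vec (V.e, 1) + vec (Xc, ξ) + vec (Y, η) := by rw [← hY]; abel
  have hηu := unit_sq η
  have hYe : Y ≠ V.e := by
    intro h
    have := congrFun hY V.e
    rw [← h, vec_apply_self, Pi.sub_apply, Pi.sub_apply, h, V.e2, vec_apply_self,
      vec_apply_ne _ hXe.symm] at this
    simp at this; exact (Units.ne_zero _ this.symm).elim
  have hYA : Y ≠ A := by
    intro h
    have := congrFun hY A
    rw [← h, vec_apply_self, Pi.sub_apply, Pi.sub_apply, h, h2A, vec_apply_ne _ hAe,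
      vec_apply_ne _ hXA.symm] at this
    simp at this; exact (Units.ne_zero _ this.symm).elim
  have hYB : Y ≠ B := by
    intro h
    have := congrFun hY B
    rw [← h, vec_apply_self, Pi.sub_apply, Pi.sub_apply, h, h2B, vec_apply_ne _ hBe,
      vec_apply_ne _ hXB.symm] at this
    simp at this; exact (Units.ne_zero _ this.symm).elim
  have hYX : Y ≠ Xc := by
    intro h
    have := congrFun hY Xc
    rw [← h, vec_apply_self, Pi.sub_apply, Pi.sub_apply, h, h2X, vec_apply_ne _ hXe,
      vec_apply_self] at this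
    simp at this; exact (Units.ne_zero _ this.symm).elim
  have h2 : ∀ v : X → ℤ, dot v V.v2 = v V.e + v Xc * ξ + v Y * η := fun v => by
    rw [hv2, dot_add_right, dot_add_right, dot_vec, dot_vec, dot_vec]; simp
  have inj5 : Function.Injective ![V.e, A, B, Xc, Y] := by
    intro i j h
    fin_cases i <;> fin_cases j <;>
      first
        | rfl
        | (simp at h
           first
             | exact absurd h hAe | exact absurd h.symm hAe | exact absurd h hBe
             | exact absurd h.symm hBe | exact absurd h hXe | exact absurd h.symm hXe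
             | exact absurd h hAB | exact absurd h.symm hAB | exact absurd h hXA
             | exact absurd h.symm hXA | exact absurd h hXB | exact absurd h.symm hXB
             | exact absurd h hYe | exact absurd h.symm hYe | exact absurd h hYA
             | exact absurd h.symm hYA | exact absurd h hYB | exact absurd h.symm hYB
             | exact absurd h hYX | exact absurd h.symm hYX)
  -- the fourth vector
  have e30 := h0 V.v3; rw [V.g03] at e30
  have e31 := h1 V.v3; rw [V.g13] at e31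
  have e32 := h2 V.v3; rw [V.g23, V.e3] at e32
  have hb3 := bessel' V.v3 _ inj5
  simp [Fin.sum_univ_five, V.e3, V.g33] at hb3
  have hk3 : V.v3 A * α = 0 := by
    have hb : V.v3 B * β = -(V.v3 A * α) := by linarith
    have hx : V.v3 Xc * ξ = V.v3 A * α := by linarith
    have hy : V.v3 Y * η = -(V.v3 A * α) := by linarith
    rw [← hsq (V.v3 A) α, ← hsq (V.v3 B) β, ← hsq (V.v3 Xc) ξ, ← hsq (V.v3 Y) η, hb, hx, hy] at hb3
    nlinarith
  have hz : ∀ {v : ℤ} {u : ℤˣ}, v * u = 0 → v = 0 := fun h => by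
    rcases mul_eq_zero.1 h with h' | h'
    · exact h'
    · exact absurd h' (Units.ne_zero _)
  have h3A : V.v3 A = 0 := hz hk3
  have h3B : V.v3 B = 0 := hz (show V.v3 B * (β : ℤ) = 0 by linarith)
  have h3X : V.v3 Xc = 0 := hz (show V.v3 Xc * (ξ : ℤ) = 0 by linarith)
  have h3Y : V.v3 Y = 0 := hz (show V.v3 Y * (η : ℤ) = 0 by linarith)
  -- the fifth vector
  have e40 := h0 V.v4; rw [V.g04] at e40
  have e41 := h1 V.v4; rw [V.g14] at e41
  have e42 := h2 V.v4; rw [V.g24, V.e4] at e42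
  have hb4 := bessel' V.v4 _ inj5
  simp [Fin.sum_univ_five, V.e4, V.g44] at hb4
  have hk4 : V.v4 A * α = 0 := by
    have hb : V.v4 B * β = -(V.v4 A * α) := by linarith
    have hx : V.v4 Xc * ξ = V.v4 A * α := by linarith
    have hy : V.v4 Y * η = -1 - V.v4 A * α := by linarith
    rw [← hsq (V.v4 A) α, ← hsq (V.v4 B) β, ← hsq (V.v4 Xc) ξ, ← hsq (V.v4 Y) η, hb, hx, hy] at hb4
    have hk : V.v4 A * α = -1 ∨ V.v4 A * α = 0 ∨ V.v4 A * α = 1 := by
      rcases Int.units_eq_one_or α with e | e <;>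
        rcases abs_le_one_of_norm V.g44 (by norm_num) A with a | a | a <;> simp [e, a]
    rcases hk with hk | hk | hk
    · exfalso
      rw [hk] at hb hx
      have hA4 : V.v4 A = ((-α : ℤˣ) : ℤ) := by
        push_cast; linear_combination (α : ℤ) * hk - (V.v4 A) * hαu
      have hB4 : V.v4 B = (β : ℤ) := by linear_combination (β : ℤ) * hb - (V.v4 B) * hβu
      have hX4 : V.v4 Xc = ((-ξ : ℤˣ) : ℤ) := by
        push_cast; linear_combination (ξ : ℤ) * hx - (V.v4 Xc) * hξu
      have hrest : V.v4 - vec (A, -α) - vec (B, β) - vec (Xc, -ξ) = 0 := eq_zero_of_dot_self (by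
        rw [dot_sub_unit (u := (Xc, -ξ)) (by
            rw [sub_unit_apply (u := (B, β)) hXB, sub_unit_apply (u := (A, -α)) hXA, hX4]),
          dot_sub_unit (u := (B, β)) (by rw [sub_unit_apply (u := (A, -α)) hAB.symm, hB4]),
          dot_sub_unit (u := (A, -α)) hA4, V.g44]
        norm_num)
      have := congrArg (fun w => dot V.v3 w) hrest
      simp only [dot_sub_right, dot_vec, h3A, h3B, h3X, dot_comm V.v3 V.v4, V.g34] at this
      simp [dot] at this
    · exact hk
    · rw [hk] at hb4; norm_num at hb4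
  have h4A : V.v4 A = 0 := hz hk4
  have h4X : V.v4 Xc = 0 := hz (show V.v4 Xc * (ξ : ℤ) = 0 by linarith)
  have h4Y : V.v4 Y = -(η : ℤ) := by
    have : V.v4 Y * η = -1 := by linarith
    linear_combination (η : ℤ) * this - (V.v4 Y) * hηu
  -- the values
  have hv0X : V.v0 Xc = 0 := by
    rw [hv0, Pi.add_apply, vec_apply_ne _ hXA, vec_apply_ne _ hXB, add_zero]
  have hv0Y : V.v0 Y = 0 := by
    rw [hv0, Pi.add_apply, vec_apply_ne _ hYA, vec_apply_ne _ hYB, add_zero]
  have hv1X : V.v1 Xc = ξ := by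
    rw [hv1, Pi.add_apply, vec_apply_ne _ hXA, vec_apply_self, zero_add]
  have hv1Y : V.v1 Y = 0 := by
    rw [hv1, Pi.add_apply, vec_apply_ne _ hYA, vec_apply_ne _ hYX, add_zero]
  have h2Y : V.v2 Y = η := by
    rw [hv2, Pi.add_apply, Pi.add_apply, vec_apply_ne _ hYe, vec_apply_ne _ hYX, vec_apply_self,
      zero_add, zero_add]
  have hvale : V.val V.e = 1 := by simp [VData.val, V.e0, V.e1, V.e2, V.e3, V.e4]
  have hvalX : V.val Xc = 2 * ξ := by simp [VData.val, hv0X, hv1X, h2X, h3X, h4X]; ring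
  have hvalY : V.val Y = -3 * η := by simp [VData.val, hv0Y, hv1Y, h2Y, h3Y, h4Y]; ring
  have hd2 : (η : ℤ) * V.d Y = -(1 + ξ * V.d Xc) := by
    have := V.d2
    rw [dot_comm, h2, V.de] at this
    linarith
  have hdX := V.dpos Xc
  have hdY := V.dpos Y
  refine ⟨ξ * V.d Xc, mul_ne_zero (Units.ne_zero _) hdX.ne', fun h => ?_, ?_⟩
  · have : (η : ℤ) * V.d Y = 0 := by rw [hd2]; linarith
    exact mul_ne_zero (Units.ne_zero _) hdY.ne' this
  have key : ∀ (u : X × ℤˣ) (f : X → ℚ), ∑ x, f x * (vec u x : ℤ) = f u.1 * ((u.2 : ℤ) : ℚ) := by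
    intro u f
    rw [Finset.sum_eq_single u.1]
    · simp [vec]
    · intro x _ hx; simp [vec, Pi.single_eq_of_ne hx]
    · simp
  have hsum : ∑ x, (V.val x : ℚ) ^ 2 * V.v2 x / V.d x =
      ∑ x, ((V.val x : ℚ) ^ 2 / V.d x) * ((vec (V.e, 1) x : ℤ) : ℚ) +
      ∑ x, ((V.val x : ℚ) ^ 2 / V.d x) * ((vec (Xc, ξ) x : ℤ) : ℚ) +
      ∑ x, ((V.val x : ℚ) ^ 2 / V.d x) * ((vec (Y, η) x : ℤ) : ℚ) := by
    rw [← sum_add_distrib, ← sum_add_distrib]
    refine sum_congr rfl fun x _ => ?_
    rw [hv2, Pi.add_apply, Pi.add_apply]; push_cast; ring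
  rw [hsum, key, key, key, hvale, hvalX, hvalY, V.de]
  have hdY' : ((ξ * V.d Xc : ℤ) : ℚ) + 1 = -((η : ℤ) : ℚ) * (V.d Y : ℚ) := by
    have := congrArg (fun z : ℤ => (z : ℚ)) hd2
    push_cast at this ⊢
    linarith
  rw [hdY']
  have hξq : ((ξ : ℤ) : ℚ) * ((ξ : ℤ) : ℚ) = 1 := by exact_mod_cast hξu
  have hηq : ((η : ℤ) : ℚ) * ((η : ℤ) : ℚ) = 1 := by exact_mod_cast hηu
  have hdXq : (V.d Xc : ℚ) ≠ 0 := by exact_mod_cast hdX.ne'
  have hdYq : (V.d Y : ℚ) ≠ 0 := by exact_mod_cast hdY.ne'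
  push_cast
  rcases Int.units_eq_one_or ξ with eξ | eξ <;> rcases Int.units_eq_one_or η with eη | eη <;>
    simp [eξ, eη] <;> field_simp <;> ring

/-- The weighted sum of squares of the values. -/
theorem VData.main : ∃ a : ℤ, a ≠ 0 ∧ a + 1 ≠ 0 ∧
    ∑ x, (V.val x : ℚ) ^ 2 * V.v2 x / V.d x = 1 + 4 / (a : ℚ) - 9 / ((a : ℚ) + 1) := by
  obtain ⟨⟨A, α⟩, ⟨B, β⟩, hAB, h⟩ := exists_vec_of_norm_two V.g00
  have hAB : A ≠ B := hAB
  have e := V.g01
  rw [h, dot_add_right, dot_vec, dot_vec] at e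
  simp only at e
  rcases abs_le_one_of_norm V.g11 (by norm_num) A with a | a | a <;>
    rcases abs_le_one_of_norm V.g11 (by norm_num) B with b | b | b <;>
    rw [a, b] at e
  all_goals first
    | exact V.core hAB h (by rw [a]; linarith) b
    | exact V.core hAB.symm (by rw [h, add_comm]) (by rw [b]; linarith) a
    | (rcases Int.units_eq_one_or α with eα | eα <;> rcases Int.units_eq_one_or β with eβ | eβ <;>
        simp [eα, eβ] at e)

end Cfsg.Agent.H23.GL23
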