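import Cfsg.Agent.H23.GL23.Virtual
import Cfsg.Agent.H23.GL23.Local
import Cfsg.Agent.H23.GL23.Vectors
import Cfsg.Agent.CharInduce.Induce
import Cfsg.Agent.CharBasic.Virtual
import Cfsg.Agent.H84.ClassProd

/-!
# The possible orders of a group with an involution centraliser `GL(2,3)`
-/

set_option autoImplicit false
set_option maxHeartbeats 800000
set_option linter.style.haveILetI false

namespace Cfsg.Agent.H23.GL23

open scoped ComplexConjugate
open Finset

theorem arith_candidates : ∀ i : Fin 55, ∀ j : Fin 64,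
    let d : ℤ := ((64 * i.val + j.val : ℕ) : ℤ) - 1728
    d ≠ 0 → (288 * (d + 2) * (d + 3)) % (d * d) = 0 →
      ((288 * (d + 2) * (d + 3)) / (d * d)) % 2 = 1 →
        0 < (288 * (d + 2) * (d + 3)) / (d * d) →
          (288 * (d + 2) * (d + 3)) / (d * d) ∈ ([135, 231, 351, 495] : List ℤ) := by
  decide +kernel

theorem arith {m : ℕ} (hm : Odd m) {a : ℤ}
    (h : 288 * (a * (a + 1)) = (m : ℤ) * ((a - 2) * (a - 2))) :
    m = 135 ∨ m = 231 ∨ m = 351 ∨ m = 495 := by
  obtain ⟨d, rfl⟩ : ∃ d, a = d + 2 := ⟨a - 2, by ring⟩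
  rw [show d + 2 - 2 = d by ring] at h
  have hm0 : 0 < m := hm.pos
  have hd0 : d ≠ 0 := by rintro rfl; norm_num at h
  have hdvd : d ∣ 1728 := ⟨(m : ℤ) * d - 288 * d - 1440, by linarith⟩
  have habs : d ≤ 1728 ∧ -d ≤ 1728 :=
    ⟨Int.le_of_dvd (by norm_num) hdvd, Int.le_of_dvd (by norm_num) ((neg_dvd).2 hdvd)⟩
  have hn : (d + 1728).toNat < 3457 := by omega
  have hc := arith_candidates ⟨(d + 1728).toNat / 64, by omega⟩ ⟨(d + 1728).toNat % 64, by omega⟩
  simp only [Nat.div_add_mod, show (((d + 1728).toNat : ℕ) : ℤ) - 1728 = d by omega] at hc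
  have hne : d * d ≠ 0 := mul_ne_zero hd0 hd0
  have e : 288 * (d + 2) * (d + 3) = (m : ℤ) * (d * d) := by linarith
  rw [e, Int.mul_ediv_cancel _ hne, Int.mul_emod_left] at hc
  have hl := hc hd0 rfl (by obtain ⟨k, rfl⟩ := hm; push_cast; omega) (by exact_mod_cast hm0)
  simp only [List.mem_cons, List.not_mem_nil, or_false] at hl
  exact_mod_cast hl

theorem gram_comm : ∀ i j, gram i j = gram j i := by decide

universe u

namespace Setup

open Cfsg.Agent.CharInduce
open Cfsg.Agent.CharBasic (classInner_def classInner_eq_sum)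
open Cfsg.Agent.BlockBasic (irr_one_ne_zero)

variable {G : Type u} [Group G] [Fintype G] (D : Setup G)

/-- the centraliser as a copy of the model -/
noncomputable def eH : M ≃* ↥D.inc.range := MonoidHom.ofInjective D.inc_injective

/-- the virtual characters on the centraliser -/
noncomputable def theta (i : Fin 5) : ↥D.inc.range → ℂ := fun h => toC (phi i (D.eH.symm h))

/-- the induced virtual characters -/
noncomputable def tau (i : Fin 5) : G → ℂ := indFun D.inc.range (D.theta i)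

theorem isGen_tau (i : Fin 5) : Cfsg.IsGeneralizedCharacter G (D.tau i) :=
  IsGen.ind _ (IsGen.comp (isV_phi i) D.eH.symm.toMonoidHom)

theorem class_tau (i : Fin 5) : Cfsg.IsClassFunction G (D.tau i) := isClassFunction_indFun _ _

omit [Fintype G] in
theorem eH_symm_inc (d : M) (h : D.inc d ∈ D.inc.range) : D.eH.symm ⟨D.inc d, h⟩ = d := by
  rw [MulEquiv.symm_apply_eq]; exact Subtype.ext rfl

theorem phi_conj (i : Fin 5) (c d : M) : toC (phi i (c * d * c⁻¹)) = toC (phi i d) :=
  IsGen.isClassFunction (isV_phi i) d c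

omit [Fintype G] in
/-- an element of type `T` in the centraliser pins down `t` -/
theorem pin (d d' : M) (hd : isT d) (hd' : isT d') (x : G)
    (he : x⁻¹ * D.inc d * x = D.inc d') : x * D.t = D.t * x := by
  obtain ⟨k, hk⟩ := hd
  have h1 : D.inc (d' ^ (k : ℕ)) = x⁻¹ * D.t * x := by
    have : (x⁻¹ * D.inc d * x) ^ (k : ℕ) = x⁻¹ * D.inc d ^ (k : ℕ) * x := by
      have := map_pow (MulAut.conj x⁻¹) (D.inc d) (k : ℕ)
      simpa using this.symm
    rw [map_pow, ← he, this, ← map_pow, hk, D.inc_zc]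
  have hne : d' ^ (k : ℕ) ≠ 1 := fun h => ne_one_of_order_two D.order_t (by
    rw [h, map_one] at h1
    calc D.t = x * (x⁻¹ * D.t * x) * x⁻¹ := by group
      _ = 1 := by rw [← h1]; group)
  have hsq : d' ^ (k : ℕ) * d' ^ (k : ℕ) = 1 := D.inc_injective (by
    rw [map_mul, map_one, h1, show x⁻¹ * D.t * x * (x⁻¹ * D.t * x) = x⁻¹ * (D.t * D.t) * x by group,
      mul_self_of_order_two D.order_t]
    group)
  rw [isT_unique d' hd' k hsq hne, D.inc_zc] at h1
  calc x * D.t = x * (x⁻¹ * D.t * x) := by rw [← h1]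
    _ = D.t * x := by group

theorem tau_inc (i : Fin 5) (d : M) (hd : isT d) : D.tau i (D.inc d) = toC (phi i d) := by
  classical
  rw [tau, indFun_apply]
  have key : ∀ x : G, extendByZero D.inc.range (D.theta i) (x⁻¹ * D.inc d * x) =
      if x ∈ D.inc.range then toC (phi i d) else 0 := by
    intro x
    split_ifs with hx
    · obtain ⟨c, rfl⟩ := hx
      have hm : (D.inc c)⁻¹ * D.inc d * D.inc c = D.inc (c⁻¹ * d * c⁻¹⁻¹) := by simp
      rw [hm, extendByZero_of_mem _ (MonoidHom.mem_range.2 ⟨_, rfl⟩), theta, eH_symm_inc, phi_conj]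
    · by_cases hxm : x⁻¹ * D.inc d * x ∈ D.inc.range
      · obtain ⟨d', hd'⟩ := hxm
        rw [← hd', extendByZero_of_mem _ (MonoidHom.mem_range.2 ⟨_, rfl⟩), theta, eH_symm_inc]
        by_cases hT : isT d'
        · exact absurd (D.inc_surj x (D.pin d d' hd hT x hd'.symm)) (fun ⟨c, hc⟩ => hx ⟨c, hc⟩)
        · rw [phi_support i d' hT, map_zero]
      · exact extendByZero_of_not_mem _ hxm
  rw [sum_congr rfl fun x _ => key x, ← sum_filter, sum_const, nsmul_eq_mul]
  have hc : (univ.filter fun x : G => x ∈ D.inc.range).card = Nat.card ↥D.inc.range := by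
    rw [Nat.card_eq_fintype_card, Fintype.card_subtype]
  rw [hc, ← mul_assoc, inv_mul_cancel₀ (Nat.cast_ne_zero.2 Nat.card_pos.ne'), one_mul]

theorem inner_tau (i : Fin 5) (χ : G → ℂ) (hχ : Cfsg.IsClassFunction G χ) :
    Cfsg.classInner (D.tau i) χ = (48 : ℂ)⁻¹ * ∑ d : M, toC (phi i d) * conj (χ (D.inc d)) := by
  haveI : Fintype ↥D.inc.range := Fintype.ofEquiv M D.eH.toEquiv
  rw [tau, classInner_indFun_left _ _ _ hχ, classInner_def,
    ← Nat.card_congr D.eH.toEquiv, card_M]
  norm_num only [Nat.cast_ofNat]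
  congr 1
  refine (Fintype.sum_equiv D.eH.toEquiv _ _ fun d => ?_).symm
  simp only [theta, MulEquiv.toEquiv_eq_coe, MulEquiv.coe_toEquiv, MulEquiv.symm_apply_apply]
  rfl

theorem inner_tau_tau (i j : Fin 5) : Cfsg.classInner (D.tau i) (D.tau j) = gram i j := by
  rw [D.inner_tau i _ (D.class_tau j)]
  have hs : ∀ d : M, toC (phi i d) * conj (D.tau j (D.inc d)) =
      toC (phi i d * star (phi j d)) := fun d => by
    by_cases hd : isT d
    · rw [D.tau_inc j d hd, toC_star, map_mul]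
    · rw [phi_support i d hd]; simp
  rw [sum_congr rfl fun d _ => hs d, ← map_sum, phi_gram i j, map_intCast]
  push_cast; ring

theorem inner_tau_one (i : Fin 5) : Cfsg.classInner (D.tau i) (fun _ => 1) = gramOne i := by
  rw [D.inner_tau i _ (fun _ _ => rfl)]
  simp only [map_one, mul_one]
  rw [← map_sum, phi_gram_one i, map_intCast]
  push_cast; ring

theorem tau_one (i : Fin 5) : D.tau i 1 = 0 := by
  rw [tau, indFun_one, theta, map_one, phi_support i 1 not_isT_one, map_zero, mul_zero]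

/-- multiplicities of the irreducible characters -/
noncomputable def vv (i : Fin 5) : Cfsg.IrrCharacter G → ℤ :=
  Classical.choose (Cfsg.Agent.CharBasic.IsGen.exists_int_mult (D.isGen_tau i))

theorem inner_vv (i : Fin 5) (χ : Cfsg.IrrCharacter G) :
    Cfsg.classInner (D.tau i) (χ : G → ℂ) = D.vv i χ :=
  (Classical.choose_spec (Cfsg.Agent.CharBasic.IsGen.exists_int_mult (D.isGen_tau i))).1 χ

theorem tau_eq (i : Fin 5) :
    D.tau i = ∑ χ : Cfsg.IrrCharacter G, (D.vv i χ : ℂ) • (χ : G → ℂ) :=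
  (Classical.choose_spec (Cfsg.Agent.CharBasic.IsGen.exists_int_mult (D.isGen_tau i))).2

/-- the principal character -/
noncomputable def triv : Cfsg.IrrCharacter G :=
  ⟨fun _ => 1, Cfsg.Agent.CharBasic.isIrrCharacter_one⟩

theorem vv_dot (i j : Fin 5) :
    Cfsg.Agent.H70.SignedUnits.dot (D.vv i) (D.vv j) = gram i j := by
  have h := D.inner_tau_tau i j
  rw [classInner_eq_sum (D.class_tau i)] at h
  simp only [inner_vv, map_intCast] at h
  rw [Cfsg.Agent.H70.SignedUnits.dot]
  exact_mod_cast h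

theorem vv_triv (i : Fin 5) : D.vv i triv = gramOne i := by
  have h := D.inner_vv i triv
  rw [show ((triv : Cfsg.IrrCharacter G) : G → ℂ) = fun _ => 1 from rfl, inner_tau_one] at h
  exact_mod_cast h.symm

/-- the degree -/
noncomputable def deg (χ : Cfsg.IrrCharacter G) : ℤ := (Cfsg.charDegree (χ : G → ℂ) : ℤ)

theorem deg_cast (χ : Cfsg.IrrCharacter G) : ((deg χ : ℤ) : ℂ) = (χ : G → ℂ) 1 := by
  rw [BlockBasic.apply_one_eq_charDegree, deg]; norm_cast

theorem vv_deg (i : Fin 5) : Cfsg.Agent.H70.SignedUnits.dot (D.vv i) deg = 0 := by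
  have h := D.tau_one i
  rw [D.tau_eq i] at h
  simp only [Finset.sum_apply, Pi.smul_apply, smul_eq_mul, ← deg_cast] at h
  rw [Cfsg.Agent.H70.SignedUnits.dot]
  exact_mod_cast h

theorem deg_triv : deg (triv : Cfsg.IrrCharacter G) = 1 := by
  have h := deg_cast (triv : Cfsg.IrrCharacter G)
  rw [show ((triv : Cfsg.IrrCharacter G) : G → ℂ) 1 = 1 from rfl] at h
  exact_mod_cast h

/-- the vector data -/
noncomputable def vData [DecidableEq (Cfsg.IrrCharacter G)] : VData (Cfsg.IrrCharacter G) where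
  e := triv
  d := deg
  v0 := D.vv 0
  v1 := D.vv 1
  v2 := D.vv 2
  v3 := D.vv 3
  v4 := D.vv 4
  dpos χ := by unfold deg; exact_mod_cast BlockBasic.charDegree_pos χ
  de := deg_triv
  e0 := (D.vv_triv 0).trans rfl
  e1 := (D.vv_triv 1).trans rfl
  e2 := (D.vv_triv 2).trans rfl
  e3 := (D.vv_triv 3).trans rfl
  e4 := (D.vv_triv 4).trans rfl
  d0 := D.vv_deg 0
  d1 := D.vv_deg 1
  d2 := D.vv_deg 2
  g00 := (D.vv_dot 0 0).trans rfl
  g11 := (D.vv_dot 1 1).trans rfl
  g22 := (D.vv_dot 2 2).trans rfl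
  g33 := (D.vv_dot 3 3).trans rfl
  g44 := (D.vv_dot 4 4).trans rfl
  g01 := (D.vv_dot 1 0).trans rfl
  g02 := (D.vv_dot 2 0).trans rfl
  g03 := (D.vv_dot 3 0).trans rfl
  g04 := (D.vv_dot 4 0).trans rfl
  g12 := (D.vv_dot 2 1).trans rfl
  g13 := (D.vv_dot 3 1).trans rfl
  g14 := (D.vv_dot 4 1).trans rfl
  g23 := (D.vv_dot 3 2).trans rfl
  g24 := (D.vv_dot 4 2).trans rfl
  g34 := (D.vv_dot 4 3).trans rfl

/-- the values at the involution -/
theorem apply_t (χ : Cfsg.IrrCharacter G) :
    (χ : G → ℂ) D.t = ((∑ i, coefT i * D.vv i χ : ℤ) : ℂ) := by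
  have h : ((∑ i, coefT i * D.vv i χ : ℤ) : ℂ) = conj ((χ : G → ℂ) D.t) := by
    push_cast
    simp only [← D.inner_vv, D.inner_tau _ _ (CharBasic.IsIrr.isClassFunction χ.2), mul_sum,
      ← mul_assoc]
    rw [sum_comm]
    have hd : ∀ d : M, ∑ i, (coefT i : ℂ) * (48 : ℂ)⁻¹ * toC (phi i d) * conj ((χ : G → ℂ) (D.inc d))
        = (48 : ℂ)⁻¹ * toC (if d = zc then 48 else 0) * conj ((χ : G → ℂ) (D.inc d)) := by
      intro d
      rw [← phi_delta d, map_sum, mul_sum, sum_mul]
      refine sum_congr rfl fun i _ => ?_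
      rw [map_mul, map_intCast]; ring
    rw [sum_congr rfl fun d _ => hd d, sum_eq_single zc (fun d _ hd => by simp [hd])
      (fun h => absurd (mem_univ _) h), if_pos rfl, D.inc_zc, map_ofNat]
    ring
  have := congrArg conj h
  rw [Complex.conj_conj, map_intCast] at this
  exact this.symm

/-- counting factorisations of an element of type `T` -/
theorem coeff_count (hone : ∀ v : G, orderOf v = 2 → IsConj D.t v) (d : M) (hd : isT d) :
    (BlockBasic.classSum D.t * BlockBasic.classSum D.t).coeff (D.inc d) = (countInv d : ℂ) := by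
  classical
  rw [H84.coeff_classSum_mul]
  congr 1
  have hinv : ∀ g : G, IsConj D.t g ↔ g * g = 1 ∧ g ≠ 1 := by
    intro g
    constructor
    · intro h
      obtain ⟨c, rfl⟩ := isConj_iff.1 h
      have := (orderOf_conj' c D.t).trans D.order_t
      exact ⟨mul_self_of_order_two this, ne_one_of_order_two this⟩
    · rintro ⟨h1, h2⟩
      exact hone g (order_two_of_mul_self h1 h2)
  refine (card_bij (fun a _ => D.inc a) ?_ (fun a _ b _ h => D.inc_injective h) ?_).symm
  · intro a ha
    simp only [mem_filter, mem_univ, true_and] at ha ⊢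
    obtain ⟨h1, h2, h3, h4⟩ := ha
    have ha' : (D.inc a)⁻¹ = D.inc a := inv_eq_of_mul_eq_one_right (by rw [← map_mul, h1, map_one])
    rw [hinv, hinv, ha', ← map_mul, ← map_mul, ← map_mul, h1, h3, map_one]
    exact ⟨⟨rfl, fun h => h2 (D.inc_injective (h.trans (map_one _).symm))⟩, rfl,
      fun h => h4 (D.inc_injective (h.trans (map_one _).symm))⟩
  · intro g hg
    simp only [mem_filter, mem_univ, true_and] at hg ⊢
    obtain ⟨hg, hz⟩ := hg
    rw [hinv] at hg hz
    obtain ⟨h1, h2⟩ := hg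
    have hg' : g⁻¹ = g := inv_eq_of_mul_eq_one_right h1
    rw [hg'] at hz
    obtain ⟨k, hk⟩ := hd
    have hc : g * D.inc d * g⁻¹ = (D.inc d)⁻¹ := by
      rw [hg', eq_inv_iff_mul_eq_one, mul_assoc]
      exact hz.1
    have hgt : g * D.t = D.t * g := by
      have : g * (D.inc d) ^ (k : ℕ) * g⁻¹ = ((D.inc d)⁻¹) ^ (k : ℕ) := by
        rw [← hc]
        simpa only [MulAut.conj_apply, MulEquiv.apply_symm_apply] using map_pow (MulAut.conj g) (D.inc d) (k : ℕ)
      rw [inv_pow, ← map_pow, hk, D.inc_zc, inv_eq_of_mul_eq_one_right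
        (mul_self_of_order_two D.order_t)] at this
      calc g * D.t = g * D.t * g⁻¹ * g := by group
        _ = D.t * g := by rw [this]
    obtain ⟨a, rfl⟩ := D.inc_surj g hgt
    rw [← map_mul] at h1 hz
    rw [← map_mul] at hz
    exact ⟨a, ⟨D.inc_injective (h1.trans (map_one _).symm), fun h => h2 (h ▸ map_one _),
      D.inc_injective (hz.1.trans (map_one _).symm), fun h => hz.2 (h ▸ map_one _)⟩, rfl⟩

/-- The four possible orders. -/
theorem card_cases (hone : ∀ v : G, orderOf v = 2 → IsConj D.t v) :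
    Nat.card G = 2160 ∨ Nat.card G = 3696 ∨ Nat.card G = 5616 ∨ Nat.card G = 7920 := by
  classical
  obtain ⟨a, ha0, ha1, hmain⟩ := (D.vData).main
  obtain ⟨m, hm, hmodd⟩ := D.sixteen_dvd_card
  have hNn : (Nat.card G : ℂ) ≠ 0 := Nat.cast_ne_zero.2 Nat.card_pos.ne'
  have hidx : ((Subgroup.centralizer ({D.t} : Set G)).index : ℂ) = (Nat.card G : ℂ) / 48 := by
    have h := (Subgroup.centralizer ({D.t} : Set G)).card_mul_index
    rw [D.card_centralizer] at h
    rw [← h]; push_cast; ring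
  have hsum : (96 : ℂ) = (Nat.card G : ℂ) / 48 *
      ∑ χ : Cfsg.IrrCharacter G,
        ((D.vData.val χ : ℂ) ^ 2 * (D.vv 2 χ : ℂ) / (deg χ : ℂ)) := by
    have h96 : (96 : ℂ) = ∑ d : M, toC (phi 2 d) *
        (BlockBasic.classSum D.t * BlockBasic.classSum D.t).coeff (D.inc d) := by
      have : ∀ d : M, toC (phi 2 d) *
          (BlockBasic.classSum D.t * BlockBasic.classSum D.t).coeff (D.inc d) =
            toC (phi 2 d * (countInv d : ℤ)) := fun d => by
        by_cases hd : isT d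
        · rw [D.coeff_count hone d hd, map_mul, map_intCast, Int.cast_natCast]
        · rw [phi_support 2 d hd]; simp
      rw [sum_congr rfl fun d _ => this d, ← map_sum, phi_count, map_intCast]
      norm_num
    rw [h96, mul_sum]
    simp only [H84.coeff_classSum_mul_eq, mul_sum]
    rw [sum_comm]
    refine sum_congr rfl fun χ _ => ?_
    have hval : (χ : G → ℂ) D.t = (D.vData.val χ : ℂ) := by
      rw [D.apply_t χ, Fin.sum_univ_five, VData.val]
      push_cast [coefT, vData]
      simp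
    have hcl := D.inner_tau 2 _ (CharBasic.IsIrr.isClassFunction χ.2)
    rw [D.inner_vv] at hcl
    have hd1 : (χ : G → ℂ) 1 ≠ 0 := irr_one_ne_zero χ.2
    rw [Cfsg.centralChar, hidx, hval, deg_cast, hcl]
    simp only [mul_sum, sum_div]
    refine sum_congr rfl fun d _ => ?_
    field_simp
  have hq : (96 : ℚ) = (Nat.card G : ℚ) / 48 * (1 + 4 / (a : ℚ) - 9 / ((a : ℚ) + 1)) := by
    rw [← hmain]
    apply (algebraMap ℚ ℂ).injective
    simpa [map_sum, map_div₀, vData] using hsum
  have ha0' : (a : ℚ) ≠ 0 := by exact_mod_cast ha0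
  have ha1' : (a : ℚ) + 1 ≠ 0 := by exact_mod_cast ha1
  have hz : 288 * (a * (a + 1)) = (m : ℤ) * ((a - 2) * (a - 2)) := by
    have : (288 * (a * (a + 1)) : ℚ) = (m : ℚ) * (((a : ℚ) - 2) * ((a : ℚ) - 2)) := by
      rw [hm] at hq
      push_cast at hq
      field_simp at hq
      linarith
    exact_mod_cast this
  rcases arith hmodd hz with rfl | rfl | rfl | rfl <;> omega

end Setup

end Cfsg.Agent.H23.GL23
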