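import Cfsg.Agent.H23.GL23.PlaneModel
import Cfsg.Agent.Linear.Order
import Cfsg.Agent.Linear.Simple

/-!
# The collineation group of the model is the projective special linear group
-/

set_option autoImplicit false
set_option maxHeartbeats 800000

namespace Cfsg.Agent.H23.GL23.PlaneModel

/-- coordinates of a vector -/
abbrev V3 := ZMod 3 × ZMod 3 × ZMod 3

/-- matrix times vector -/
def mv (g : Matrix (Fin 3) (Fin 3) (ZMod 3)) (a : V3) : V3 :=
  (g 0 0 * a.1 + g 0 1 * a.2.1 + g 0 2 * a.2.2, g 1 0 * a.1 + g 1 1 * a.2.1 + g 1 2 * a.2.2,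
    g 2 0 * a.1 + g 2 1 * a.2.1 + g 2 2 * a.2.2)

theorem mv_mul (g h : Matrix (Fin 3) (Fin 3) (ZMod 3)) (a : V3) : mv (g * h) a = mv g (mv h a) := by
  simp only [mv, Matrix.mul_apply, Fin.sum_univ_three, Prod.mk.injEq]
  refine ⟨?_, ?_, ?_⟩ <;> ring

theorem mv_one (a : V3) : mv 1 a = a := by simp [mv, Matrix.one_apply]

/-- scalar multiple -/
def sc (c : ZMod 3) (a : V3) : V3 := (c * a.1, c * a.2.1, c * a.2.2)

theorem mv_sc (g : Matrix (Fin 3) (Fin 3) (ZMod 3)) (c : ZMod 3) (a : V3) :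
    mv g (sc c a) = sc c (mv g a) := by
  simp only [mv, sc, Prod.mk.injEq]
  refine ⟨?_, ?_, ?_⟩ <;> ring

theorem det3_mv (g : Matrix (Fin 3) (Fin 3) (ZMod 3)) (a b c : V3) :
    det3 (mv g a) (mv g b) (mv g c) = g.det * det3 a b c := by
  simp only [det3, mv, Matrix.det_fin_three]; ring

theorem det3_sc (u v w : ZMod 3) (a b c : V3) :
    det3 (sc u a) (sc v b) (sc w c) = u * v * w * det3 a b c := by
  simp only [det3, sc]; ring

theorem mv_crd_ne (g : Matrix.SpecialLinearGroup (Fin 3) (ZMod 3)) (p : Fin 13) :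
    mv g.1 (crd p) ≠ 0 := by
  intro h
  apply crd_ne p
  have e : mv (g⁻¹ * g).1 (crd p) = crd p := by rw [inv_mul_cancel]; exact mv_one _
  rw [show (g⁻¹ * g).1 = (g⁻¹).1 * g.1 from rfl, mv_mul, h] at e
  rw [← e]
  simp [mv]

/-- the image of a point -/
noncomputable def img (g : Matrix.SpecialLinearGroup (Fin 3) (ZMod 3)) (p : Fin 13) : Fin 13 :=
  Classical.choose (crd_surj _ (mv_crd_ne g p))

theorem img_spec (g : Matrix.SpecialLinearGroup (Fin 3) (ZMod 3)) (p : Fin 13) :
    ∃ c : ZMod 3, c ≠ 0 ∧ mv g.1 (crd p) = sc c (crd (img g p)) :=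
  Classical.choose_spec (crd_surj _ (mv_crd_ne g p))

theorem img_eq {g : Matrix.SpecialLinearGroup (Fin 3) (ZMod 3)} {p q : Fin 13} {c : ZMod 3}
    (hc : c ≠ 0) (h : mv g.1 (crd p) = sc c (crd q)) : img g p = q := by
  obtain ⟨d, hd, hd'⟩ := img_spec g p
  rw [h] at hd'
  refine crd_scalar _ _ (c⁻¹ * d) ?_
  have e := congrArg (sc c⁻¹) hd'
  have : ∀ (u v : ZMod 3) (a : V3), sc u (sc v a) = sc (u * v) a := fun u v a => by
    simp [sc, mul_assoc]
  rw [this, this, inv_mul_cancel₀ hc] at e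
  rw [show sc 1 (crd q) = crd q by simp [sc]] at e
  exact e

theorem img_mul (g h : Matrix.SpecialLinearGroup (Fin 3) (ZMod 3)) (p : Fin 13) :
    img (g * h) p = img g (img h p) := by
  obtain ⟨c, hc, hc'⟩ := img_spec h p
  obtain ⟨d, hd, hd'⟩ := img_spec g (img h p)
  refine img_eq (mul_ne_zero hc hd) ?_
  rw [show (g * h).1 = g.1 * h.1 from rfl, mv_mul, hc', mv_sc, hd']
  simp [sc, mul_assoc]

theorem img_one (p : Fin 13) : img 1 p = p :=
  img_eq one_ne_zero (by simp [sc, mv_one])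

/-- the action -/
noncomputable def slPerm : Matrix.SpecialLinearGroup (Fin 3) (ZMod 3) →* Equiv.Perm (Fin 13) where
  toFun g := ⟨img g, img g⁻¹, fun p => by rw [← img_mul, inv_mul_cancel, img_one],
    fun p => by rw [← img_mul, mul_inv_cancel, img_one]⟩
  map_one' := Equiv.ext img_one
  map_mul' g h := Equiv.ext (img_mul g h)

theorem slPerm_apply (g : Matrix.SpecialLinearGroup (Fin 3) (ZMod 3)) (p : Fin 13) :
    slPerm g p = img g p := rfl

theorem slPerm_mem (g : Matrix.SpecialLinearGroup (Fin 3) (ZMod 3)) : slPerm g ∈ Aut := by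
  intro p q r
  obtain ⟨a, ha, ha'⟩ := img_spec g p
  obtain ⟨b, hb, hb'⟩ := img_spec g q
  obtain ⟨c, hc, hc'⟩ := img_spec g r
  have h := det3_mv g.1 (crd p) (crd q) (crd r)
  rw [g.2, one_mul, ha', hb', hc', det3_sc] at h
  simp only [col, slPerm_apply]
  rw [← h, mul_eq_zero, or_iff_right (mul_ne_zero (mul_ne_zero ha hb) hc)]

theorem card_SL : Nat.card (Matrix.SpecialLinearGroup (Fin 3) (ZMod 3)) = 5616 := by
  rw [Linear.card_SL_three, ZMod.card]; norm_num

theorem center_SL : Subgroup.center (Matrix.SpecialLinearGroup (Fin 3) (ZMod 3)) = ⊥ := by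
  refine Subgroup.card_eq_one.1 ?_
  rw [Linear.card_center_SL]
  simp [ZMod.card]

/-- the quotient map is an isomorphism -/
noncomputable def slEquiv : Matrix.SpecialLinearGroup (Fin 3) (ZMod 3) ≃*
    Matrix.ProjectiveSpecialLinearGroup (Fin 3) (ZMod 3) :=
  MulEquiv.ofBijective (QuotientGroup.mk' _)
    ⟨(MonoidHom.ker_eq_bot_iff _).1 (by rw [QuotientGroup.ker_mk', center_SL]),
      QuotientGroup.mk'_surjective _⟩

theorem slPerm_injective : Function.Injective slPerm := by
  haveI : IsSimpleGroup (Matrix.ProjectiveSpecialLinearGroup (Fin 3) (ZMod 3)) :=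
    Linear.isSimpleGroup_PSL_fin (by norm_num) (by norm_num)
  haveI : IsSimpleGroup (Matrix.SpecialLinearGroup (Fin 3) (ZMod 3)) := slEquiv.isSimpleGroup
  rw [← MonoidHom.ker_eq_bot_iff]
  refine slPerm.normal_ker.eq_bot_or_eq_top.resolve_right fun h => ?_
  let g : Matrix.SpecialLinearGroup (Fin 3) (ZMod 3) :=
    ⟨!![1, 0, 1; 0, 1, 0; 0, 0, 1], by simp [Matrix.det_fin_three]⟩
  have hg : img g 12 = 1 := img_eq one_ne_zero (by simp [g, mv, sc]; decide +kernel)
  have h1 : slPerm g = 1 := MonoidHom.mem_ker.1 (h ▸ Subgroup.mem_top g)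
  have h2 := slPerm_apply g 12
  rw [h1, hg] at h2
  revert h2
  decide

/-- A group of order `5616` acting faithfully by collineations is the linear group. -/
theorem nonempty_equiv {G : Type*} [Group G] [Finite G] (f : G →* Equiv.Perm (Fin 13))
    (hf : Function.Injective f) (hmem : ∀ g, f g ∈ Aut) (hcard : Nat.card G = 5616) :
    Nonempty (G ≃* Matrix.ProjectiveSpecialLinearGroup (Fin 3) (ZMod 3)) := by
  have hG : Function.Bijective (f.codRestrict Aut hmem) :=
    (Nat.bijective_iff_injective_and_card _).2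
      ⟨fun a b h => hf (congrArg Subtype.val h),
        le_antisymm (Nat.card_le_card_of_injective (f.codRestrict Aut hmem)
          fun a b h => hf (congrArg Subtype.val h)) (hcard ▸ card_Aut_le)⟩
  have hS : Function.Bijective (slPerm.codRestrict Aut slPerm_mem) :=
    (Nat.bijective_iff_injective_and_card _).2
      ⟨fun a b h => slPerm_injective (congrArg Subtype.val h),
        le_antisymm (Nat.card_le_card_of_injective (slPerm.codRestrict Aut slPerm_mem)
          fun a b h => slPerm_injective (congrArg Subtype.val h)) (card_SL ▸ card_Aut_le)⟩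
  exact ⟨((MulEquiv.ofBijective _ hG).trans (MulEquiv.ofBijective _ hS).symm).trans slEquiv⟩

end Cfsg.Agent.H23.GL23.PlaneModel
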