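import Cfsg.Agent.H23.GL23.Orbits
import Cfsg.Agent.H23.GL23.PlaneSL

/-!
# A group of order `5616` with an involution centraliser `GL(2,3)` is linear
-/

set_option autoImplicit false
set_option maxHeartbeats 800000
set_option linter.style.haveILetI false

namespace Cfsg.Agent.H23.GL23

open PlaneModel (rep crd inc ln col)

universe u

theorem line_of : ∀ w : Vec, w ≠ 0 → ∃ j, w ∈ line j ∧ ∀ i, w ∈ line i → i = j := by decide +kernel

theorem line_zero : ∀ j : Fin 4, (0 : Vec) ∈ line j := by decide +kernel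

theorem line_mem_ne : ∀ j : Fin 4, ∃ w ∈ line j, w ≠ (0 : Vec) := by decide +kernel

/-- coset representatives -/
def pick (j : Fin 4) (r : ZMod 3) : Vec := (![(1, 0), (0, 1), (1, 0), (1, 0)] j).1 • (-r, 0) +
  (![(1, 0), (0, 1), (1, 0), (1, 0)] j : Vec).2 • (0, -r)

theorem pick_spec : ∀ j : Fin 4, ∀ r : ZMod 3, dot2 j (pick j r) + r = 0 := by decide +kernel

/-- direction of a point of the model -/
def dirOf (p : Fin 13) : Fin 4 := if h : p.val < 12 then ⟨p.val / 3, by omega⟩ else 0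

/-- third coordinate of a point of the model -/
def offOf (p : Fin 13) : ZMod 3 := (p.val % 3 : ℕ)

theorem line_shape : ∀ i : Fin 13,
    (∃ j, ∀ p, inc i p ↔ (p = 12 ∨ dirOf p = j)) ∨
    (∃ w : Vec, ∀ p, inc i p ↔ (p ≠ 12 ∧ dot2 (dirOf p) w + offOf p = 0)) := by
  decide +kernel

theorem point_ext : ∀ p q : Fin 13, p ≠ 12 → q ≠ 12 → dirOf p = dirOf q → offOf p = offOf q → p = q := by
  decide +kernel

theorem mem_line : ∀ j : Fin 4, ∀ w : Vec, w ∈ line j ↔ dot2 j w = 0 := by decide +kernel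

theorem dot2_sub : ∀ j : Fin 4, ∀ v w : Vec, dot2 j (v - w) = dot2 j v - dot2 j w := by decide +kernel

variable {G : Type u} [Group G] [Finite G] {D : Setup G} {A : Axes D}

theorem ent_56 : (ofCode 56).ent = (2, 0, 0, 2) := by decide +kernel

theorem mact_56 : ∀ w, mact (ofCode 56) w = -w := by decide +kernel

theorem neg_image_line : ∀ j, (line j).image (mact (ofCode 56)) = line j := by decide +kernel

namespace Axes

theorem st_acts (A : Axes D) : A.Acts (D.s * D.t) (ofCode 56) := by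
  simp only [Acts, ent_56]
  refine ⟨?_, ?_⟩
  · rw [A.st_inv A.x_plane, ← A.ep_x, ← A.ep_neg]; rfl
  · rw [A.st_inv A.y_plane, ← A.ep_y, ← A.ep_neg]; rfl

/-- the fixed points -/
def fx (A : Axes D) (g : G) : Set A.Pts := {p | g • p = p}

theorem fx_conj (k g : G) (p : A.Pts) : k • p ∈ A.fx (k * g * k⁻¹) ↔ p ∈ A.fx g := by
  simp only [fx, Set.mem_ofPred_eq, mul_smul, inv_smul_smul]
  exact (MulAction.injective k).eq_iff

theorem fx_conj_eq (k g : G) : A.fx (k * g * k⁻¹) = (fun p : A.Pts => k • p) '' A.fx g := by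
  ext p
  constructor
  · intro hp
    refine ⟨k⁻¹ • p, ?_, smul_inv_smul k p⟩
    rw [← fx_conj k, smul_inv_smul]; exact hp
  · rintro ⟨q, hq, rfl⟩
    exact (fx_conj k g q).2 hq

variable (h : A.Good)

include h

theorem Good.fx_ep {w : Vec} (hw : w ≠ 0) :
    ∃ j, w ∈ line j ∧ A.fx (A.ep w) = {p | p = A.base ∨ A.W p = line j} := by
  obtain ⟨hA, hB, hC, hD⟩ := h.orbits
  obtain ⟨j, hj, hju⟩ := line_of w hw
  refine ⟨j, hj, Set.ext fun p => ?_⟩
  simp only [fx, Set.mem_ofPred_eq]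
  by_cases hp : p = A.base
  · simp only [hp, true_or, iff_true]
    exact A.smul_base.2 (A.ep_M0 w)
  · simp only [hp, false_or]
    obtain ⟨i, hi⟩ := hA p hp
    rw [← A.mem_W, hi]
    refine ⟨fun hwi => by rw [hju i hwi], fun e => ?_⟩
    rw [e]; exact hj

theorem Good.ncard_fx_ep {w : Vec} (hw : w ≠ 0) : (A.fx (A.ep w)).ncard = 4 := by
  classical
  obtain ⟨hA, hB, hC, hD⟩ := h.orbits
  obtain ⟨j, -, hj⟩ := h.fx_ep hw
  obtain ⟨q, hq, hqj⟩ := hB j
  have he : ({p | p = A.base ∨ A.W p = line j} : Set A.Pts) = insert A.base (↑(A.orb q) : Set A.Pts) := by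
    ext p
    simp only [Set.mem_ofPred_eq, Set.mem_insert_iff, SetLike.mem_coe]
    constructor
    · rintro (hp | hp)
      · exact Or.inl hp
      · by_cases hb : p = A.base
        · exact Or.inl hb
        · exact Or.inr (hC q p hq hb (hqj.trans hp.symm))
    · rintro (hp | hp)
      · exact Or.inl hp
      · exact Or.inr ((A.mem_orb_W hp).trans hqj)
  rw [hj, he, Set.ncard_insert_of_notMem (fun hm => A.base_notMem_orb hq hm), Set.ncard_coe_finset,
    hD q hq]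

theorem Good.conj_ep {w : Vec} (hw : w ≠ 0) : IsConj D.x (A.ep w) := by
  obtain ⟨d, hd⟩ := to_x w hw
  obtain ⟨g, hg⟩ := A.mat_surjective h.hna h.hone d
  refine isConj_iff.2 ⟨g, ?_⟩
  rw [← A.ep_x, Acts.ep (A.mat_acts g), hg]
  exact congrArg A.ep hd

theorem Good.ncard_fx {g : G} (hg : IsConj D.x g) : (A.fx g).ncard = 4 := by
  obtain ⟨k, rfl⟩ := isConj_iff.1 hg
  rw [fx_conj_eq, Set.ncard_image_of_injective _ (MulAction.injective k), ← A.ep_x]
  exact h.ncard_fx_ep (by decide)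

theorem Good.fx_eq_ep {g : G} (hg : IsConj D.x g) (hgb : g • A.base = A.base) :
    ∃ w, w ≠ 0 ∧ A.fx g = A.fx (A.ep w) := by
  classical
  obtain ⟨hA, hB, hC, hD⟩ := h.orbits
  have hgM : g ∈ A.M0 := A.smul_base.1 hgb
  by_cases hgp : g ∈ A.plane
  · obtain ⟨w, hw⟩ := hgp
    have hg' : A.ep w = g := hw
    refine ⟨w, fun e => ?_, by rw [hg']⟩
    obtain ⟨k, hk⟩ := isConj_iff.1 hg
    rw [← hg', e, A.ep_zero] at hk
    exact D.x_ne_one (conj_eq_one_iff.1 hk)
  set d := A.mat ⟨g, hgM⟩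
  have hd1 : d ≠ 1 := fun e => hgp ((A.mat_ker h.hna _).1 e)
  have hd3 : d * d * d = 1 := by
    have : (⟨g, hgM⟩ : ↥A.M0) * ⟨g, hgM⟩ * ⟨g, hgM⟩ = 1 := Subtype.ext (by
      obtain ⟨k, hk⟩ := isConj_iff.1 hg
      change g * g * g = 1
      rw [← hk, show k * D.x * k⁻¹ * (k * D.x * k⁻¹) * (k * D.x * k⁻¹) = k * (D.x * D.x * D.x) * k⁻¹ by
        group, D.x_cube]
      group)
    rw [← map_mul, ← map_mul, this, map_one]
  have hinv : ∀ p ∈ A.fx g, ∀ j, A.W p = line j → ∀ w ∈ line j, mact d w ∈ line j := by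
    intro p hp j hj w hw
    have e := A.W_smul (A.mat_acts ⟨g, hgM⟩) p
    change A.W (g • p) = _ at e
    rw [show g • p = p from hp, hj] at e
    rw [e]
    exact Finset.mem_image.2 ⟨w, hw, rfl⟩
  obtain ⟨p, hp, hpb⟩ : ∃ p ∈ A.fx g, p ≠ A.base := by
    by_contra hall
    push Not at hall
    have := Set.ncard_le_ncard (show A.fx g ⊆ {A.base} from hall)
    rw [h.ncard_fx hg, Set.ncard_singleton] at this
    omega
  obtain ⟨j, hj⟩ := hA p hpb
  obtain ⟨w, hw, hw0⟩ := line_mem_ne j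
  refine ⟨w, hw0, ?_⟩
  obtain ⟨j', hj'w, hj'⟩ := h.fx_ep hw0
  obtain ⟨j'', -, hu⟩ := line_of w hw0
  have hjj : j' = j := (hu j' hj'w).trans (hu j hw).symm
  subst hjj
  refine Set.eq_of_subset_of_ncard_le ?_ (le_of_eq ((h.ncard_fx_ep hw0).trans (h.ncard_fx hg).symm))
  intro q hq
  rw [hj']
  by_cases hqb : q = A.base
  · exact Or.inl hqb
  · obtain ⟨i, hi⟩ := hA q hqb
    exact Or.inr (hi.trans (congrArg line
      (fix_one_line d hd3 hd1 i _ (hinv q hq i hi) (hinv p hp _ hj))))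

end Axes

namespace Axes

/-- lines -/
def IsLine (A : Axes D) (l : Set A.Pts) : Prop := ∃ g, IsConj D.x g ∧ l = A.fx g

theorem isLine_smul {l : Set A.Pts} (hl : A.IsLine l) (k : G) :
    A.IsLine ((fun p : A.Pts => k • p) '' l) := by
  obtain ⟨g, hg, rfl⟩ := hl
  exact ⟨k * g * k⁻¹, hg.trans (isConj_iff.2 ⟨k, rfl⟩), (fx_conj_eq k g).symm⟩

variable (h : A.Good)

include h

theorem Good.exists_isLine {p q : A.Pts} (hpq : p ≠ q) : ∃ l, A.IsLine l ∧ p ∈ l ∧ q ∈ l := by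
  obtain ⟨hA, hB, hC, hD⟩ := h.orbits
  obtain ⟨k, rfl⟩ := A.transitive p
  have hq : k⁻¹ • q ≠ A.base := fun e => hpq (by rw [← e, smul_inv_smul])
  obtain ⟨j, hj⟩ := hA _ hq
  obtain ⟨w, hw, hw0⟩ := line_mem_ne j
  refine ⟨_, isLine_smul ⟨A.ep w, h.conj_ep hw0, rfl⟩ k, ⟨A.base, A.smul_base.2 (A.ep_M0 w), rfl⟩,
    ⟨k⁻¹ • q, A.mem_W.1 (hj ▸ hw), smul_inv_smul k q⟩⟩

theorem Good.line_unique {p q : A.Pts} (hpq : p ≠ q) {l m : Set A.Pts} (hl : A.IsLine l)
    (hm : A.IsLine m) (hpl : p ∈ l) (hql : q ∈ l) (hpm : p ∈ m) (hqm : q ∈ m) : l = m := by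
  obtain ⟨hA, hB, hC, hD⟩ := h.orbits
  obtain ⟨k, rfl⟩ := A.transitive p
  obtain ⟨g₁, hg₁, rfl⟩ := hl
  obtain ⟨g₂, hg₂, rfl⟩ := hm
  have hq : k⁻¹ • q ≠ A.base := fun e => hpq (by rw [← e, smul_inv_smul])
  obtain ⟨j, hj⟩ := hA _ hq
  have key : ∀ g : G, IsConj D.x g → k • A.base ∈ A.fx g → q ∈ A.fx g →
      A.fx g = (fun p : A.Pts => k • p) '' {p | p = A.base ∨ A.W p = line j} := by
    intro g hg hp hq'
    have hg' : IsConj D.x (k⁻¹ * g * k) := hg.trans (isConj_iff.2 ⟨k⁻¹, by rw [inv_inv]⟩)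
    have hgb : (k⁻¹ * g * k) • A.base = A.base := by
      rw [mul_smul, mul_smul, show g • k • A.base = k • A.base from hp, inv_smul_smul]
    obtain ⟨w, hw, hfx⟩ := h.fx_eq_ep hg' hgb
    obtain ⟨i, -, hi⟩ := h.fx_ep hw
    have hmem : k⁻¹ • q ∈ A.fx (k⁻¹ * g * k) := by
      change (k⁻¹ * g * k) • k⁻¹ • q = k⁻¹ • q
      rw [mul_smul, mul_smul, smul_inv_smul, show g • q = q from hq']
    rw [hfx, hi] at hmem
    have hij : line j = line i := hj.symm.trans (hmem.resolve_left hq)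
    rw [← hij] at hi
    rw [← hi, ← hfx, ← fx_conj_eq]
    congr 1
    group
  rw [key g₁ hg₁ hpl hql, key g₂ hg₂ hpm hqm]

theorem Good.ncard_line {l : Set A.Pts} (hl : A.IsLine l) : l.ncard = 4 := by
  obtain ⟨g, hg, rfl⟩ := hl
  exact h.ncard_fx hg

/-- the points fixed by the inverting involution -/
theorem Good.exists_fixed (j : Fin 4) :
    ∃ p, p ≠ A.base ∧ A.W p = line j ∧ (D.s * D.t) • p = p := by
  obtain ⟨hA, hB, hC, hD⟩ := h.orbits
  obtain ⟨q, hq, hqj⟩ := hB j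
  have hτ := A.st_acts
  have hneg := mact_56
  have himg := neg_image_line
  have hτq : (D.s * D.t) • q ∈ A.orb q := by
    refine hC q _ hq (fun e => hq (MulAction.injective (D.s * D.t) (e.trans
      (A.smul_base.2 (A.mem_M0_of_acts hτ)).symm))) ?_
    rw [A.W_smul hτ, hqj, himg]
  classical
  obtain ⟨w₀, -, hw₀⟩ := Finset.mem_image.1 hτq
  refine ⟨A.ep (-w₀) • q, fun e => hq (MulAction.injective (A.ep (-w₀)) (e.trans
    (A.smul_base.2 (A.ep_M0 _)).symm)), (A.W_ep _ _).trans hqj, ?_⟩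
  have e1 : D.s * D.t * A.ep (-w₀) = A.ep w₀ * (D.s * D.t) := by
    have e2 := Acts.ep hτ (-w₀)
    rw [show act ((ofCode 56).ent.1, (ofCode 56).ent.2.2.1)
      ((ofCode 56).ent.2.1, (ofCode 56).ent.2.2.2) (-w₀) = w₀ from (hneg (-w₀)).trans (neg_neg w₀)] at e2
    rw [← e2]; group
  rw [← mul_smul, e1, mul_smul, ← hw₀, ← mul_smul, ← A.ep_add]
  refine A.ep_eq_iff.2 ?_
  rw [show w₀ + w₀ - -w₀ = 0 from (by decide : ∀ w : Vec, w + w - -w = 0) w₀]
  exact A.mem_W.2 (by rw [A.ep_zero, one_smul])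

theorem Good.fixed_unique {p q : A.Pts} (hp : p ≠ A.base) (hq : q ≠ A.base)
    (hW : A.W p = A.W q) (hpf : (D.s * D.t) • p = p) (hqf : (D.s * D.t) • q = q) : p = q := by
  classical
  obtain ⟨hA, hB, hC, hD⟩ := h.orbits
  obtain ⟨j, hj⟩ := hA p hp
  obtain ⟨w, -, rfl⟩ := Finset.mem_image.1 (hC p q hp hq hW)
  have e1 : D.s * D.t * A.ep w = A.ep (-w) * (D.s * D.t) := by
    rw [A.ep_neg, ← A.st_inv (A.ep_mem w)]; group
  rw [← mul_smul, e1, mul_smul, hpf] at hqf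
  have h2 := A.ep_eq_iff.1 hqf
  rw [hj, show -w - w = w from (by decide : ∀ w : Vec, -w - w = w) w] at h2
  exact (A.mem_W.1 (hj ▸ h2)).symm

/-- the line of fixed points of the inverting involution -/
theorem Good.exists_axis_line : ∃ (f : Fin 4 → A.Pts) (l : Set A.Pts), A.IsLine l ∧
    ∀ j, f j ≠ A.base ∧ A.W (f j) = line j ∧ f j ∈ l := by
  classical
  obtain ⟨hA, hB, hC, hD⟩ := h.orbits
  choose f hf using h.exists_fixed
  have h01 : f 0 ≠ f 1 := fun e => absurd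
    (line_ne 0 1 ((hf 0).2.1.symm.trans (e ▸ (hf 1).2.1))) (by decide)
  obtain ⟨l, hl, h0, h1⟩ := h.exists_isLine h01
  refine ⟨f, l, hl, fun j => ⟨(hf j).1, (hf j).2.1, ?_⟩⟩
  -- invariance
  have hinv : ∀ p ∈ l, (D.s * D.t) • p ∈ l := by
    intro p hp
    have := h.line_unique h01 (isLine_smul hl (D.s * D.t)) hl
      ⟨f 0, h0, (hf 0).2.2⟩ ⟨f 1, h1, (hf 1).2.2⟩ h0 h1
    rw [← this]; exact ⟨p, hp, rfl⟩
  have hcol : ∀ p ∈ l, ∀ q ∈ l, p ≠ q → p ≠ A.base → q ≠ A.base → A.W p = A.W q → A.base ∈ l := by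
    intro p hp q hq hpq hpb hqb hW
    obtain ⟨i, hi⟩ := hA p hpb
    obtain ⟨w, hw, hw0⟩ := line_mem_ne i
    have hm : A.IsLine (A.fx (A.ep w)) := ⟨A.ep w, h.conj_ep hw0, rfl⟩
    rw [h.line_unique hpq hl hm hp hq (A.mem_W.1 (hi ▸ hw)) (A.mem_W.1 (hW ▸ hi ▸ hw))]
    exact A.smul_base.2 (A.ep_M0 w)
  have hbase : A.base ∉ l := by
    intro hb
    obtain ⟨w, hw, hw0⟩ := line_mem_ne 0
    have hm : A.IsLine (A.fx (A.ep w)) := ⟨A.ep w, h.conj_ep hw0, rfl⟩
    have hlm := h.line_unique (hf 0).1 hl hm h0 hb (A.mem_W.1 ((hf 0).2.1 ▸ hw))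
      (A.smul_base.2 (A.ep_M0 w))
    obtain ⟨i, hiw, hi⟩ := h.fx_ep hw0
    rw [hlm, hi] at h1
    obtain ⟨i', -, hu⟩ := line_of w hw0
    have e := h1.resolve_left (hf 1).1
    rw [(hf 1).2.1] at e
    exact absurd ((hu 0 hw).trans ((hu i hiw).symm.trans (line_ne _ _ e).symm)) (by decide)
  -- each class meets the line once
  haveI : Fintype A.Pts := Fintype.ofFinite _
  have hinj : Set.InjOn A.W l := by
    intro p hp q hq hW
    by_contra hne
    exact hbase (hcol p hp q hq hne (fun e => hbase (e ▸ hp)) (fun e => hbase (e ▸ hq)) hW)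
  have himg : A.W '' l = Set.range line := by
    refine Set.eq_of_subset_of_ncard_le ?_ ?_
    · rintro _ ⟨p, hp, rfl⟩
      obtain ⟨i, hi⟩ := hA p fun e => hbase (e ▸ hp)
      exact ⟨i, hi.symm⟩
    · rw [Set.ncard_range_of_injective fun a b e => line_ne a b e, Nat.card_fin,
        Set.ncard_image_of_injOn hinj, h.ncard_line hl]
  obtain ⟨p, hp, hpW⟩ := himg.ge ⟨j, rfl⟩
  have hpb : p ≠ A.base := fun e => hbase (e ▸ hp)
  have hτb : (D.s * D.t) • p ≠ A.base := fun e => hbase (e ▸ hinv p hp)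
  have hW' : A.W ((D.s * D.t) • p) = A.W p := by
    obtain ⟨i, hi⟩ := hA p hpb
    rw [A.W_smul A.st_acts, hi, neg_image_line]
  have hfix : (D.s * D.t) • p = p := hinj (hinv p hp) hp hW'
  rwa [h.fixed_unique (hf j).1 hpb ((hf j).2.1.trans hpW.symm) (hf j).2.2 hfix]

/-- The group is the linear group. -/
theorem Good.nonempty_equiv :
    Nonempty (G ≃* Matrix.ProjectiveSpecialLinearGroup (Fin 3) (ZMod 3)) := by
  classical
  haveI := h.simple
  obtain ⟨hA, hB, hC, hD⟩ := h.orbits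
  obtain ⟨f, ℓ₀, hℓ₀, hf⟩ := h.exists_axis_line
  -- coordinates
  let Φ : Fin 13 → A.Pts := fun p =>
    if p = 12 then A.base else A.ep (pick (dirOf p) (offOf p)) • f (dirOf p)
  have hΦb : Φ 12 = A.base := if_pos rfl
  have hΦ : ∀ p, p ≠ 12 → Φ p ≠ A.base ∧ A.W (Φ p) = line (dirOf p) ∧
      Φ p = A.ep (pick (dirOf p) (offOf p)) • f (dirOf p) := by
    intro p hp
    have e : Φ p = A.ep (pick (dirOf p) (offOf p)) • f (dirOf p) := if_neg hp
    refine ⟨fun hb => (hf (dirOf p)).1 ?_, ?_, e⟩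
    · exact MulAction.injective (A.ep (pick (dirOf p) (offOf p)))
        ((e.symm.trans hb).trans (A.smul_base.2 (A.ep_M0 _)).symm)
    · rw [e, A.W_ep, (hf _).2.1]
  have hinj : Function.Injective Φ := by
    intro p q e
    by_cases hp : p = 12
    · by_cases hq : q = 12
      · rw [hp, hq]
      · exact absurd (e.symm.trans (hp ▸ hΦb)) (hΦ q hq).1
    · by_cases hq : q = 12
      · exact absurd (e.trans (hq ▸ hΦb)) (hΦ p hp).1
      · have hdir : dirOf p = dirOf q :=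
          line_ne _ _ ((hΦ p hp).2.1.symm.trans (e ▸ (hΦ q hq).2.1))
        refine point_ext p q hp hq hdir ?_
        rw [(hΦ p hp).2.2, (hΦ q hq).2.2, ← hdir, A.ep_eq_iff, (hf _).2.1, mem_line, dot2_sub] at e
        have e1 := pick_spec (dirOf p) (offOf p)
        have e2 := pick_spec (dirOf p) (offOf q)
        linear_combination e1 - e2 - e
  have hbij : Function.Bijective Φ := (Nat.bijective_iff_injective_and_card Φ).2
    ⟨hinj, by rw [Nat.card_fin, h.card_pts]⟩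
  -- lines
  have hline : ∀ i, ∃ l, A.IsLine l ∧ ∀ p, inc i p → Φ p ∈ l := by
    intro i
    rcases line_shape i with ⟨j, hj⟩ | ⟨w, hw⟩
    · obtain ⟨v, hv, hv0⟩ := line_mem_ne j
      refine ⟨A.fx (A.ep v), ⟨A.ep v, h.conj_ep hv0, rfl⟩, fun p hp => ?_⟩
      by_cases hp12 : p = 12
      · rw [hp12, hΦb]; exact A.smul_base.2 (A.ep_M0 v)
      · refine A.mem_W.1 ?_
        rw [(hΦ p hp12).2.1, ((hj p).1 hp).resolve_left hp12]
        exact hv
    · refine ⟨_, isLine_smul hℓ₀ (A.ep w), fun p hp => ⟨f (dirOf p), (hf _).2.2, ?_⟩⟩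
      obtain ⟨hp12, hd⟩ := (hw p).1 hp
      rw [(hΦ p hp12).2.2]
      refine A.ep_eq_iff.2 ?_
      rw [(hf _).2.1, mem_line, dot2_sub]
      linear_combination hd - pick_spec (dirOf p) (offOf p)
  let Col : A.Pts → A.Pts → A.Pts → Prop := fun a b c => a = b ∨ ∃ l, A.IsLine l ∧ a ∈ l ∧ b ∈ l ∧ c ∈ l
  have hcol : ∀ p q r, col p q r ↔ Col (Φ p) (Φ q) (Φ r) := by
    intro p q r
    by_cases hpq : p = q
    · subst hpq
      exact iff_of_true (PlaneModel.col_self p r) (Or.inl rfl)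
    rw [PlaneModel.col_iff p q r hpq]
    obtain ⟨l, hl, hlmem⟩ := hline (ln p q)
    obtain ⟨hip, hiq⟩ := PlaneModel.inc_ln p q
    constructor
    · exact fun hr => Or.inr ⟨l, hl, hlmem p hip, hlmem q hiq, hlmem r hr⟩
    · rintro (e | ⟨m, hm, hpm, hqm, hrm⟩)
      · exact absurd (hinj e) hpq
      · rw [← h.line_unique (fun e => hpq (hinj e)) hl hm (hlmem p hip) (hlmem q hiq) hpm hqm] at hrm
        have himg : Φ '' {s | inc (ln p q) s} = l := by
          refine Set.eq_of_subset_of_ncard_le (by rintro _ ⟨s, hs, rfl⟩; exact hlmem s hs) ?_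
          rw [h.ncard_line hl, Set.ncard_image_of_injective _ hinj, ← PlaneModel.card_line (ln p q),
            ← Set.ncard_coe_finset, Finset.coe_filter]
          simp
        rw [← himg] at hrm
        obtain ⟨s, hs, hsr⟩ := hrm
        rwa [← hinj hsr]
  have hCol : ∀ (g : G) a b c, Col (g • a) (g • b) (g • c) ↔ Col a b c := by
    have hone : ∀ (g : G) a b c, Col a b c → Col (g • a) (g • b) (g • c) := by
      rintro g a b c (e | ⟨l, hl, ha, hb, hc⟩)
      · exact Or.inl (by rw [e])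
      · exact Or.inr ⟨_, isLine_smul hl g, ⟨a, ha, rfl⟩, ⟨b, hb, rfl⟩, ⟨c, hc, rfl⟩⟩
    intro g a b c
    refine ⟨fun e => ?_, hone g a b c⟩
    have := hone g⁻¹ _ _ _ e
    simpa using this
  let e := Equiv.ofBijective Φ hbij
  let F : G →* Equiv.Perm (Fin 13) :=
    (e.symm.permCongrHom.toMonoidHom).comp (MulAction.toPermHom G A.Pts)
  have hF : ∀ g p, Φ (F g p) = g • Φ p := by
    intro g p
    change e (e.symm (g • e p)) = _
    rw [e.apply_symm_apply]
    rfl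
  refine PlaneModel.nonempty_equiv F ?_ ?_ h.card_G
  · intro a b hab
    refine faithful_cosets A.M0 (fun ht => ?_) (MulEquiv.injective e.symm.permCongrHom hab)
    have := A.card_M0 h.hna h.hone
    rw [ht, Subgroup.card_top, h.card_G] at this
    omega
  · intro g p q r
    rw [hcol, hcol, hF, hF, hF, hCol]

end Axes

end Cfsg.Agent.H23.GL23
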