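import Cfsg.Agent.H23.GL23.ThreeAxes

/-!
# The Sylow subgroup for the prime three is not abelian
-/

set_option autoImplicit false
set_option maxHeartbeats 800000
set_option linter.style.haveILetI false

namespace Cfsg.Agent.H23.GL23

universe u

variable {G : Type u} [Group G] [Finite G] {D : Setup G}

namespace Axes

variable (A : Axes D)

theorem x_mem : D.x ∈ A.K := D.x_mem_K A.mem_K

theorem x_comm {k : G} (hk : k ∈ A.K) : k * D.x = D.x * k := D.x_central A.mem_K hk

theorem commute_xy : Commute D.x A.y := (A.x_comm A.y_mem).symm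

theorem s_z : D.s * A.z * D.s⁻¹ = A.z⁻¹ := by
  have h : D.s * D.t * A.z * (D.s * D.t)⁻¹ = D.s * (D.t * A.z * D.t⁻¹) * D.s⁻¹ := by group
  rw [A.st_z, A.t_z] at h
  calc D.s * A.z * D.s⁻¹ = (D.s * A.z⁻¹ * D.s⁻¹)⁻¹ := by group
    _ = A.z⁻¹ := by rw [← h]

theorem st_y : D.s * D.t * A.y * (D.s * D.t)⁻¹ = A.y⁻¹ := by
  rw [show D.s * D.t * A.y * (D.s * D.t)⁻¹ = D.s * (D.t * A.y * D.t⁻¹) * D.s⁻¹ by group, A.t_y,
    show D.s * A.y⁻¹ * D.s⁻¹ = (D.s * A.y * D.s⁻¹)⁻¹ by group, A.s_y]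

theorem y_ne_one : A.y ≠ 1 := fun h => A.y_not (h ▸ Subgroup.one_mem _)

theorem z_ne_one : A.z ≠ 1 := fun h => A.z_not (h ▸ Subgroup.one_mem _)

/-- `⟨x, y⟩` as a subgroup -/
noncomputable def plane : Subgroup G where
  carrier := Set.range (expPair D.x A.y)
  one_mem' := ⟨0, by simp [expPair]⟩
  mul_mem' := by
    rintro _ _ ⟨v, rfl⟩ ⟨w, rfl⟩
    exact ⟨v + w, expPair_add D.x_cube A.y_cube A.commute_xy v w⟩
  inv_mem' := by
    rintro _ ⟨v, rfl⟩
    refine ⟨-v, (inv_eq_of_mul_eq_one_right ?_).symm⟩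
    rw [← expPair_add D.x_cube A.y_cube A.commute_xy, add_neg_cancel]
    simp [expPair]

theorem card_plane : Nat.card ↥A.plane = 9 :=
  (Nat.card_range_of_injective
    (expPair_injective D.x_cube D.x_ne_one A.y_cube A.y_not A.commute_xy)).trans card_vec

theorem x_plane : D.x ∈ A.plane := ⟨(1, 0), by simp [expPair, ZMod.val_one]⟩

theorem y_plane : A.y ∈ A.plane := ⟨(0, 1), by simp [expPair, ZMod.val_one]⟩

theorem plane_le : A.plane ≤ A.K := by
  rintro _ ⟨v, rfl⟩
  exact A.K.mul_mem (A.K.pow_mem A.x_mem _) (A.K.pow_mem A.y_mem _)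

theorem z_not_plane : A.z ∉ A.plane := by
  rintro ⟨v, hv⟩
  have hx : D.s * D.t * D.x * (D.s * D.t)⁻¹ = D.x⁻¹ := D.st_x
  have h : D.s * D.t * expPair D.x A.y v * (D.s * D.t)⁻¹ = (expPair D.x A.y v)⁻¹ := by
    rw [expPair, show D.s * D.t * (D.x ^ v.1.val * A.y ^ v.2.val) * (D.s * D.t)⁻¹ =
      (D.s * D.t * D.x ^ v.1.val * (D.s * D.t)⁻¹) * (D.s * D.t * A.y ^ v.2.val * (D.s * D.t)⁻¹) by group,
      ← conj_pow_eq, ← conj_pow_eq, hx, A.st_y, inv_pow, inv_pow, mul_inv_rev]
    exact (A.commute_xy.pow_pow _ _).inv_inv.eq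
  rw [hv, A.st_z] at h
  have h2 : A.z * A.z = 1 := by nth_rw 2 [h]; exact mul_inv_cancel _
  exact A.z_ne_one (by simpa [h2] using A.z_cube)

theorem K_le_of_mem {H : Subgroup G} (hx : D.x ∈ H) (hy : A.y ∈ H) (hz : A.z ∈ H) : A.K ≤ H := by
  have hle : A.plane ≤ A.K ⊓ H := le_inf A.plane_le (by
    rintro _ ⟨v, rfl⟩
    exact H.mul_mem (H.pow_mem hx _) (H.pow_mem hy _))
  obtain ⟨k, hk⟩ : 9 ∣ Nat.card ↥(A.K ⊓ H : Subgroup G) := A.card_plane ▸ Subgroup.card_dvd_of_le hle
  have h27 : Nat.card ↥(A.K ⊓ H : Subgroup G) ∣ 27 := A.card_K ▸ Subgroup.card_dvd_of_le inf_le_left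
  have hne : k ≠ 1 := by
    rintro rfl
    have := Subgroup.eq_of_le_of_card_ge hle (by rw [hk, A.card_plane])
    exact A.z_not_plane (this ▸ ⟨A.z_mem, hz⟩)
  have : A.K ⊓ H = A.K := Subgroup.eq_of_le_of_card_ge inf_le_left (by
    rw [hk] at h27 ⊢
    have h3 : k ∣ 3 := Nat.dvd_of_mul_dvd_mul_left (show 0 < 9 by norm_num) h27
    rcases (Nat.dvd_prime Nat.prime_three).1 h3 with rfl | rfl
    · exact absurd rfl hne
    · rw [A.card_K])
  exact inf_eq_left.1 this

/-- elements of `C(x)` -/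
theorem C_split {g : G} (hg : g ∈ D.C) : g ∈ A.K ∨ g * D.t ∈ A.K := by
  set K' := A.K.subgroupOf D.C
  have hle : A.K ≤ D.C := fun k hk => ((A.mem_K k).1 hk).1
  have hidx : K'.index = 2 := by
    have := K'.card_mul_index
    rw [Nat.card_congr (Subgroup.subgroupOfEquivOfLe hle).toEquiv, A.card_K, A.card_C] at this
    omega
  by_cases hgK : g ∈ A.K
  · exact Or.inl hgK
  · right
    have htC : D.t ∈ D.C := D.mem_C.2 (D.inc_comm e3).symm
    have h1 : (⟨g, hg⟩ : ↥D.C) ∉ K' := fun h => hgK (Subgroup.mem_subgroupOf.1 h)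
    have h2 : (⟨D.t, htC⟩ : ↥D.C) ∉ K' := fun h => by
      have := ((A.mem_K _).1 (Subgroup.mem_subgroupOf.1 h)).2
      rw [D.order_t] at this
      exact absurd this (by decide)
    exact Subgroup.mem_subgroupOf.1 ((Subgroup.mul_mem_iff_of_index_two hidx).2 (iff_of_false h1 h2))

/-- With an abelian Sylow subgroup the elements of `C(y)` of odd order are those of `K`. -/
theorem mem_normalizer_of_conj (hone : ∀ v : G, orderOf v = 2 → IsConj D.t v)
    (hab : A.y * A.z = A.z * A.y) {w : G} (hw : w = A.y ∨ w = A.z) :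
    ∃ g ∈ Subgroup.normalizer (A.K : Set G), g * D.x * g⁻¹ = w := by
  have hwK : w ∈ A.K := by rcases hw with rfl | rfl; exacts [A.y_mem, A.z_mem]
  obtain ⟨σ, hσ, hσw⟩ : ∃ σ : G, orderOf σ = 2 ∧ σ * w * σ⁻¹ = w := by
    rcases hw with rfl | rfl
    exacts [⟨_, D.order_s, A.s_y⟩, ⟨_, D.order_st, A.st_z⟩]
  have hw3 : w * w * w = 1 := by rcases hw with rfl | rfl; exacts [A.y_cube, A.z_cube]
  have hw1 : w ≠ 1 := by rcases hw with rfl | rfl; exacts [A.y_ne_one, A.z_ne_one]
  obtain ⟨g, -, hgw⟩ := D.pair_conj hone hσ hw3 hw1 (comm_of_conj_eq hσw).symm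
  refine ⟨g, ?_, hgw⟩
  have hcw : ∀ k ∈ A.K, k * w = w * k := by
    have : A.K ≤ Subgroup.centralizer ({w} : Set G) := by
      refine A.K_le_of_mem ?_ ?_ ?_ <;> rw [Subgroup.mem_centralizer_singleton_iff]
      · exact (A.x_comm hwK).symm
      · rcases hw with rfl | rfl
        exacts [rfl, hab]
      · rcases hw with rfl | rfl
        exacts [hab.symm, rfl]
    exact fun k hk => Subgroup.mem_centralizer_singleton_iff.1 (this hk)
  have hle : A.K ≤ A.K.map (MulAut.conj g).toMonoidHom := by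
    intro k hk
    refine ⟨g⁻¹ * k * g, (A.mem_K _).2 ⟨D.mem_C.2 ?_, ?_⟩, ?_⟩
    · calc g⁻¹ * k * g * D.x = g⁻¹ * (k * (g * D.x * g⁻¹)) * g := by group
        _ = D.x * (g⁻¹ * k * g) := by rw [hgw, hcw k hk, ← hgw]; group
    · have := orderOf_conj' g⁻¹ k
      rw [inv_inv] at this
      rw [this]; exact ((A.mem_K k).1 hk).2
    · change g * (g⁻¹ * k * g) * g⁻¹ = k
      group
  have heq := Subgroup.eq_of_le_of_card_ge hle
    (le_of_eq (Subgroup.card_map_of_injective (MulAut.conj g).injective))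
  rw [Subgroup.mem_normalizer_iff]
  intro k
  constructor
  · intro hk
    rw [heq]; exact ⟨k, hk, rfl⟩
  · intro hk
    rw [heq] at hk
    obtain ⟨a, ha, he⟩ := hk
    rwa [← (MulAut.conj g).injective (he : (MulAut.conj g) a = (MulAut.conj g) k)]

/-- The Sylow subgroup is not abelian. -/
theorem not_abelian (hone : ∀ v : G, orderOf v = 2 → IsConj D.t v) {q : ℕ}
    (hq : q = 5 ∨ q = 13) (hcard : Nat.card G = 16 * 27 * q) : A.y * A.z ≠ A.z * A.y := by
  intro hab
  classical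
  have hqp : q.Prime := by rcases hq with rfl | rfl <;> norm_num
  haveI : Fact (Nat.Prime 3) := ⟨Nat.prime_three⟩
  haveI : Fact q.Prime := ⟨hqp⟩
  set N := Subgroup.normalizer (A.K : Set G)
  have hCN : D.C ≤ N := by
    intro g hg
    have hpm : ∀ h : G, h ∈ D.C → h * D.x * h⁻¹ = D.x := fun h hh => conj_eq_of_comm (D.mem_C.1 hh)
    rw [Subgroup.mem_normalizer_iff]
    intro k
    refine ⟨fun hk => D.K_stable A.mem_K (Or.inl (hpm g hg)) hk, fun hk => ?_⟩
    have := D.K_stable A.mem_K (Or.inl (hpm _ (D.C.inv_mem hg))) hk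
    simpa [mul_assoc] using this
  -- the orbit of `x`
  obtain ⟨gy, hgyN, hgy⟩ := A.mem_normalizer_of_conj hone hab (Or.inl rfl)
  obtain ⟨gz, hgzN, hgz⟩ := A.mem_normalizer_of_conj hone hab (Or.inr rfl)
  letI : MulAction ↥N G := MulAction.compHom G (ConjAct.toConjAct.toMonoidHom.comp N.subtype)
  have hsmul : ∀ (n : ↥N) (g : G), n • g = (n : G) * g * (n : G)⁻¹ := fun n g =>
    ConjAct.smul_def _ _
  set O := MulAction.orbit ↥N D.x
  have hstab : Nat.card ↥(MulAction.stabilizer ↥N D.x) = 54 := by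
    rw [← A.card_C, ← Nat.card_congr (Subgroup.subgroupOfEquivOfLe hCN).toEquiv]
    refine Nat.card_congr (Equiv.subtypeEquivRight fun n => ?_)
    rw [MulAction.mem_stabilizer_iff, hsmul, Subgroup.mem_subgroupOf, D.mem_C]
    exact ⟨comm_of_conj_eq, conj_eq_of_comm⟩
  have hNO : Nat.card ↥N = 54 * Nat.card ↥O := by
    rw [← hstab, ← (MulAction.stabilizer ↥N D.x).card_mul_index, MulAction.index_stabilizer,
      Nat.card_coe_set_eq]
  have hOK : O ⊆ {k : G | k ∈ A.K ∧ k ≠ 1} := by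
    rintro _ ⟨n, rfl⟩
    simp only [hsmul]
    refine ⟨(Subgroup.mem_normalizer_iff.1 n.2 _).1 A.x_mem, ?_⟩
    intro h
    exact D.x_ne_one (conj_eq_one_iff.1 h)
  have hOle : Nat.card ↥O ≤ 26 := by
    have hsub : O ⊆ (A.K : Set G) \ {1} := fun k hk => ⟨(hOK hk).1, (hOK hk).2⟩
    have h1 := Set.ncard_le_ncard hsub
    rw [Set.ncard_sdiff_singleton_of_mem A.K.one_mem, ← Nat.card_coe_set_eq (A.K : Set G),
      show Nat.card ↥(A.K : Set G) = 27 from A.card_K] at h1
    rw [Nat.card_coe_set_eq]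
    omega
  -- the six axial elements
  set six : Finset G := {D.x, D.x⁻¹, A.y, A.y⁻¹, A.z, A.z⁻¹}
  have hsN : D.s ∈ N := by
    rw [Subgroup.mem_normalizer_iff]
    intro k
    refine ⟨fun hk => D.K_stable A.mem_K (Or.inr D.s_x) hk, fun hk => ?_⟩
    have := D.K_stable A.mem_K (Or.inr D.s_x) hk
    rwa [show D.s * (D.s * k * D.s⁻¹) * D.s⁻¹ = (D.s * D.s) * k * (D.s * D.s)⁻¹ by group,
      D.s_mul_self, one_mul, inv_one, mul_one] at this
  have htN : D.t ∈ N := hCN (D.mem_C.2 (D.inc_comm e3).symm)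
  have hinO : ∀ {g v w : G}, g ∈ N → g * v * g⁻¹ = w → v ∈ O → w ∈ O := by
    rintro g v w hg rfl hv
    have := MulAction.mem_orbit_of_mem_orbit (⟨g, hg⟩ : ↥N) hv
    rwa [hsmul] at this
  have hxO : D.x ∈ O := MulAction.mem_orbit_self _
  have hyO := hinO hgyN hgy hxO
  have hzO := hinO hgzN hgz hxO
  have hsix : (six : Set G) ⊆ O := by
    intro g hg
    simp only [six, Finset.coe_insert, Finset.coe_singleton, Set.mem_insert_iff,
      Set.mem_singleton_iff] at hg
    rcases hg with rfl | rfl | rfl | rfl | rfl | rfl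
    · exact hxO
    · exact hinO hsN D.s_x hxO
    · exact hyO
    · exact hinO htN A.t_y hyO
    · exact hzO
    · exact hinO htN A.t_z hzO
  have hsixcard : six.card = 6 := by
    have hni : ∀ {a : G}, a * a * a = 1 → a ≠ 1 → a ≠ a⁻¹ := fun {a} h3 h1 h => by
      have h2 : a * a = 1 := by nth_rw 1 [h]; exact inv_mul_cancel _
      exact h1 (by simpa [h2] using h3)
    have hzp : ∀ {w : G}, w ∉ Subgroup.zpowers D.x → D.x ≠ w ∧ D.x ≠ w⁻¹ ∧ D.x⁻¹ ≠ w ∧ D.x⁻¹ ≠ w⁻¹ := by
      intro w hw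
      refine ⟨fun h => hw (h ▸ Subgroup.mem_zpowers _), fun h => hw ?_,
        fun h => hw (h ▸ Subgroup.inv_mem _ (Subgroup.mem_zpowers _)), fun h => hw ?_⟩
      · rw [← inv_inv w, ← h]; exact Subgroup.inv_mem _ (Subgroup.mem_zpowers _)
      · rw [← inv_inj.1 h]; exact Subgroup.mem_zpowers _
    have hyz : A.y ≠ A.z ∧ A.y ≠ A.z⁻¹ ∧ A.y⁻¹ ≠ A.z ∧ A.y⁻¹ ≠ A.z⁻¹ := by
      refine ⟨fun h => A.z_not_plane (h ▸ A.y_plane), fun h => A.z_not_plane ?_,
        fun h => A.z_not_plane (h ▸ A.plane.inv_mem A.y_plane),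
        fun h => A.z_not_plane (inv_inj.1 h ▸ A.y_plane)⟩
      rw [← inv_inv A.z, ← h]; exact A.plane.inv_mem A.y_plane
    obtain ⟨a1, a2, a3, a4⟩ := hzp A.y_not
    obtain ⟨b1, b2, b3, b4⟩ := hzp A.z_not
    obtain ⟨c1, c2, c3, c4⟩ := hyz
    simp only [six]
    rw [Finset.card_insert_of_notMem, Finset.card_insert_of_notMem, Finset.card_insert_of_notMem,
      Finset.card_insert_of_notMem, Finset.card_insert_of_notMem, Finset.card_singleton] <;>
      simp only [Finset.mem_insert, Finset.mem_singleton, not_or]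
    · exact hni A.z_cube A.z_ne_one
    · exact ⟨c3, c4⟩
    · exact ⟨hni A.y_cube A.y_ne_one, c1, c2⟩
    · exact ⟨a3, a4, b3, b4⟩
    · exact ⟨hni D.x_cube D.x_ne_one, a1, a2, b1, b2⟩
  have hO6 : 6 ≤ Nat.card ↥O := by
    rw [Nat.card_coe_set_eq, ← hsixcard, ← Set.ncard_coe_finset]
    exact Set.ncard_le_ncard hsix
  -- the number of Sylow subgroups
  obtain ⟨i, hi, hi3⟩ : ∃ i, Nat.card ↥N * i = 16 * 27 * q ∧ i ≡ 1 [MOD 3] := by
    refine ⟨N.index, hcard ▸ N.card_mul_index, ?_⟩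
    obtain ⟨R, hR⟩ := (IsPGroup.of_card (p := 3) (n := 3) (G := ↥A.K)
      (A.card_K.trans (by norm_num))).exists_le_sylow
    have hR27 : Nat.card ↥(R : Subgroup G) = 27 := by
      rw [R.card_eq_multiplicity, hcard, show 16 * 27 * q = 3 ^ 3 * (16 * q) by ring,
        Nat.factorization_mul (by norm_num) (by rcases hq with rfl | rfl <;> norm_num),
        Finsupp.add_apply, Nat.Prime.factorization_pow Nat.prime_three,
        Nat.factorization_eq_zero_of_not_dvd (by rcases hq with rfl | rfl <;> norm_num)]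
      simp
    have : N = Subgroup.normalizer ((R : Subgroup G) : Set G) := by
      rw [← Subgroup.eq_of_le_of_card_ge hR (by rw [hR27, A.card_K])]
    have e : N.index = Nat.card (Sylow 3 G) := by rw [this]; exact R.card_eq_index_normalizer.symm
    rw [e]
    exact card_sylow_modEq_one 3 G
  have hm : Nat.card ↥O * i = 8 * q := by
    rw [hNO, mul_assoc] at hi
    omega
  -- eight is impossible
  have hne8 : Nat.card ↥O ≠ 8 := by
    intro h8
    have hfix_t : ∀ a ∈ A.K, D.t * a * D.t⁻¹ = a → a ∈ Subgroup.zpowers D.x := fun a ha h =>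
      D.t_fixed A.mem_K ha (comm_of_conj_eq h).symm
    have hfixw : ∀ {v w : G}, orderOf v = 2 → v * w * v⁻¹ = w → w ∈ A.K → w * w * w = 1 → w ≠ 1 →
        ∀ a ∈ A.K, v * a * v⁻¹ = a → a ∈ Subgroup.zpowers w := by
      intro v w hv hvw hwK hw3 hw1 a ha hva
      have hle : Subgroup.zpowers w ≤ A.K ⊓ Subgroup.centralizer ({v} : Set G) :=
        Subgroup.zpowers_le.2 ⟨hwK,
          Subgroup.mem_centralizer_singleton_iff.2 (comm_of_conj_eq hvw).symm⟩
      rw [Subgroup.eq_of_le_of_card_ge hle (by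
        rw [Nat.card_zpowers, orderOf_eq_prime (p := 3) (by rw [pow_succ, pow_two]; exact hw3) hw1]
        exact D.card_fixed_le A.mem_K hone A.card_K hv)]
      exact ⟨ha, Subgroup.mem_centralizer_singleton_iff.2 (comm_of_conj_eq hva).symm⟩
    have hrest : (O \ (six : Set G)).ncard = 2 := by
      rw [Set.ncard_sdiff hsix, Set.ncard_coe_finset, hsixcard, ← Nat.card_coe_set_eq, h8]
    obtain ⟨a, b, -, hab'⟩ := Set.ncard_eq_two.1 hrest
    have ha : a ∈ O \ (six : Set G) := by rw [hab']; exact Or.inl rfl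
    obtain ⟨haO, ha6⟩ := ha
    obtain ⟨haK, ha1⟩ := hOK haO
    have hpow : ∀ {w : G}, w * w * w = 1 → ∀ g ∈ Subgroup.zpowers w, g = 1 ∨ g = w ∨ g = w⁻¹ := by
      intro w hw g hg
      obtain ⟨n, rfl⟩ := Subgroup.mem_zpowers_iff.1 hg
      have hmod : w ^ n = w ^ (n % 3) := zpow_eq_zpow_emod' n (by
        rw [pow_succ, pow_two]; exact hw)
      rw [hmod]
      rcases (show n % 3 = 0 ∨ n % 3 = 1 ∨ n % 3 = 2 by omega) with e | e | e <;> rw [e]
      · exact Or.inl (zpow_zero _)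
      · exact Or.inr (Or.inl (zpow_one _))
      · exact Or.inr (Or.inr (by
          rw [zpow_two]; exact (inv_eq_of_mul_eq_one_left hw).symm))
    simp only [six, Finset.coe_insert, Finset.coe_singleton, Set.mem_insert_iff,
      Set.mem_singleton_iff, not_or] at ha6
    obtain ⟨n1, n2, n3, n4, n5, n6⟩ := ha6
    have ft : D.t * a * D.t⁻¹ ≠ a := fun h => by
      rcases hpow D.x_cube _ (hfix_t a haK h) with e | e | e
      exacts [ha1 e, n1 e, n2 e]
    have fs : D.s * a * D.s⁻¹ ≠ a := fun h => by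
      rcases hpow A.y_cube _ (hfixw D.order_s A.s_y A.y_mem A.y_cube A.y_ne_one a haK h) with e | e | e
      exacts [ha1 e, n3 e, n4 e]
    have fst : D.s * D.t * a * (D.s * D.t)⁻¹ ≠ a := fun h => by
      rcases hpow A.z_cube _ (hfixw D.order_st A.st_z A.z_mem A.z_cube A.z_ne_one a haK h) with e | e | e
      exacts [ha1 e, n5 e, n6 e]
    have hout : ∀ g : G, g ∈ N → (∀ w ∈ six, g⁻¹ * w * g ∈ six) → g * a * g⁻¹ ∈ O \ (six : Set G) := by
      intro g hg hst
      refine ⟨hinO hg rfl haO, fun h => ?_⟩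
      have := hst _ h
      rw [show g⁻¹ * (g * a * g⁻¹) * g = a by group] at this
      simp only [six, Finset.mem_insert, Finset.mem_singleton] at this
      rcases this with e | e | e | e | e | e
      exacts [n1 e, n2 e, n3 e, n4 e, n5 e, n6 e]
    have ht := hout D.t htN (by
      intro w hw
      rw [inv_of_mul_self D.t_mul_self]
      simp only [six, Finset.mem_insert, Finset.mem_singleton] at hw ⊢
      have hi : ∀ v : G, D.t * v⁻¹ * D.t⁻¹ = (D.t * v * D.t⁻¹)⁻¹ := fun v => by group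
      rw [inv_of_mul_self D.t_mul_self] at hi
      have hx := D.t_x; have hy := A.t_y; have hz := A.t_z
      rw [inv_of_mul_self D.t_mul_self] at hx hy hz
      rcases hw with rfl | rfl | rfl | rfl | rfl | rfl <;> simp [hi, hx, hy, hz])
    have hs := hout D.s hsN (by
      intro w hw
      rw [inv_of_mul_self D.s_mul_self]
      simp only [six, Finset.mem_insert, Finset.mem_singleton] at hw ⊢
      have hi : ∀ v : G, D.s * v⁻¹ * D.s⁻¹ = (D.s * v * D.s⁻¹)⁻¹ := fun v => by group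
      rw [inv_of_mul_self D.s_mul_self] at hi
      have hx := D.s_x; have hy := A.s_y; have hz := A.s_z
      rw [inv_of_mul_self D.s_mul_self] at hx hy hz
      rcases hw with rfl | rfl | rfl | rfl | rfl | rfl <;> simp [hi, hx, hy, hz])
    rw [hab', Set.mem_insert_iff, Set.mem_singleton_iff] at ht hs
    rcases ht with ht | ht
    · exact ft ht
    rcases hs with hs | hs
    · exact fs hs
    refine fst ?_
    rw [show D.s * D.t * a * (D.s * D.t)⁻¹ = D.s * (D.t * a * D.t⁻¹) * D.s⁻¹ by group, ht, ← hs,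
      show D.s * (D.s * a * D.s⁻¹) * D.s⁻¹ = (D.s * D.s) * a * (D.s * D.s)⁻¹ by group, D.s_mul_self]
    group
  have hO : Nat.card ↥O = 2 * q := by
    have hi' : i % 3 = 1 := hi3
    have hile : i ≤ 8 * q := hm ▸ Nat.le_mul_of_pos_left i (by omega)
    rcases hq with rfl | rfl <;> interval_cases i <;> omega
  -- an element of order `q` in the normaliser
  have hNcard : Nat.card ↥N = 108 * q := by rw [hNO, hO]; ring
  set f := A.K.normalizerMonoidHom
  have hker : ∀ n : ↥N, f n = 1 ↔ (n : G) ∈ A.K := by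
    intro n
    rw [← MonoidHom.mem_ker, Subgroup.normalizerMonoidHom_ker, Subgroup.mem_subgroupOf]
    constructor
    · intro h
      rw [Subgroup.mem_centralizer_iff] at h
      have hnC : (n : G) ∈ D.C := D.mem_C.2 (h _ A.x_mem).symm
      rcases A.C_split hnC with hk | hk
      · exact hk
      · exfalso
        have hy2 : D.t * A.y * D.t⁻¹ = A.y := by
          have h1 := h _ A.y_mem
          have hcy : ((n : G) * D.t) * A.y = A.y * ((n : G) * D.t) := by
            have : A.K ≤ Subgroup.centralizer ({A.y} : Set G) := by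
              refine A.K_le_of_mem ?_ ?_ ?_ <;> rw [Subgroup.mem_centralizer_singleton_iff]
              exacts [(A.x_comm A.y_mem).symm, hab.symm]
            exact Subgroup.mem_centralizer_singleton_iff.1 (this hk)
          refine conj_eq_of_comm ?_
          calc D.t * A.y = (n : G)⁻¹ * ((n : G) * D.t * A.y) := by group
            _ = (n : G)⁻¹ * (A.y * (n : G)) * D.t := by rw [hcy]; group
            _ = A.y * D.t := by rw [h1]; group
        rw [A.t_y] at hy2
        have h2 : A.y * A.y = 1 := by nth_rw 1 [← hy2]; exact inv_mul_cancel _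
        exact A.y_ne_one (by simpa [h2] using A.y_cube)
    · intro hk
      rw [Subgroup.mem_centralizer_iff]
      intro w hw
      have hcen : A.K ≤ Subgroup.centralizer ({(n : G)} : Set G) := by
        refine A.K_le_of_mem ?_ ?_ ?_ <;> rw [Subgroup.mem_centralizer_singleton_iff]
        · exact (A.x_comm hk).symm
        · have : A.K ≤ Subgroup.centralizer ({A.y} : Set G) := by
            refine A.K_le_of_mem ?_ ?_ ?_ <;> rw [Subgroup.mem_centralizer_singleton_iff]
            exacts [(A.x_comm A.y_mem).symm, hab.symm]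
          exact (Subgroup.mem_centralizer_singleton_iff.1 (this hk)).symm
        · have : A.K ≤ Subgroup.centralizer ({A.z} : Set G) := by
            refine A.K_le_of_mem ?_ ?_ ?_ <;> rw [Subgroup.mem_centralizer_singleton_iff]
            exacts [(A.x_comm A.z_mem).symm, hab]
          exact (Subgroup.mem_centralizer_singleton_iff.1 (this hk)).symm
      exact Subgroup.mem_centralizer_singleton_iff.1 (hcen hw)
  have hQ : Nat.card ↥f.range = 4 * q := by
    have h1 := Subgroup.index_ker f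
    have hkc : Nat.card ↥f.ker = 27 := by
      rw [← A.card_K, ← Nat.card_congr (Subgroup.subgroupOfEquivOfLe
        (show A.K ≤ N from Subgroup.le_normalizer)).toEquiv]
      refine Nat.card_congr (Equiv.subtypeEquivRight fun n => ?_)
      rw [MonoidHom.mem_ker, hker, Subgroup.mem_subgroupOf]
    have h2 := f.ker.card_mul_index
    rw [hkc, h1, hNcard] at h2
    omega
  obtain ⟨g, hg⟩ := exists_prime_orderOf_dvd_card' (G := ↥N) q (by rw [hNcard]; exact dvd_mul_left q 108)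
  have hgK : (g : G) ∉ A.K := by
    intro h
    have : q ∣ 27 := A.card_K ▸ (Subgroup.orderOf_coe g).trans hg ▸
      Subgroup.orderOf_coe (⟨(g : G), h⟩ : ↥A.K) ▸ orderOf_dvd_natCard (⟨(g : G), h⟩ : ↥A.K)
    rcases hq with rfl | rfl <;> norm_num at this
  have hfg : orderOf (f.rangeRestrict g) = q := by
    have h1 : orderOf (f.rangeRestrict g) ∣ q := hg ▸ orderOf_map_dvd _ _
    rcases (Nat.dvd_prime hqp).1 h1 with h | h
    · exfalso
      rw [orderOf_eq_one_iff] at h
      exact hgK ((hker g).1 (congrArg Subtype.val h))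
    · exact h
  obtain ⟨P, hP⟩ := (IsPGroup.of_card (p := q) (n := 1)
    (G := ↥(Subgroup.zpowers (f.rangeRestrict g))) (by rw [Nat.card_zpowers, hfg, pow_one])).exists_le_sylow
  have hPc : Nat.card ↥(P : Subgroup ↥f.range) = q := by
    rw [P.card_eq_multiplicity, hQ, Nat.factorization_mul (by norm_num) hqp.pos.ne', Finsupp.add_apply,
      Nat.Prime.factorization_self hqp,
      Nat.factorization_eq_zero_of_not_dvd (by rcases hq with rfl | rfl <;> norm_num)]
    simp
  have hPz : Subgroup.zpowers (f.rangeRestrict g) = P :=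
    Subgroup.eq_of_le_of_card_ge hP (by rw [hPc, Nat.card_zpowers, hfg])
  have huniq : Nat.card (Sylow q ↥f.range) = 1 := by
    have h1 : Nat.card (Sylow q ↥f.range) ∣ 4 := by
      have h := P.card_dvd_index
      have h2 := (P : Subgroup ↥f.range).card_mul_index
      rw [hPc, hQ] at h2
      rwa [show (P : Subgroup ↥f.range).index = 4 from
        Nat.eq_of_mul_eq_mul_left hqp.pos (h2.trans (mul_comm 4 q))] at h
    have h2 : Nat.card (Sylow q ↥f.range) % q = 1 % q := card_sylow_modEq_one q _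
    have h3 := Nat.le_of_dvd (by norm_num) h1
    rcases hq with rfl | rfl <;> omega
  haveI : Subsingleton (Sylow q ↥f.range) := (Nat.card_eq_one_iff_unique.1 huniq).1
  haveI : (P : Subgroup ↥f.range).Normal := P.normal_of_subsingleton
  -- each involution inverts or centralises
  have hstep : ∀ v : G, ∀ hv : v ∈ N, v * v = 1 →
      f ⟨v, hv⟩ * f g * (f ⟨v, hv⟩)⁻¹ = f g ∨ f ⟨v, hv⟩ * f g * (f ⟨v, hv⟩)⁻¹ = (f g)⁻¹ := by
    intro v hv hv2
    rcases fix_or_inv hqp hfg (v := f.rangeRestrict ⟨v, hv⟩)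
      (by rw [← map_mul, show (⟨v, hv⟩ : ↥N) * ⟨v, hv⟩ = 1 from Subtype.ext hv2, map_one])
      (by
        rw [hPz]
        exact Subgroup.Normal.conj_mem inferInstance _ (hP (Subgroup.mem_zpowers _)) _) with h | h
    · exact Or.inl (congrArg Subtype.val h)
    · exact Or.inr (congrArg Subtype.val h)
  have hkill : ∀ v w : G, ∀ hv : v ∈ N, orderOf v = 2 → v * w * v⁻¹ = w → w ∈ A.K → w * w * w = 1 →
      w ≠ 1 → (∀ a : G, a ∈ O → a * D.x = D.x * a) →
      w ∈ O → f ⟨v, hv⟩ * f g * (f ⟨v, hv⟩)⁻¹ ≠ f g := by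
    intro v w hv hv2 hvw hwK hw3 hw1 _ hwO hc
    set c := (g : G) * w * (g : G)⁻¹ with hcdef
    have hcK : c ∈ A.K := (Subgroup.mem_normalizer_iff.1 g.2 w).1 hwK
    have hcv : v * c * v⁻¹ = c := by
      have hmem : ((⟨v, hv⟩ : ↥N) * g * (⟨v, hv⟩ : ↥N)⁻¹ * g⁻¹ : ↥N).1 ∈ A.K :=
        (hker _).1 (by rw [map_mul, map_mul, map_mul, map_inv, map_inv, hc, mul_inv_cancel])
      have hcc : (v * (g : G) * v⁻¹ * (g : G)⁻¹) * c * (v * (g : G) * v⁻¹ * (g : G)⁻¹)⁻¹ = c := by
        refine conj_eq_of_comm ?_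
        have : A.K ≤ Subgroup.centralizer ({c} : Set G) := by
          have hcall : ∀ k ∈ A.K, k * c = c * k := fun k hk => by
            have hf := (hker ⟨k, Subgroup.le_normalizer hk⟩).2 hk
            have := congrArg (fun e : MulAut ↥A.K => ((e ⟨c, hcK⟩ : ↥A.K) : G)) hf
            exact comm_of_conj_eq this
          exact fun k hk => Subgroup.mem_centralizer_singleton_iff.2 (hcall k hk)
        exact Subgroup.mem_centralizer_singleton_iff.1 (this hmem)
      calc v * c * v⁻¹ = (v * (g : G) * v⁻¹ * (g : G)⁻¹) *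
            ((g : G) * (v * w * v⁻¹) * (g : G)⁻¹) * (v * (g : G) * v⁻¹ * (g : G)⁻¹)⁻¹ := by
            rw [hcdef]; group
        _ = c := by rw [hvw]; exact hcc
    have hwo : orderOf w = 3 := orderOf_eq_prime (by rw [pow_succ, pow_two]; exact hw3) hw1
    have hcz : c ∈ Subgroup.zpowers w := by
      rw [Subgroup.eq_of_le_of_card_ge (H := Subgroup.zpowers w)
        (K := A.K ⊓ Subgroup.centralizer ({v} : Set G))
        (Subgroup.zpowers_le.2 ⟨hwK, Subgroup.mem_centralizer_singleton_iff.2 (comm_of_conj_eq hvw).symm⟩)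
        (by rw [Nat.card_zpowers, hwo]; exact D.card_fixed_le A.mem_K hone A.card_K hv2)]
      exact ⟨hcK, Subgroup.mem_centralizer_singleton_iff.2 (comm_of_conj_eq hcv).symm⟩
    have hgg : ((g : G) * (g : G)) * w * ((g : G) * (g : G))⁻¹ = w := by
      obtain ⟨n, hn⟩ := Subgroup.mem_zpowers_iff.1 hcz
      have hn3 : ¬ (3 : ℤ) ∣ n := fun hd => by
        have h0 : w ^ n = 1 := orderOf_dvd_iff_zpow_eq_one.1 (by rw [hwo]; exact hd)
        rw [h0, hcdef] at hn
        exact hw1 (conj_eq_one_iff.1 hn.symm)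
      rw [show ((g : G) * (g : G)) * w * ((g : G) * (g : G))⁻¹ = (g : G) * c * (g : G)⁻¹ by
        rw [hcdef]; group]
      have h := map_zpow (MulAut.conj (g : G)) w n
      simp only [MulAut.conj_apply] at h
      rw [← hn, h, ← hcdef, ← hn, ← zpow_mul]
      conv_rhs => rw [← zpow_one w]
      rw [zpow_eq_zpow_iff_modEq, hwo]
      change n * n % ((3 : ℕ) : ℤ) = 1 % ((3 : ℕ) : ℤ)
      rw [Int.mul_emod]
      rcases (show n % 3 = 1 ∨ n % 3 = 2 by omega) with e | e <;> simp [e]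
    -- so the element of order `q` lies in a centraliser of order `54`
    obtain ⟨k, hkO⟩ := hwO
    simp only [hsmul] at hkO
    set h' := (k : G)⁻¹ * ((g : G) * (g : G)) * k
    have hh' : h' ∈ D.C := D.mem_C.2 (comm_of_conj_eq (by
      calc h' * D.x * h'⁻¹ = (k : G)⁻¹ * ((g : G) * (g : G) * ((k : G) * D.x * (k : G)⁻¹) *
            ((g : G) * (g : G))⁻¹) * k := by simp only [h']; group
        _ = D.x := by rw [hkO, hgg, ← hkO]; group))
    have ho : orderOf h' = q := by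
      have e1 := orderOf_conj' (k : G)⁻¹ ((g : G) * (g : G))
      rw [inv_inv] at e1
      rw [e1, ← pow_two, Nat.Coprime.orderOf_pow, Subgroup.orderOf_coe, hg]
      rw [Subgroup.orderOf_coe, hg]
      rcases hq with rfl | rfl <;> norm_num
    have : q ∣ 54 := A.card_C ▸ ho ▸ (Subgroup.orderOf_coe (⟨h', hh'⟩ : ↥D.C)) ▸
      orderOf_dvd_natCard (⟨h', hh'⟩ : ↥D.C)
    rcases hq with rfl | rfl <;> norm_num at this
  have hdummy : ∀ a : G, a ∈ O → a * D.x = D.x * a := fun a ha => A.x_comm (hOK ha).1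
  have i1 := (hstep D.t htN D.t_mul_self).resolve_left
    (hkill D.t D.x htN D.order_t D.t_x A.x_mem D.x_cube D.x_ne_one hdummy hxO)
  have i2 := (hstep D.s hsN D.s_mul_self).resolve_left
    (hkill D.s A.y hsN D.order_s A.s_y A.y_mem A.y_cube A.y_ne_one hdummy hyO)
  refine hkill (D.s * D.t) A.z (N.mul_mem hsN htN) D.order_st A.st_z A.z_mem A.z_cube A.z_ne_one
    hdummy hzO ?_
  rw [show (⟨D.s * D.t, N.mul_mem hsN htN⟩ : ↥N) = ⟨D.s, hsN⟩ * ⟨D.t, htN⟩ from rfl, map_mul,
    show f ⟨D.s, hsN⟩ * f ⟨D.t, htN⟩ * f g * (f ⟨D.s, hsN⟩ * f ⟨D.t, htN⟩)⁻¹ =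
      f ⟨D.s, hsN⟩ * (f ⟨D.t, htN⟩ * f g * (f ⟨D.t, htN⟩)⁻¹) * (f ⟨D.s, hsN⟩)⁻¹ by group, i1,
    show f ⟨D.s, hsN⟩ * (f g)⁻¹ * (f ⟨D.s, hsN⟩)⁻¹ =
      (f ⟨D.s, hsN⟩ * f g * (f ⟨D.s, hsN⟩)⁻¹)⁻¹ by group, i2, inv_inv]

end Axes

end Cfsg.Agent.H23.GL23
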