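import Cfsg.Agent.H23.GL23.ThreeNine

/-!
# The three axes in the odd part of the centraliser of an element of order three
-/

set_option autoImplicit false
set_option maxHeartbeats 800000
set_option linter.style.haveILetI false

namespace Cfsg.Agent.H23.GL23

universe u

variable {G : Type u} [Group G]

theorem mem_zpowers_invol {v a : G} (hv : v * v = 1) (ha : a ∈ Subgroup.zpowers v) : a = 1 ∨ a = v := by
  obtain ⟨i, rfl⟩ := Subgroup.mem_zpowers_iff.1 ha
  rcases Int.even_or_odd i with ⟨j, rfl⟩ | ⟨j, rfl⟩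
  · left
    rw [← two_mul, zpow_mul, show v ^ (2 : ℤ) = v * v from zpow_two v, hv, one_zpow]
  · right
    rw [zpow_add_one, zpow_mul, show v ^ (2 : ℤ) = v * v from zpow_two v, hv, one_zpow, one_mul]

variable [Finite G]

theorem dvd_three_of_dvd {n : ℕ} (h₁ : n ∣ 27) (h₂ : n ∣ 48) : n ∣ 3 := by
  have := Nat.dvd_gcd h₁ h₂
  norm_num at this
  exact this

namespace Setup

variable (D : Setup G)

/-- centralisers of involutions have order `48` -/
theorem card_centralizer_invol (hone : ∀ v : G, orderOf v = 2 → IsConj D.t v) {v : G}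
    (hv : orderOf v = 2) : Nat.card ↥(Subgroup.centralizer ({v} : Set G)) = 48 := by
  obtain ⟨k, rfl⟩ := isConj_iff.1 (hone v hv)
  have : Subgroup.centralizer ({k * D.t * k⁻¹} : Set G) =
      (Subgroup.centralizer ({D.t} : Set G)).map (MulAut.conj k).toMonoidHom := by
    ext g
    rw [Subgroup.mem_centralizer_singleton_iff]
    constructor
    · intro h
      refine ⟨k⁻¹ * g * k, Subgroup.mem_centralizer_singleton_iff.2 ?_, ?_⟩
      · calc k⁻¹ * g * k * D.t = k⁻¹ * (g * (k * D.t * k⁻¹)) * k := by group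
          _ = D.t * (k⁻¹ * g * k) := by rw [h]; group
      · change k * (k⁻¹ * g * k) * k⁻¹ = g
        group
    · rintro ⟨a, ha, rfl⟩
      change k * a * k⁻¹ * (k * D.t * k⁻¹) = k * D.t * k⁻¹ * (k * a * k⁻¹)
      rw [show k * a * k⁻¹ * (k * D.t * k⁻¹) = k * (a * D.t) * k⁻¹ by group,
        Subgroup.mem_centralizer_singleton_iff.1 ha]
      group
  rw [this, Subgroup.card_map_of_injective (MulAut.conj k).injective, D.card_centralizer]

variable {K : Subgroup G} (hK : ∀ g : G, g ∈ K ↔ g ∈ D.C ∧ Odd (orderOf g))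

include hK

theorem card_fixed_le (hone : ∀ v : G, orderOf v = 2 → IsConj D.t v) (h27 : Nat.card ↥K = 27)
    {v : G} (hv : orderOf v = 2) :
    Nat.card ↥(K ⊓ Subgroup.centralizer ({v} : Set G)) ≤ 3 := by
  refine Nat.le_of_dvd (by norm_num) (dvd_three_of_dvd ?_ ?_)
  · exact h27 ▸ Subgroup.card_dvd_of_le inf_le_left
  · exact D.card_centralizer_invol hone hv ▸ Subgroup.card_dvd_of_le inf_le_right

omit [Finite G] in
theorem x_central {k : G} (hk : k ∈ K) : k * D.x = D.x * k := D.mem_C.1 ((hK k).1 hk).1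

theorem comm_mem (h27 : Nat.card ↥K = 27) {a b : G} (ha : a ∈ K) (hb : b ∈ K) :
    a * b * a⁻¹ * b⁻¹ ∈ Subgroup.zpowers D.x := by
  haveI : Fact (Nat.Prime 3) := ⟨Nat.prime_three⟩
  have hx : Subgroup.zpowers D.x ≤ K := Subgroup.zpowers_le.2 (D.x_mem_K hK)
  haveI : ((Subgroup.zpowers D.x).subgroupOf K).Normal := Cfsg.Agent.PGroups.normal_of_le_center (by
    intro c hc
    rw [Subgroup.mem_subgroupOf] at hc
    obtain ⟨i, hi⟩ := Subgroup.mem_zpowers_iff.1 hc
    refine Subgroup.mem_center_iff.2 fun g => Subtype.ext ?_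
    change (g : G) * c = c * g
    rw [← hi]
    exact (Commute.zpow_right (D.x_central hK g.2) i : _))
  have hidx : ((Subgroup.zpowers D.x).subgroupOf K).index ∣ 3 ^ 2 := by
    have := ((Subgroup.zpowers D.x).subgroupOf K).card_mul_index
    rw [Nat.card_congr (Subgroup.subgroupOfEquivOfLe hx).toEquiv, Nat.card_zpowers, D.order_x, h27] at this
    exact dvd_of_eq (by omega)
  have h := Cfsg.Agent.PGroups.commutator_le_of_index_dvd_sq (p := 3) _ hidx
    (show ((⟨a, ha⟩ : ↥K) * ⟨b, hb⟩ * ⟨a, ha⟩⁻¹ * ⟨b, hb⟩⁻¹) ∈ commutator ↥K by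
      rw [commutator_def]
      exact Subgroup.commutator_mem_commutator (Subgroup.mem_top _) (Subgroup.mem_top _))
  exact Subgroup.mem_subgroupOf.1 h

/-- lifting of fixed points modulo `⟨x⟩` -/
theorem lift_fixed (h27 : Nat.card ↥K = 27) {σ : G} (hσ : orderOf σ = 2)
    (hσx : σ * D.x * σ⁻¹ = D.x ∨ σ * D.x * σ⁻¹ = D.x⁻¹) {k : G} (hk : k ∈ K)
    (hfix : σ * k * σ⁻¹ * k⁻¹ ∈ Subgroup.zpowers D.x) :
    ∃ c ∈ K, c * σ = σ * c ∧ k⁻¹ * c ∈ Subgroup.zpowers D.x := by
  have hσ2 := mul_self_of_order_two hσ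
  have hnorm : Subgroup.zpowers σ ≤ Subgroup.normalizer (K : Set G) := by
    rw [Subgroup.zpowers_le, Subgroup.mem_normalizer_iff]
    intro g
    refine ⟨fun hg => D.K_stable hK hσx hg, fun hg => ?_⟩
    have := D.K_stable hK hσx hg
    rwa [show σ * (σ * g * σ⁻¹) * σ⁻¹ = (σ * σ) * g * (σ * σ)⁻¹ by group, hσ2, one_mul, inv_one,
      mul_one] at this
  have hNn : K ≤ Subgroup.normalizer (Subgroup.zpowers D.x : Set G) := by
    intro g hg
    rw [Subgroup.mem_normalizer_iff]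
    intro a
    constructor
    · intro ha
      obtain ⟨i, rfl⟩ := Subgroup.mem_zpowers_iff.1 ha
      rw [conj_eq_of_comm (Commute.zpow_right (D.x_central hK hg) i)]
      exact ha
    · intro ha
      obtain ⟨i, hi⟩ := Subgroup.mem_zpowers_iff.1 ha
      have hcg : g * D.x ^ i = D.x ^ i * g := Commute.zpow_right (D.x_central hK hg) i
      rw [hi] at hcg
      have : a = g * a * g⁻¹ := by
        calc a = g⁻¹ * ((g * a * g⁻¹) * g) := by group
          _ = g * a * g⁻¹ := by rw [← hcg]; group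
      rw [this]; exact ha
  have hNA : Subgroup.zpowers σ ≤ Subgroup.normalizer (Subgroup.zpowers D.x : Set G) := by
    rw [Subgroup.zpowers_le, Subgroup.mem_normalizer_iff]
    have hstep : ∀ a ∈ Subgroup.zpowers D.x, σ * a * σ⁻¹ ∈ Subgroup.zpowers D.x := by
      intro a ha
      obtain ⟨i, rfl⟩ := Subgroup.mem_zpowers_iff.1 ha
      have h := map_zpow (MulAut.conj σ) D.x i
      simp only [MulAut.conj_apply] at h
      rw [h]
      rcases hσx with e | e <;> rw [e]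
      · exact Subgroup.zpow_mem_zpowers _ _
      · exact Subgroup.zpow_mem _ (Subgroup.inv_mem _ (Subgroup.mem_zpowers _)) _
    intro a
    refine ⟨hstep a, fun ha => ?_⟩
    have := hstep _ ha
    rwa [show σ * (σ * a * σ⁻¹) * σ⁻¹ = (σ * σ) * a * (σ * σ)⁻¹ by group, hσ2, one_mul, inv_one,
      mul_one] at this
  have hcop : (Nat.card ↥(Subgroup.zpowers σ)).Coprime (Nat.card ↥K) := by
    rw [Nat.card_zpowers, hσ, h27]; norm_num
  have hsolv : Group.IsSolvable ↥(Subgroup.zpowers σ) ∨ Group.IsSolvable ↥K := by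
    right
    haveI : Fact (Nat.Prime 3) := ⟨Nat.prime_three⟩
    haveI := (IsPGroup.of_card (p := 3) (n := 3) (G := ↥K) (h27.trans (by norm_num))).isNilpotent
    infer_instance
  obtain ⟨c, hc, hc'⟩ := Coprime.exists_centralizer_mem_of_comm_mem hnorm hcop hsolv
    (Subgroup.zpowers_le.2 (D.x_mem_K hK)) hNn hNA hk (fun a ha => by
      rcases mem_zpowers_invol hσ2 ha with rfl | rfl
      · simp
      · exact hfix)
  exact ⟨c, hc.1, (Subgroup.mem_centralizer_iff.1 hc.2 σ (Subgroup.mem_zpowers σ)).symm, hc'⟩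

/-- an involution of the four-group does not centralise modulo `⟨x⟩` -/
theorem not_centralize (hone : ∀ v : G, orderOf v = 2 → IsConj D.t v) (h27 : Nat.card ↥K = 27)
    {σ : G} (hσ : orderOf σ = 2) (hσx : σ * D.x * σ⁻¹ = D.x ∨ σ * D.x * σ⁻¹ = D.x⁻¹)
    (hall : ∀ k ∈ K, σ * k * σ⁻¹ * k⁻¹ ∈ Subgroup.zpowers D.x) : False := by
  set F := K ⊓ Subgroup.centralizer ({σ} : Set G)
  have hsur : Function.Surjective fun p : ↥F × ↥(Subgroup.zpowers D.x) =>
      (⟨(p.1 : G) * p.2, K.mul_mem p.1.2.1 (Subgroup.zpowers_le.2 (D.x_mem_K hK) p.2.2)⟩ : ↥K) := by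
    intro k
    obtain ⟨c, hc, hcσ, hkc⟩ := D.lift_fixed hK h27 hσ hσx k.2 (hall k k.2)
    refine ⟨(⟨c, hc, Subgroup.mem_centralizer_singleton_iff.2 hcσ⟩,
      ⟨c⁻¹ * k, ?_⟩), Subtype.ext (by simp)⟩
    simpa using (Subgroup.zpowers D.x).inv_mem hkc
  have h := Nat.card_le_card_of_surjective _ hsur
  rw [h27, Nat.card_prod, Nat.card_zpowers, D.order_x] at h
  have := D.card_fixed_le hK hone h27 hσ
  change Nat.card ↥F ≤ 3 at this
  omega

theorem t_fixed {c : G} (hc : c ∈ K) (hct : c * D.t = D.t * c) : c ∈ Subgroup.zpowers D.x := by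
  obtain ⟨i, hi | hi⟩ := D.C_inter ((hK c).1 hc).1 hct
  · exact hi ▸ Subgroup.npow_mem_zpowers _ _
  · exfalso
    have hm : D.t ∈ K := by
      have hxi : (D.x ^ (i : ℕ))⁻¹ * c ∈ K :=
        K.mul_mem (K.inv_mem (K.pow_mem (D.x_mem_K hK) _)) hc
      rwa [hi, inv_mul_cancel_left] at hxi
    have := ((hK _).1 hm).2
    rw [D.order_t] at this
    exact absurd this (by decide)

/-- existence of a further axis fixed by `σ` -/
theorem exists_fixed (hone : ∀ v : G, orderOf v = 2 → IsConj D.t v) (h27 : Nat.card ↥K = 27)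
    {σ : G} (hσ : σ = D.s ∨ σ = D.s * D.t) :
    ∃ y ∈ K, y ∉ Subgroup.zpowers D.x ∧ σ * y * σ⁻¹ = y ∧ y * y * y = 1 ∧
      D.t * y * D.t⁻¹ = y⁻¹ := by
  haveI : Fact (Nat.Prime 3) := ⟨Nat.prime_three⟩
  have hσo : orderOf σ = 2 := by
    rcases hσ with rfl | rfl
    · exact D.order_s
    · exact D.order_st
  have hσx : σ * D.x * σ⁻¹ = D.x⁻¹ := by
    rcases hσ with rfl | rfl
    · exact D.s_x
    · exact D.st_x
  have hσt : σ * D.t = D.t * σ := by
    rcases hσ with rfl | rfl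
    · exact D.s_t
    · rw [mul_assoc, ← mul_assoc D.t, ← D.s_t, mul_assoc]
  have hσ2 := mul_self_of_order_two hσo
  set N := Subgroup.zpowers D.x
  -- fixed modulo `N`
  have hfixmod : ∀ {v : G}, orderOf v = 2 →
      (∀ g ∈ K, v * g * v⁻¹ ∈ K) → ∀ k ∈ K, v * (v * k * v⁻¹ * k) * v⁻¹ * (v * k * v⁻¹ * k)⁻¹ ∈ N := by
    intro v hv hst k hk
    have hv2 := mul_self_of_order_two hv
    rw [show v * (v * k * v⁻¹ * k) * v⁻¹ = (v * v) * k * (v * v)⁻¹ * (v * k * v⁻¹) by group, hv2,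
      one_mul, inv_one, mul_one, mul_inv_rev, ← mul_assoc]
    exact D.comm_mem hK h27 hk (hst k hk)
  obtain ⟨k, hk, hkN⟩ : ∃ k ∈ K, σ * k * σ⁻¹ * k ∉ N := by
    by_contra h
    push Not at h
    -- then `σ * t` centralises modulo `N`
    have ht : ∀ k ∈ K, D.t * k * D.t⁻¹ * k ∈ N := by
      intro k hk
      by_contra hn
      have hm : D.t * k * D.t⁻¹ * k ∈ K := K.mul_mem (D.t_stable hK hk) hk
      obtain ⟨c, hc, hct, hkc⟩ := D.lift_fixed hK h27 D.order_t (Or.inl D.t_x) hm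
        (hfixmod D.order_t (fun g hg => D.t_stable hK hg) k hk)
      refine hn ?_
      have := N.mul_mem (D.t_fixed hK hc hct) (N.inv_mem hkc)
      simpa [mul_assoc] using this
    have hst2 : orderOf (σ * D.t) = 2 := by
      rcases hσ with rfl | rfl
      · exact D.order_st
      · rw [mul_assoc, D.t_mul_self, mul_one]; exact D.order_s
    refine D.not_centralize hK hone h27 hst2 (Or.inr ?_) fun k hk => ?_
    · rw [show σ * D.t * D.x * (σ * D.t)⁻¹ = σ * (D.t * D.x * D.t⁻¹) * σ⁻¹ by group, D.t_x, hσx]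
    · have h1 := h _ (D.t_stable hK hk)
      have h2 := ht k hk
      have : σ * D.t * k * (σ * D.t)⁻¹ * k⁻¹ =
          (σ * (D.t * k * D.t⁻¹) * σ⁻¹ * (D.t * k * D.t⁻¹)) *
            ((D.t * k * D.t⁻¹ * k) *
              (k⁻¹ * (D.t * k * D.t⁻¹)⁻¹ * k⁻¹⁻¹ * (D.t * k * D.t⁻¹)⁻¹⁻¹))⁻¹ := by group
      rw [this]
      exact N.mul_mem h1 (N.inv_mem (N.mul_mem h2
        (D.comm_mem hK h27 (K.inv_mem hk) (K.inv_mem (D.t_stable hK hk)))))
  have hm : σ * k * σ⁻¹ * k ∈ K := K.mul_mem (D.sigma_stable hK hσ hk) hk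
  obtain ⟨c, hc, hcσ, hkc⟩ := D.lift_fixed hK h27 hσo (Or.inr hσx) hm
    (hfixmod hσo (fun g hg => D.sigma_stable hK hσ hg) k hk)
  have hcN : c ∉ N := fun hcm => hkN (by
    have := N.mul_mem hcm (N.inv_mem hkc)
    simpa [mul_assoc] using this)
  have hc1 : c ≠ 1 := fun h => hcN (h ▸ N.one_mem)
  have hc3 := D.cube_of_fixed hK hone hσo hc hcσ
  have hco : orderOf c = 3 := orderOf_eq_prime (by rw [pow_succ, pow_two]; exact hc3) hc1
  set F := K ⊓ Subgroup.centralizer ({σ} : Set G)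
  have hcF : c ∈ F := ⟨hc, Subgroup.mem_centralizer_singleton_iff.2 hcσ⟩
  have hFz : Subgroup.zpowers c = F := Subgroup.eq_of_le_of_card_ge (Subgroup.zpowers_le.2 hcF)
    (by rw [Nat.card_zpowers, hco]; exact D.card_fixed_le hK hone h27 hσo)
  have htF : D.t * c * D.t⁻¹ ∈ F := by
    refine ⟨D.t_stable hK hc, Subgroup.mem_centralizer_singleton_iff.2 ?_⟩
    calc D.t * c * D.t⁻¹ * σ = D.t * c * (D.t⁻¹ * (σ * D.t)) * D.t⁻¹ := by group
      _ = D.t * (c * σ) * D.t⁻¹ := by rw [hσt]; group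
      _ = (D.t * σ) * c * D.t⁻¹ := by rw [hcσ]; group
      _ = σ * (D.t * c * D.t⁻¹) := by rw [← hσt]; group
  refine ⟨c, hc, hcN, conj_eq_of_comm hcσ.symm, hc3, ?_⟩
  rcases fix_or_inv Nat.prime_three hco D.t_mul_self (hFz ▸ htF) with h | h
  · exact absurd (D.t_fixed hK hc (comm_of_conj_eq h).symm) hcN
  · exact h

end Setup

/-- Axes in the odd part of the centraliser. -/
structure Axes {G : Type u} [Group G] (D : Setup G) where
  /-- the odd part -/
  K : Subgroup G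
  mem_K : ∀ g : G, g ∈ K ↔ g ∈ D.C ∧ Odd (orderOf g)
  card_K : Nat.card ↥K = 27
  card_C : Nat.card ↥D.C = 54
  /-- the axis fixed by `s` -/
  y : G
  y_mem : y ∈ K
  y_not : y ∉ Subgroup.zpowers D.x
  s_y : D.s * y * D.s⁻¹ = y
  y_cube : y * y * y = 1
  t_y : D.t * y * D.t⁻¹ = y⁻¹
  /-- the axis fixed by `s * t` -/
  z : G
  z_mem : z ∈ K
  z_not : z ∉ Subgroup.zpowers D.x
  st_z : D.s * D.t * z * (D.s * D.t)⁻¹ = z
  z_cube : z * z * z = 1
  t_z : D.t * z * D.t⁻¹ = z⁻¹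

namespace Setup

variable (D : Setup G)

theorem exists_axes (hone : ∀ v : G, orderOf v = 2 → IsConj D.t v) {q : ℕ} (hq : q.Prime) (hq3 : 3 < q)
    (hcard : Nat.card G = 16 * 27 * q) : Nonempty (Axes D) := by
  haveI : Fact (Nat.Prime 3) := ⟨Nat.prime_three⟩
  have hR27 : ∀ R : Sylow 3 G, Nat.card ↥(R : Subgroup G) = 27 := by
    intro R
    rw [R.card_eq_multiplicity, hcard, Nat.factorization_mul (by norm_num) hq.pos.ne',
      Finsupp.add_apply, Nat.factorization_eq_zero_of_not_dvd (n := q) (fun h => by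
        have := (Nat.prime_dvd_prime_iff_eq Nat.prime_three hq).1 h; omega), add_zero,
      show 16 * 27 = 3 ^ 3 * 16 by norm_num,
      Nat.factorization_mul (by norm_num) (by norm_num), Finsupp.add_apply,
      Nat.Prime.factorization_pow Nat.prime_three,
      Nat.factorization_eq_zero_of_not_dvd (by norm_num : ¬ 3 ∣ 16)]
    simp
  obtain ⟨K, -, hC, hK, h | h⟩ := D.card_K hone hq hq3 hcard
  · exact absurd h (D.K_ne_nine hK hone hR27 hC)
  · obtain ⟨y, hy, hyN, hsy, hy3, hty⟩ := D.exists_fixed hK hone h (Or.inl rfl)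
    obtain ⟨z, hz, hzN, hsz, hz3, htz⟩ := D.exists_fixed hK hone h (Or.inr rfl)
    exact ⟨⟨K, hK, h, by rw [hC, h], y, hy, hyN, hsy, hy3, hty, z, hz, hzN, hsz, hz3, htz⟩⟩

end Setup

end Cfsg.Agent.H23.GL23
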