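import Cfsg.Agent.H23.GL23.Local
import Cfsg.Agent.H23.GL23.FactsThree
import Cfsg.Agent.Coprime.Action

/-!
# Centralisers of elements of order three
-/

set_option autoImplicit false
set_option maxHeartbeats 800000
set_option linter.style.haveILetI false

namespace Cfsg.Agent.H23.GL23

universe u

variable {G : Type u} [Group G]

theorem conj_pow_eq (g v : G) (n : ℕ) : (g * v * g⁻¹) ^ n = g * v ^ n * g⁻¹ := by
  simpa using (map_pow (MulAut.conj g) v n).symm

theorem conj_eq_of_comm {g v : G} (h : g * v = v * g) : g * v * g⁻¹ = v := by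
  rw [h, mul_inv_cancel_right]

theorem comm_of_conj_eq {g v : G} (h : g * v * g⁻¹ = v) : g * v = v * g := by
  conv_rhs => rw [← h]
  rw [inv_mul_cancel_right]

theorem inv_of_mul_self {v : G} (h : v * v = 1) : v⁻¹ = v := inv_eq_of_mul_eq_one_right h

/-- An involution normalising a group of prime order centralises or inverts it. -/
theorem fix_or_inv [Finite G] {p : ℕ} (hp : p.Prime) {w v : G} (hw : orderOf w = p)
    (hv : v * v = 1) (hn : v * w * v⁻¹ ∈ Subgroup.zpowers w) :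
    v * w * v⁻¹ = w ∨ v * w * v⁻¹ = w⁻¹ := by
  obtain ⟨i, hi⟩ := Subgroup.mem_zpowers_iff.1 hn
  have h2 : w ^ (i * i) = w := by
    have h := map_zpow (MulAut.conj v) w i
    simp only [MulAut.conj_apply] at h
    rw [zpow_mul]
    nth_rw 1 [hi]
    rw [← h, hi, show v * (v * w * v⁻¹) * v⁻¹ = (v * v) * w * (v * v)⁻¹ by group, hv]
    group
  have hd : (p : ℤ) ∣ (i - 1) * (i + 1) := by
    have : w ^ (i * i - 1) = 1 := by rw [zpow_sub, h2, zpow_one, mul_inv_cancel]
    rw [← orderOf_dvd_iff_zpow_eq_one, hw] at this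
    rwa [show (i - 1) * (i + 1) = i * i - 1 by ring]
  rcases (Nat.prime_iff_prime_int.1 hp).dvd_or_dvd hd with h | h
  · left
    have : w ^ (i - 1) = 1 := orderOf_dvd_iff_zpow_eq_one.1 (hw.symm ▸ h)
    rw [← hi]
    calc w ^ i = w ^ (i - 1) * w := by rw [zpow_sub, zpow_one, inv_mul_cancel_right]
      _ = w := by rw [this, one_mul]
  · right
    have : w ^ (i + 1) = 1 := orderOf_dvd_iff_zpow_eq_one.1 (hw.symm ▸ h)
    rw [← hi]
    exact eq_inv_of_mul_eq_one_left (by rw [← zpow_add_one, this])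

variable [Finite G]

namespace Setup

variable (D : Setup G)

/-- the element of order three -/
noncomputable def x : G := D.inc e3

/-- the involution inverting it -/
noncomputable def s : G := D.inc es

/-- the centraliser of the element of order three -/
noncomputable def C : Subgroup G := Subgroup.centralizer ({D.x} : Set G)

omit [Finite G] in
theorem mem_C {g : G} : g ∈ D.C ↔ g * D.x = D.x * g := Subgroup.mem_centralizer_singleton_iff

omit [Finite G] in
theorem x_cube : D.x * D.x * D.x = 1 := by rw [x, ← map_mul, ← map_mul, e3_cube, map_one]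

omit [Finite G] in
theorem x_ne_one : D.x ≠ 1 := fun h =>
  e3_ne_one (D.inc_injective (h.trans (map_one _).symm))

omit [Finite G] in
theorem order_x : orderOf D.x = 3 :=
  orderOf_eq_prime (by rw [pow_succ, pow_two]; exact D.x_cube) D.x_ne_one

omit [Finite G] in
theorem x_sq : D.x⁻¹ = D.x * D.x := inv_eq_of_mul_eq_one_right (by rw [← mul_assoc, D.x_cube])

omit [Finite G] in
theorem t_mul_self : D.t * D.t = 1 := mul_self_of_order_two D.order_t

omit [Finite G] in
theorem s_mul_self : D.s * D.s = 1 := by rw [s, ← map_mul, es_mul_self, map_one]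

omit [Finite G] in
theorem order_s : orderOf D.s = 2 :=
  order_two_of_mul_self D.s_mul_self fun h => es_ne_one (D.inc_injective (h.trans (map_one _).symm))

omit [Finite G] in
theorem s_t : D.s * D.t = D.t * D.s := D.inc_comm es

omit [Finite G] in
theorem order_st : orderOf (D.s * D.t) = 2 := by
  refine order_two_of_mul_self ?_ ?_
  · rw [mul_assoc, ← mul_assoc D.t, ← D.s_t, mul_assoc, D.t_mul_self, mul_one, D.s_mul_self]
  · rw [← D.inc_zc, s, ← map_mul]
    exact fun h => es_zc_ne_one (D.inc_injective (h.trans (map_one _).symm))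

omit [Finite G] in
theorem t_x : D.t * D.x * D.t⁻¹ = D.x := conj_eq_of_comm (D.inc_comm e3).symm

omit [Finite G] in
theorem s_x : D.s * D.x * D.s⁻¹ = D.x⁻¹ := by
  rw [s, x, ← map_inv, ← map_mul, ← map_mul, es_inv_e3, map_inv]

omit [Finite G] in
theorem st_x : D.s * D.t * D.x * (D.s * D.t)⁻¹ = D.x⁻¹ := by
  rw [show D.s * D.t * D.x * (D.s * D.t)⁻¹ = D.s * (D.t * D.x * D.t⁻¹) * D.s⁻¹ by group, D.t_x, D.s_x]

/-- elements of odd order centralising `t` have exponent three -/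
theorem cube_of_odd {g : G} (hg : g * D.t = D.t * g) (ho : Odd (orderOf g)) : g * g * g = 1 := by
  obtain ⟨d, rfl⟩ := D.inc_surj g hg
  rw [D.inc_orderOf] at ho
  have h24 : orderOf d ∣ 24 := orderOf_dvd_of_pow_eq_one (order_dvd d)
  have h3 : orderOf d ∣ 3 :=
    ((Nat.coprime_two_left.2 ho).symm.pow_right 3).dvd_of_dvd_mul_right
      (show orderOf d ∣ 3 * 2 ^ 3 by simpa using h24)
  rw [← map_mul, ← map_mul, three_pow d (orderOf_dvd_iff_pow_eq_one.1 h3), map_one]

omit [Finite G] in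
theorem C_inter {g : G} (hg : g ∈ D.C) (hgt : g * D.t = D.t * g) :
    ∃ i : Fin 3, g = D.x ^ (i : ℕ) ∨ g = D.x ^ (i : ℕ) * D.t := by
  obtain ⟨d, rfl⟩ := D.inc_surj g hgt
  rw [mem_C, x, ← map_mul, ← map_mul] at hg
  obtain ⟨i, h | h⟩ := comm_e3 d (D.inc_injective hg)
  · exact ⟨i, Or.inl (by rw [h, map_pow]; rfl)⟩
  · exact ⟨i, Or.inr (by rw [h, map_mul, map_pow, D.inc_zc]; rfl)⟩

/-- every pair (involution, commuting element of order three) is conjugate to `(t, x)` -/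
theorem pair_conj (hone : ∀ v : G, orderOf v = 2 → IsConj D.t v) {v c : G} (hv : orderOf v = 2)
    (hc : c * c * c = 1) (hc1 : c ≠ 1) (hvc : c * v = v * c) :
    ∃ g : G, g * D.t * g⁻¹ = v ∧ g * D.x * g⁻¹ = c := by
  obtain ⟨k, hk⟩ := isConj_iff.1 (hone v hv)
  have hcomm : (k⁻¹ * c * k) * D.t = D.t * (k⁻¹ * c * k) := by
    subst hk
    calc (k⁻¹ * c * k) * D.t = k⁻¹ * (c * (k * D.t * k⁻¹)) * k := by group
      _ = D.t * (k⁻¹ * c * k) := by rw [hvc]; group
  obtain ⟨d, hd⟩ := D.inc_surj _ hcomm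
  obtain ⟨h, hh⟩ := three_conj d
    (D.inc_injective (by
      rw [map_mul, map_mul, hd, map_one,
        show k⁻¹ * c * k * (k⁻¹ * c * k) * (k⁻¹ * c * k) = k⁻¹ * (c * c * c) * k by group, hc]
      group))
    (fun h1 => hc1 (by
      rw [h1, map_one] at hd
      calc c = k * (k⁻¹ * c * k) * k⁻¹ := by group
        _ = 1 := by rw [← hd]; group))
  refine ⟨k * D.inc h, ?_, ?_⟩
  · rw [show k * D.inc h * D.t * (k * D.inc h)⁻¹ = k * (D.inc h * D.t * (D.inc h)⁻¹) * k⁻¹ by group,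
      conj_eq_of_comm (D.inc_comm h), hk]
  · rw [show k * D.inc h * D.x * (k * D.inc h)⁻¹ = k * (D.inc h * D.x * (D.inc h)⁻¹) * k⁻¹ by group,
      x, ← map_inv, ← map_mul, ← map_mul, hh, hd]
    group

/-- an involution centralises no element of order prime to six -/
theorem not_comm_of_prime (hone : ∀ v : G, orderOf v = 2 → IsConj D.t v) {v w : G} {p : ℕ}
    (hv : orderOf v = 2) (hw : orderOf w = p) (hp : p.Prime) (hp2 : p ≠ 2) (hp3 : p ≠ 3) :
    w * v ≠ v * w := by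
  intro h
  obtain ⟨k, rfl⟩ := isConj_iff.1 (hone v hv)
  have hcomm : (k⁻¹ * w * k) * D.t = D.t * (k⁻¹ * w * k) := by
    calc (k⁻¹ * w * k) * D.t = k⁻¹ * (w * (k * D.t * k⁻¹)) * k := by group
      _ = D.t * (k⁻¹ * w * k) := by rw [h]; group
  have ho : orderOf (k⁻¹ * w * k) = p := by
    have := orderOf_conj' k⁻¹ w
    rw [inv_inv] at this
    exact this.trans hw
  have h3 := D.cube_of_odd hcomm (ho ▸ hp.odd_of_ne_two hp2)
  have : p ∣ 3 := ho ▸ orderOf_dvd_of_pow_eq_one (by rw [pow_succ, pow_two]; exact h3)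
  rcases (Nat.prime_three.eq_one_or_self_of_dvd _ this) with h1 | h1
  · exact hp.one_lt.ne' h1
  · exact hp3 h1

/-- the Sylow subgroup for the prime two of the centraliser of `x` has order two -/
theorem card_C : ∃ k : ℕ, Nat.card ↥D.C = 2 * k ∧ Odd k := by
  haveI : Fact (Nat.Prime 2) := ⟨Nat.prime_two⟩
  have htC : D.t ∈ D.C := D.mem_C.2 (D.inc_comm e3).symm
  let t' : ↥D.C := ⟨D.t, htC⟩
  obtain ⟨P, hP⟩ := (IsPGroup.of_card (p := 2) (n := 1) (G := ↥(Subgroup.zpowers t'))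
    (by rw [Nat.card_zpowers, ← Subgroup.orderOf_coe, pow_one]; exact D.order_t)).exists_le_sylow
  have htP : t' ∈ (P : Subgroup ↥D.C) := hP (Subgroup.mem_zpowers t')
  haveI : Nontrivial ↥(P : Subgroup ↥D.C) :=
    ⟨⟨⟨t', htP⟩, 1, fun h => ne_one_of_order_two D.order_t
      (congrArg (fun w : ↥(P : Subgroup ↥D.C) => ((w : ↥D.C) : G)) h)⟩⟩
  obtain ⟨z, -, hzc, hz⟩ := Cfsg.Agent.PGroups.exists_mem_center_orderOf_eq P.isPGroup'
    (⊤ : Subgroup ↥(P : Subgroup ↥D.C)) top_ne_bot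
  have hzg : orderOf ((z : ↥D.C) : G) = 2 := by rw [Subgroup.orderOf_coe, Subgroup.orderOf_coe, hz]
  have hzall : ∀ w : ↥(P : Subgroup ↥D.C),
      ((w : ↥D.C) : G) * ((z : ↥D.C) : G) = ((z : ↥D.C) : G) * ((w : ↥D.C) : G) := fun w =>
    congrArg (fun a : ↥(P : Subgroup ↥D.C) => ((a : ↥D.C) : G)) (Subgroup.mem_center_iff.1 hzc w)
  have hzt : ((z : ↥D.C) : G) = D.t := by
    obtain ⟨i, hi | hi⟩ := D.C_inter (z : ↥D.C).2 (hzall ⟨t', htP⟩).symm
    · exfalso
      have : orderOf ((z : ↥D.C) : G) ∣ 3 := by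
        rw [hi]; exact (orderOf_pow_dvd _).trans (dvd_of_eq D.order_x)
      rw [hzg] at this; norm_num at this
    · rw [hi]
      have h1 := mul_self_of_order_two hzg
      rw [hi, show D.x ^ (i : ℕ) * D.t * (D.x ^ (i : ℕ) * D.t) =
        D.x ^ (i : ℕ) * (D.t * D.x ^ (i : ℕ) * D.t⁻¹) * (D.t * D.t) by group, D.t_mul_self,
        ← conj_pow_eq, D.t_x, mul_one, ← pow_add, ← orderOf_dvd_iff_pow_eq_one, D.order_x] at h1
      have : (i : ℕ) = 0 := by omega
      rw [this, pow_zero, one_mul]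
  have hP2 : ∀ w : ↥(P : Subgroup ↥D.C), ((w : ↥D.C) : G) = 1 ∨ ((w : ↥D.C) : G) = D.t := by
    intro w
    obtain ⟨i, hi⟩ := D.C_inter (w : ↥D.C).2 (hzt ▸ hzall w)
    obtain ⟨k, hk⟩ := P.isPGroup' w
    have hk' : ((w : ↥D.C) : G) ^ 2 ^ k = 1 :=
      congrArg (fun a : ↥(P : Subgroup ↥D.C) => ((a : ↥D.C) : G)) hk
    have hx : D.x ^ (i : ℕ) = 1 → _ := fun h => h
    suffices D.x ^ (i : ℕ) = 1 by rcases hi with hi | hi <;> rw [hi, this] <;> simp
    have hxk : D.x ^ ((i : ℕ) * 2 ^ (k + 1)) = 1 := by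
      have hk2 : ((w : ↥D.C) : G) ^ (2 * 2 ^ k) = 1 := by rw [mul_comm, pow_mul, hk', one_pow]
      rw [pow_succ, mul_comm (2 ^ k), pow_mul]
      rcases hi with hi | hi
      · rw [hi] at hk2; exact hk2
      · rw [hi, pow_mul, (show Commute (D.x ^ (i : ℕ)) D.t from
          (Commute.pow_left (D.inc_comm e3) _)).mul_pow, pow_two D.t, D.t_mul_self, mul_one,
          ← pow_mul] at hk2
        exact hk2
    have h3 : 3 ∣ (i : ℕ) * 2 ^ (k + 1) :=
      (dvd_of_eq D.order_x.symm).trans (orderOf_dvd_of_pow_eq_one hxk)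
    rw [← orderOf_dvd_iff_pow_eq_one, D.order_x]
    exact ((Nat.Coprime.pow_right _ (by norm_num : Nat.Coprime 3 2)).dvd_of_dvd_mul_right h3)
  have hcard : Nat.card ↥(P : Subgroup ↥D.C) ≤ 2 := by
    classical
    have hinj : Function.Injective fun w : ↥(P : Subgroup ↥D.C) =>
        decide (((w : ↥D.C) : G) = 1) := by
      intro a b h
      have h' : (((a : ↥D.C) : G) = 1) ↔ (((b : ↥D.C) : G) = 1) := decide_eq_decide.1 h
      refine Subtype.ext (Subtype.ext ?_)
      rcases hP2 a with ha | ha <;> rcases hP2 b with hb | hb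
      · rw [ha, hb]
      · rw [ha]; exact (h'.1 ha).symm
      · rw [hb]; exact h'.2 hb
      · rw [ha, hb]
    simpa using Nat.card_le_card_of_injective _ hinj
  have hcard2 : Nat.card ↥(P : Subgroup ↥D.C) = 2 :=
    le_antisymm hcard Finite.one_lt_card
  refine ⟨(P : Subgroup ↥D.C).index, ?_, ?_⟩
  · rw [← (P : Subgroup ↥D.C).card_mul_index, hcard2]
  · rw [Nat.odd_iff, ← Nat.two_dvd_ne_zero]
    exact P.not_dvd_index

/-- the odd part of the centraliser of `x` -/
theorem exists_K : ∃ K : Subgroup G, K ≤ D.C ∧ Nat.card ↥D.C = 2 * Nat.card ↥K ∧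
    Odd (Nat.card ↥K) ∧ ∀ g : G, g ∈ K ↔ g ∈ D.C ∧ Odd (orderOf g) := by
  haveI : Fact (Nat.Prime 2) := ⟨Nat.prime_two⟩
  obtain ⟨k, hk, hkodd⟩ := D.card_C
  obtain ⟨P⟩ : Nonempty (Sylow 2 ↥D.C) := inferInstance
  have hmin : (Nat.card ↥D.C).minFac = 2 := (Nat.minFac_eq_two_iff _).2 ⟨k, hk⟩
  have hPc : Nat.card ↥(P : Subgroup ↥D.C) = 2 := by
    rw [P.card_eq_multiplicity, hk, Nat.factorization_mul (by norm_num) hkodd.pos.ne',
      Finsupp.add_apply, Nat.Prime.factorization_self Nat.prime_two,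
      Nat.factorization_eq_zero_of_not_dvd hkodd.not_two_dvd_nat]
    rfl
  have hcomp := IsCyclic.isComplement' hmin (P := P) (isCyclic_of_prime_card hPc)
  set K0 := (MonoidHom.transferSylow P
    ((isCyclic_of_prime_card hPc : IsCyclic ↥(P : Subgroup ↥D.C)).normalizer_le_centralizer hmin)).ker
  have hK0 : Nat.card ↥K0 * 2 = Nat.card ↥D.C := by rw [← hPc]; exact hcomp.card_mul_card
  have hK0k : Nat.card ↥K0 = k := by omega
  have hidx : K0.index = 2 := by
    have := K0.card_mul_index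
    rw [← hK0] at this
    exact Nat.eq_of_mul_eq_mul_left Nat.card_pos this
  have hcardK : Nat.card ↥(K0.map D.C.subtype) = Nat.card ↥K0 :=
    Subgroup.card_map_of_injective D.C.subtype_injective
  refine ⟨K0.map D.C.subtype, Subgroup.map_subtype_le _, by rw [hcardK]; omega,
    by rw [hcardK, hK0k]; exact hkodd, fun g => ⟨?_, ?_⟩⟩
  · rintro ⟨a, ha, rfl⟩
    refine ⟨a.2, ?_⟩
    rw [Subgroup.coe_subtype, Subgroup.orderOf_coe]
    exact (hK0k ▸ hkodd).of_dvd_nat
      (orderOf_submonoid ⟨a, ha⟩ ▸ orderOf_dvd_natCard (⟨a, ha⟩ : ↥K0))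
  · rintro ⟨hgC, hgo⟩
    refine ⟨⟨g, hgC⟩, ?_, rfl⟩
    obtain ⟨j, hj⟩ := hgo
    have : (⟨g, hgC⟩ : ↥D.C) = ((⟨g, hgC⟩ : ↥D.C) ^ 2) ^ (j + 1) := by
      refine Subtype.ext ?_
      rw [SubmonoidClass.coe_pow, SubmonoidClass.coe_pow, ← pow_mul,
        show 2 * (j + 1) = orderOf g + 1 by omega, pow_succ, pow_orderOf_eq_one, one_mul]
    rw [SetLike.mem_coe, this]
    exact K0.pow_mem (Subgroup.sq_mem_of_index_two hidx _) _

omit [Finite G] in
/-- Conjugation by elements inverting or fixing `x` preserves the odd part. -/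
theorem K_stable {K : Subgroup G} (hK : ∀ g : G, g ∈ K ↔ g ∈ D.C ∧ Odd (orderOf g)) {v : G}
    (hv : v * D.x * v⁻¹ = D.x ∨ v * D.x * v⁻¹ = D.x⁻¹) {g : G} (hg : g ∈ K) :
    v * g * v⁻¹ ∈ K := by
  rw [hK] at hg ⊢
  refine ⟨?_, (orderOf_conj' v g).symm ▸ hg.2⟩
  rw [mem_C] at hg ⊢
  have hc : g * D.x⁻¹ = D.x⁻¹ * g := (Commute.inv_right hg.1 : _)
  rcases hv with h | h
  · nth_rw 1 [← h]
    nth_rw 2 [← h]
    rw [show v * g * v⁻¹ * (v * D.x * v⁻¹) = v * (g * D.x) * v⁻¹ by group, hg.1]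
    group
  · have hv' : D.x = v * D.x⁻¹ * v⁻¹ := by
      rw [show v * D.x⁻¹ * v⁻¹ = (v * D.x * v⁻¹)⁻¹ by group, h, inv_inv]
    rw [hv', show v * g * v⁻¹ * (v * D.x⁻¹ * v⁻¹) = v * (g * D.x⁻¹) * v⁻¹ by group, hc]
    group

/-- the four-group -/
def vk : Subgroup M where
  carrier := {g | g = 1 ∨ g = zc ∨ g = es ∨ g = es * zc}
  one_mem' := Or.inl rfl
  mul_mem' := by
    intro a b ha hb
    simp only [Set.mem_ofPred_eq] at *
    rcases ha with rfl | rfl | rfl | rfl <;> rcases hb with rfl | rfl | rfl | rfl <;> decide +kernel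
  inv_mem' := by
    intro a ha
    simp only [Set.mem_ofPred_eq] at *
    rcases ha with rfl | rfl | rfl | rfl <;> decide +kernel

omit [Finite G] in
theorem mem_four {g : G} (hg : g ∈ vk.map D.inc) :
    g = 1 ∨ g = D.t ∨ g = D.s ∨ g = D.s * D.t := by
  obtain ⟨d, hd, rfl⟩ := hg
  rcases hd with rfl | rfl | rfl | rfl
  · exact Or.inl (map_one _)
  · exact Or.inr (Or.inl D.inc_zc)
  · exact Or.inr (Or.inr (Or.inl rfl))
  · exact Or.inr (Or.inr (Or.inr (by rw [map_mul, D.inc_zc]; rfl)))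

/-- The centraliser of `x` has order `18` or `54`. -/
theorem card_K (hone : ∀ v : G, orderOf v = 2 → IsConj D.t v) {q : ℕ} (hq : q.Prime) (hq3 : 3 < q)
    (hcard : Nat.card G = 16 * 27 * q) :
    ∃ K : Subgroup G, K ≤ D.C ∧ Nat.card ↥D.C = 2 * Nat.card ↥K ∧
      (∀ g : G, g ∈ K ↔ g ∈ D.C ∧ Odd (orderOf g)) ∧ (Nat.card ↥K = 9 ∨ Nat.card ↥K = 27) := by
  obtain ⟨K, hKC, hcC, hKodd, hK⟩ := D.exists_K
  set V := vk.map D.inc with hV
  have hVK : V ≤ Subgroup.normalizer (K : Set G) := by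
    intro v hv
    have hpm : ∀ w ∈ V, w * D.x * w⁻¹ = D.x ∨ w * D.x * w⁻¹ = D.x⁻¹ := by
      intro w hw
      rcases D.mem_four hw with rfl | rfl | rfl | rfl
      · exact Or.inl (by group)
      · exact Or.inl D.t_x
      · exact Or.inr D.s_x
      · exact Or.inr D.st_x
    rw [Subgroup.mem_normalizer_iff]
    intro g
    refine ⟨fun hg => D.K_stable hK (hpm v hv) hg, fun hg => ?_⟩
    have := D.K_stable hK (hpm v⁻¹ (V.inv_mem hv)) hg
    simpa [mul_assoc] using this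
  have hVc : Nat.card ↥V = 4 := by
    rw [hV, ← Nat.card_congr (vk.equivMapOfInjective _ D.inc_injective).toEquiv]
    have : (vk : Set M) = ↑({1, zc, es, es * zc} : Finset M) := by
      ext a; simp [vk]
    rw [← SetLike.coe_sort_coe, this, Nat.card_coe_set_eq, Set.ncard_coe_finset]
    decide +kernel
  have hcop : (Nat.card ↥V).Coprime (Nat.card ↥K) := by
    rw [hVc]; exact ((Nat.coprime_two_left.2 hKodd).pow_left 2)
  have hsolv : Group.IsSolvable ↥V ∨ Group.IsSolvable ↥K := by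
    left
    haveI : Fact (Nat.Prime 2) := ⟨Nat.prime_two⟩
    haveI := (IsPGroup.of_card (p := 2) (n := 2) (G := ↥V) (by rw [hVc]; norm_num)).isNilpotent
    infer_instance
  have hKG : Nat.card ↥K ∣ 16 * 27 * q := hcard ▸ Subgroup.card_subgroup_dvd_card K
  have hqK : ¬ q ∣ Nat.card ↥K := by
    intro hd
    haveI : Fact q.Prime := ⟨hq⟩
    obtain ⟨P, hP⟩ := Coprime.exists_invariant_sylow hVK hcop hsolv q
    set P' := (P : Subgroup ↥K).map K.subtype
    have hPc : Nat.card ↥P' = q := by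
      rw [Subgroup.card_map_of_injective K.subtype_injective]
      have h1 : q ∣ Nat.card ↥(P : Subgroup ↥K) := P.dvd_card_of_dvd_card hd
      obtain ⟨n, hn⟩ := IsPGroup.iff_card.1 P.isPGroup'
      have h2 : q ^ n ∣ 16 * 27 * q :=
        hn ▸ (Subgroup.card_subgroup_dvd_card _).trans hKG
      have hn1 : n ≤ 1 := by
        by_contra hlt
        have h3 : q * q ∣ 16 * 27 * q := (pow_two q ▸ Nat.pow_dvd_pow q (show 2 ≤ n by omega)).trans h2
        have h4 : q ∣ 2 ^ 4 * 3 ^ 3 := (Nat.mul_dvd_mul_iff_right hq.pos).1 (by simpa using h3)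
        rcases (Nat.Prime.dvd_mul hq).1 h4 with h5 | h5
        · have := Nat.le_of_dvd (by norm_num) (hq.dvd_of_dvd_pow h5); omega
        · have := Nat.le_of_dvd (by norm_num) (hq.dvd_of_dvd_pow h5); omega
      interval_cases n
      · rw [hn, pow_zero] at h1; exact absurd (Nat.dvd_one.1 h1) hq.one_lt.ne'
      · rw [hn, pow_one]
    obtain ⟨w, hw⟩ := exists_prime_orderOf_dvd_card' (G := ↥P') q (by rw [hPc])
    have hwo : orderOf (w : G) = q := (Subgroup.orderOf_coe w).trans hw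
    have hzp : Subgroup.zpowers (w : G) = P' := Subgroup.eq_of_le_of_card_ge
      (Subgroup.zpowers_le.2 w.2) (by rw [hPc, Nat.card_zpowers, hwo])
    have hstep : ∀ v ∈ V, orderOf v = 2 → v * w * v⁻¹ = (w : G)⁻¹ := by
      intro v hv hv2
      rcases fix_or_inv hq hwo (mul_self_of_order_two hv2) (by
        rw [hzp]; exact (Subgroup.mem_normalizer_iff.1 (hP hv) _).1 w.2) with h | h
      · exact absurd (comm_of_conj_eq h).symm
          (D.not_comm_of_prime hone hv2 hwo hq (by omega) (by omega))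
      · exact h
    have h1 := hstep D.t ⟨zc, Or.inr (Or.inl rfl), D.inc_zc⟩ D.order_t
    have h2 := hstep D.s ⟨es, Or.inr (Or.inr (Or.inl rfl)), rfl⟩ D.order_s
    have h3 := hstep (D.s * D.t) ⟨es * zc, Or.inr (Or.inr (Or.inr rfl)), by
      rw [map_mul, D.inc_zc]; rfl⟩ D.order_st
    rw [show D.s * D.t * w * (D.s * D.t)⁻¹ = D.s * (D.t * w * D.t⁻¹) * D.s⁻¹ by group, h1,
      show D.s * (w : G)⁻¹ * D.s⁻¹ = (D.s * w * D.s⁻¹)⁻¹ by group, h2, inv_inv] at h3
    have : (w : G) * w = 1 := by nth_rw 2 [h3]; exact mul_inv_cancel _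
    have hd2 : q ∣ 2 := hwo ▸ orderOf_dvd_of_pow_eq_one (by rw [pow_two]; exact this)
    have := Nat.le_of_dvd (by norm_num) hd2
    omega
  have h27 : Nat.card ↥K ∣ 27 := by
    have h1 : (Nat.card ↥K).Coprime 16 := by
      simpa using (Nat.coprime_two_left.2 hKodd).symm.pow_right 4
    exact h1.dvd_of_dvd_mul_left (((hq.coprime_iff_not_dvd.2 hqK).symm).dvd_of_dvd_mul_right hKG)
  refine ⟨K, hKC, hcC, hK, ?_⟩
  -- a Sylow subgroup gives at least nine elements
  haveI : Fact (Nat.Prime 3) := ⟨Nat.prime_three⟩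
  obtain ⟨R, hR⟩ := (IsPGroup.of_card (p := 3) (n := 1) (G := ↥(Subgroup.zpowers D.x))
    (by rw [Nat.card_zpowers, D.order_x, pow_one])).exists_le_sylow
  have hxR : D.x ∈ (R : Subgroup G) := hR (Subgroup.mem_zpowers _)
  have hR27 : Nat.card ↥(R : Subgroup G) = 27 := by
    rw [R.card_eq_multiplicity, hcard, Nat.factorization_mul (by norm_num) hq.pos.ne',
      Finsupp.add_apply, Nat.factorization_eq_zero_of_not_dvd (n := q) (fun h => by
        have := (Nat.prime_dvd_prime_iff_eq Nat.prime_three hq).1 h; omega), add_zero,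
      show 16 * 27 = 3 ^ 3 * 16 by norm_num,
      Nat.factorization_mul (by norm_num) (by norm_num), Finsupp.add_apply,
      Nat.Prime.factorization_pow Nat.prime_three,
      Nat.factorization_eq_zero_of_not_dvd (by norm_num : ¬ 3 ∣ 16)]
    simp
  have hCR : (R : Subgroup G) ⊓ D.C ≤ K := by
    intro g hg
    refine (hK g).2 ⟨hg.2, ?_⟩
    obtain ⟨k, hk⟩ := R.isPGroup' ⟨g, hg.1⟩
    have : g ^ 3 ^ k = 1 := congrArg Subtype.val hk
    exact (Odd.pow (by decide)).of_dvd_nat (orderOf_dvd_of_pow_eq_one this)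
  have hxK : D.x ∈ K := hCR ⟨hxR, D.mem_C.2 rfl⟩
  have h3K : 3 ∣ Nat.card ↥K := D.order_x ▸ (Subgroup.orderOf_coe (⟨D.x, hxK⟩ : ↥K)) ▸
    orderOf_dvd_natCard (⟨D.x, hxK⟩ : ↥K)
  obtain ⟨n, hn, hKn⟩ := (Nat.dvd_prime_pow Nat.prime_three).1
    (show Nat.card ↥K ∣ 3 ^ 3 by simpa using h27)
  interval_cases n
  · rw [hKn] at h3K; norm_num at h3K
  · exfalso
    have hle : K ≤ Subgroup.zpowers D.x := (Subgroup.eq_of_le_of_card_ge
      (Subgroup.zpowers_le.2 hxK) (by rw [hKn, Nat.card_zpowers, D.order_x]; norm_num)).ge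
    haveI : Nontrivial ↥(R : Subgroup G) := by
      rw [← Finite.one_lt_card_iff_nontrivial, hR27]; norm_num
    obtain ⟨z, -, hzc, hz⟩ := Cfsg.Agent.PGroups.exists_mem_center_orderOf_eq R.isPGroup'
      (⊤ : Subgroup ↥(R : Subgroup G)) top_ne_bot
    have hzall : ∀ r ∈ (R : Subgroup G), r * (z : G) = (z : G) * r := fun r hr =>
      congrArg Subtype.val (Subgroup.mem_center_iff.1 hzc ⟨r, hr⟩)
    have hzx : (z : G) ∈ Subgroup.zpowers D.x :=
      hle (hCR ⟨z.2, D.mem_C.2 (hzall D.x hxR).symm⟩)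
    have hzz : Subgroup.zpowers (z : G) = Subgroup.zpowers D.x :=
      Subgroup.eq_of_le_of_card_ge (Subgroup.zpowers_le.2 hzx)
        (by rw [Nat.card_zpowers, Nat.card_zpowers, D.order_x, Subgroup.orderOf_coe, hz])
    have hRK : (R : Subgroup G) ≤ K := fun r hr => hCR ⟨hr, by
      show r ∈ D.C
      rw [mem_C]
      obtain ⟨i, hi⟩ := Subgroup.mem_zpowers_iff.1 (hzz ▸ Subgroup.mem_zpowers D.x)
      rw [← hi]
      exact (Commute.zpow_right (hzall r hr) i : _)⟩
    have := Subgroup.card_le_of_le hRK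
    rw [hR27, hKn] at this
    norm_num at this
  · exact Or.inl (hKn.trans (by norm_num))
  · exact Or.inr (hKn.trans (by norm_num))

end Setup

end Cfsg.Agent.H23.GL23
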