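import Cfsg.Agent.H23.GL23.ThreeBasic

/-!
# The centraliser of an element of order three has order `54`
-/

set_option autoImplicit false
set_option maxHeartbeats 800000
set_option linter.style.haveILetI false

namespace Cfsg.Agent.H23.GL23

universe u

variable {G : Type u} [Group G]

/-- the product with exponents modulo three -/
def expPair (x y : G) (w : Vec) : G := x ^ w.1.val * y ^ w.2.val

theorem pow_mod_three {x : G} (hx : x * x * x = 1) (n : ℕ) : x ^ n = x ^ (n % 3) :=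
  pow_eq_pow_mod n (by rw [pow_succ, pow_two]; exact hx)

theorem pow_val_add {x : G} (hx : x * x * x = 1) (a b : ZMod 3) :
    x ^ (a + b).val = x ^ a.val * x ^ b.val := by
  rw [← pow_add, ZMod.val_add, ← pow_mod_three hx]

theorem pow_val_mul {x : G} (hx : x * x * x = 1) (a b : ZMod 3) :
    x ^ (a * b).val = (x ^ a.val) ^ b.val := by
  rw [← pow_mul, ZMod.val_mul, ← pow_mod_three hx]

theorem expPair_add {x y : G} (hx : x * x * x = 1) (hy : y * y * y = 1) (hc : Commute x y)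
    (v w : Vec) : expPair x y (v + w) = expPair x y v * expPair x y w := by
  simp only [expPair, Prod.fst_add, Prod.snd_add, pow_val_add hx, pow_val_add hy]
  exact Commute.mul_mul_mul_comm (hc.pow_pow _ _) _ _

theorem expPair_pow {x y : G} (hx : x * x * x = 1) (hy : y * y * y = 1) (hc : Commute x y)
    (v : Vec) (a : ZMod 3) : expPair x y (a * v.1, a * v.2) = expPair x y v ^ a.val := by
  simp only [expPair, mul_comm a, pow_val_mul hx, pow_val_mul hy]
  exact ((hc.pow_pow _ _).mul_pow _).symm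

theorem expPair_act {x y : G} (hx : x * x * x = 1) (hy : y * y * y = 1) (hc : Commute x y)
    {g : G} {u v : Vec} (hu : g * x * g⁻¹ = expPair x y u) (hv : g * y * g⁻¹ = expPair x y v)
    (w : Vec) : g * expPair x y w * g⁻¹ = expPair x y (act u v w) := by
  have : act u v w = (w.1 * u.1, w.1 * u.2) + (w.2 * v.1, w.2 * v.2) := rfl
  rw [this, expPair_add hx hy hc, expPair_pow hx hy hc, expPair_pow hx hy hc, ← hu, ← hv,
    conj_pow_eq, conj_pow_eq, expPair]
  group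

theorem expPair_eq_one {x y : G} (hx : x * x * x = 1) (hx1 : x ≠ 1) (hy3 : y * y * y = 1)
    (hy : y ∉ Subgroup.zpowers x) {w : Vec} (h : expPair x y w = 1) : w = 0 := by
  have hox : orderOf x = 3 := orderOf_eq_prime (by rw [pow_succ, pow_two]; exact hx) hx1
  have h2 : w.2 = 0 := by
    have hm : y ^ w.2.val ∈ Subgroup.zpowers x := by
      rw [eq_inv_of_mul_eq_one_right h]
      exact (Subgroup.zpowers x).inv_mem (Subgroup.npow_mem_zpowers _ _)
    rcases (by decide : ∀ a : ZMod 3, a = 0 ∨ a = 1 ∨ a = 2) w.2 with e | e | e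
    · exact e
    · exfalso; apply hy; simpa [e, ZMod.val_one] using hm
    · exfalso; apply hy
      rw [e, show (2 : ZMod 3).val = 2 from rfl] at hm
      have h4 : y = y ^ 2 * y ^ 2 := by
        rw [← pow_add, pow_mod_three hy3]; simp
      rw [h4]
      exact (Subgroup.zpowers x).mul_mem hm hm
  have h1 : w.1 = 0 := by
    rw [expPair, h2, ZMod.val_zero, pow_zero, mul_one, ← orderOf_dvd_iff_pow_eq_one, hox] at h
    exact (ZMod.val_eq_zero w.1).1 (Nat.eq_zero_of_dvd_of_lt h (ZMod.val_lt _))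
  exact Prod.ext h1 h2

variable [Finite G]

theorem expPair_injective {x y : G} (hx : x * x * x = 1) (hx1 : x ≠ 1) (hy3 : y * y * y = 1)
    (hy : y ∉ Subgroup.zpowers x) (hc : Commute x y) : Function.Injective (expPair x y) := by
  intro v w h
  have h1 : expPair x y (v - w) * expPair x y w = 1 * expPair x y w := by
    rw [← expPair_add hx hy3 hc, sub_add_cancel, one_mul, h]
  exact sub_eq_zero.1 (expPair_eq_one hx hx1 hy3 hy (mul_right_cancel h1))

theorem card_vec : Nat.card Vec = 9 := by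
  rw [Nat.card_eq_fintype_card, Fintype.card_prod, ZMod.card]

theorem expPair_surj {K : Subgroup G} (hK : Nat.card ↥K = 9) {x y : G} (hxK : x ∈ K) (hyK : y ∈ K)
    (hx : x * x * x = 1) (hx1 : x ≠ 1) (hy3 : y * y * y = 1) (hy : y ∉ Subgroup.zpowers x)
    (hc : Commute x y) {g : G} (hg : g ∈ K) : ∃ w, expPair x y w = g := by
  have hm : ∀ w, expPair x y w ∈ K := fun w => K.mul_mem (K.pow_mem hxK _) (K.pow_mem hyK _)
  obtain ⟨w, hw⟩ := ((Nat.bijective_iff_injective_and_card fun w => (⟨_, hm w⟩ : ↥K)).2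
    ⟨fun a b h => expPair_injective hx hx1 hy3 hy hc (congrArg Subtype.val h),
      card_vec.trans hK.symm⟩).2 ⟨g, hg⟩
  exact ⟨w, congrArg Subtype.val hw⟩

theorem axis_cases : ∀ a : Vec, isAxis a →
    a = 0 ∨ a = (1, 0) ∨ a = (-1, 0) ∨ a = (0, 1) ∨ a = (0, -1) := by decide

theorem corner_cases : ∀ a v : Vec, ¬ isAxis a → ¬ isAxis v →
    v = a ∨ v = (a.1, -a.2) ∨ v = (-a.1, a.2) ∨ v = (-a.1, -a.2) := by decide

namespace Setup

variable (D : Setup G) {K : Subgroup G} (hK : ∀ g : G, g ∈ K ↔ g ∈ D.C ∧ Odd (orderOf g))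

include hK

theorem x_mem_K : D.x ∈ K := (hK _).2 ⟨D.mem_C.2 rfl, by rw [D.order_x]; decide⟩

theorem sigma_stable {σ : G} (hσ : σ = D.s ∨ σ = D.s * D.t) {g : G} (hg : g ∈ K) :
    σ * g * σ⁻¹ ∈ K := by
  rcases hσ with rfl | rfl
  · exact D.K_stable hK (Or.inr D.s_x) hg
  · exact D.K_stable hK (Or.inr D.st_x) hg

theorem t_stable {g : G} (hg : g ∈ K) : D.t * g * D.t⁻¹ ∈ K := D.K_stable hK (Or.inl D.t_x) hg

/-- elements of the odd part fixed by an involution of the four-group have exponent three -/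
theorem cube_of_fixed (hone : ∀ v : G, orderOf v = 2 → IsConj D.t v) {σ : G} (hσ : orderOf σ = 2)
    {g : G} (hg : g ∈ K) (hc : g * σ = σ * g) : g * g * g = 1 := by
  obtain ⟨k, rfl⟩ := isConj_iff.1 (hone σ hσ)
  have h := D.cube_of_odd (g := k⁻¹ * g * k) ?_ ?_
  · calc g * g * g = k * (k⁻¹ * g * k * (k⁻¹ * g * k) * (k⁻¹ * g * k)) * k⁻¹ := by group
      _ = 1 := by rw [h]; group
  · calc k⁻¹ * g * k * D.t = k⁻¹ * (g * (k * D.t * k⁻¹)) * k := by group
      _ = D.t * (k⁻¹ * g * k) := by rw [hc]; group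
  · have := orderOf_conj' k⁻¹ g
    rw [inv_inv] at this
    rw [this]; exact ((hK g).1 hg).2

theorem not_mem_zpowers {σ : G} (hσ : σ = D.s ∨ σ = D.s * D.t) {y : G} (hy1 : y ≠ 1)
    (hyσ : σ * y * σ⁻¹ = y) : y ∉ Subgroup.zpowers D.x := by
  intro hm
  obtain ⟨i, rfl⟩ := Subgroup.mem_zpowers_iff.1 hm
  have hinv : σ * D.x * σ⁻¹ = D.x⁻¹ := by
    rcases hσ with rfl | rfl
    · exact D.s_x
    · exact D.st_x
  have h := map_zpow (MulAut.conj σ) D.x i
  simp only [MulAut.conj_apply] at h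
  rw [hinv, hyσ, inv_zpow] at h
  have h2 : D.x ^ (i + i) = 1 := by rw [zpow_add]; nth_rw 1 [h]; exact inv_mul_cancel _
  have h3 : (3 : ℤ) ∣ i + i := by
    have := orderOf_dvd_iff_zpow_eq_one.2 h2
    rwa [D.order_x] at this
  obtain ⟨j, hj⟩ : (3 : ℤ) ∣ i := by omega
  refine hy1 ?_
  rw [hj, zpow_mul, show D.x ^ (3 : ℤ) = D.x ^ (3 : ℕ) from zpow_natCast _ 3,
    ← D.order_x, pow_orderOf_eq_one, one_zpow]

/-- the second axis -/
theorem exists_axis (hone : ∀ v : G, orderOf v = 2 → IsConj D.t v) (h9 : Nat.card ↥K = 9) :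
    ∃ σ y : G, (σ = D.s ∨ σ = D.s * D.t) ∧ y ∈ K ∧ y ≠ 1 ∧ y * y * y = 1 ∧ σ * y * σ⁻¹ = y ∧
      D.t * y * D.t⁻¹ = y⁻¹ := by
  haveI : Fact (Nat.Prime 3) := ⟨Nat.prime_three⟩
  have hab : ∀ a ∈ K, ∀ b ∈ K, a * b = b * a := fun a ha b hb => congrArg Subtype.val
    (IsPGroup.commutative_of_card_eq_prime_sq (p := 3) (h9.trans (by norm_num)) (⟨a, ha⟩ : ↥K) ⟨b, hb⟩)
  obtain ⟨k, hk, hkx⟩ : ∃ k ∈ K, k ∉ Subgroup.zpowers D.x := by
    by_contra h
    push Not at h
    have := Subgroup.card_le_of_le (show K ≤ Subgroup.zpowers D.x from h)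
    rw [h9, Nat.card_zpowers, D.order_x] at this
    omega
  have htk := D.t_stable hK hk
  set w := (D.t * k * D.t⁻¹)⁻¹ * k with hw
  have hwK : w ∈ K := K.mul_mem (K.inv_mem htk) hk
  have ht' : D.t⁻¹ = D.t := inv_of_mul_self D.t_mul_self
  have hwinv : D.t * w * D.t⁻¹ = w⁻¹ := by
    rw [hw, show D.t * ((D.t * k * D.t⁻¹)⁻¹ * k) * D.t⁻¹ =
      (D.t * D.t) * k⁻¹ * (D.t * D.t)⁻¹ * (D.t * k * D.t⁻¹) by group, D.t_mul_self, one_mul, inv_one,
      mul_one, mul_inv_rev, inv_inv]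
  have hw1 : w ≠ 1 := by
    intro h
    rw [hw, inv_mul_eq_one] at h
    obtain ⟨i, hi | hi⟩ := D.C_inter ((hK k).1 hk).1 (comm_of_conj_eq h).symm
    · exact hkx (hi ▸ Subgroup.npow_mem_zpowers _ _)
    · have hm : D.t ∈ K := by
        have hxi : (D.x ^ (i : ℕ))⁻¹ * k ∈ K :=
          K.mul_mem (K.inv_mem (K.pow_mem (D.x_mem_K hK) _)) hk
        rwa [hi, inv_mul_cancel_left] at hxi
      have := ((hK _).1 hm).2
      rw [D.order_t] at this
      exact absurd this (by decide)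
  have hts : D.t * D.s = D.s * D.t := D.s_t.symm
  set z := w * (D.s * w * D.s⁻¹) with hz
  have hswK := D.sigma_stable hK (Or.inl rfl) hwK
  by_cases hz1 : z = 1
  · refine ⟨D.s * D.t, w, Or.inr rfl, hwK, hw1, ?_, ?_, hwinv⟩
    all_goals
      have hst : D.s * D.t * w * (D.s * D.t)⁻¹ = w := by
        rw [show D.s * D.t * w * (D.s * D.t)⁻¹ = D.s * (D.t * w * D.t⁻¹) * D.s⁻¹ by group, hwinv,
          show D.s * w⁻¹ * D.s⁻¹ = (D.s * w * D.s⁻¹)⁻¹ by group,
          ← inv_eq_of_mul_eq_one_right hz1, inv_inv]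
    · exact D.cube_of_fixed hK hone D.order_st hwK (comm_of_conj_eq hst).symm
    · exact hst
  · have hsz : D.s * z * D.s⁻¹ = z := by
      rw [hz, show D.s * (w * (D.s * w * D.s⁻¹)) * D.s⁻¹ =
        (D.s * w * D.s⁻¹) * ((D.s * D.s) * w * (D.s * D.s)⁻¹) by group, D.s_mul_self, one_mul, inv_one,
        mul_one]
      exact hab _ hswK _ hwK
    refine ⟨D.s, z, Or.inl rfl, K.mul_mem hwK hswK, hz1,
      D.cube_of_fixed hK hone D.order_s (K.mul_mem hwK hswK) (comm_of_conj_eq hsz).symm, hsz, ?_⟩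
    rw [hz, show D.t * (w * (D.s * w * D.s⁻¹)) * D.t⁻¹ =
      (D.t * w * D.t⁻¹) * ((D.t * D.s) * w * (D.t * D.s)⁻¹) by group, hwinv, hts,
      show D.s * D.t * w * (D.s * D.t)⁻¹ = D.s * (D.t * w * D.t⁻¹) * D.s⁻¹ by group, hwinv,
      show D.s * w⁻¹ * D.s⁻¹ = (D.s * w * D.s⁻¹)⁻¹ by group, ← mul_inv_rev, hab _ hswK _ hwK]

/-- The odd part has order `27`. -/
theorem K_ne_nine (hone : ∀ v : G, orderOf v = 2 → IsConj D.t v)
    (hR27 : ∀ R : Sylow 3 G, Nat.card ↥(R : Subgroup G) = 27)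
    (hC : Nat.card ↥D.C = 2 * Nat.card ↥K) : Nat.card ↥K ≠ 9 := by
  intro h9
  haveI : Fact (Nat.Prime 3) := ⟨Nat.prime_three⟩
  obtain ⟨σ, y, hσ, hyK, hy1, hy3, hσy, hty⟩ := D.exists_axis hK hone h9
  have hxK := D.x_mem_K hK
  have hσo : orderOf σ = 2 := by
    rcases hσ with rfl | rfl
    · exact D.order_s
    · exact D.order_st
  have hσx : σ * D.x * σ⁻¹ = D.x⁻¹ := by
    rcases hσ with rfl | rfl
    · exact D.s_x
    · exact D.st_x
  have hyx := D.not_mem_zpowers hK hσ hy1 hσy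
  have hc : Commute D.x y := congrArg Subtype.val
    (IsPGroup.commutative_of_card_eq_prime_sq (p := 3) (h9.trans (by norm_num)) (⟨_, hxK⟩ : ↥K) ⟨y, hyK⟩)
  obtain ⟨g₀, -, hg₀⟩ := D.pair_conj hone hσo hy3 hy1 (comm_of_conj_eq hσy).symm
  let e := expPair D.x y
  have hex : e (1, 0) = D.x := by simp [e, expPair, ZMod.val_one]
  have hey : e (0, 1) = y := by simp [e, expPair, ZMod.val_one]
  have hinv : ∀ v, (e v)⁻¹ = e (-v) := fun v => inv_eq_of_mul_eq_one_right (by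
    rw [← expPair_add D.x_cube hy3 hc, add_neg_cancel]; simp [expPair])
  have hxi : D.x⁻¹ = e (-1, 0) := by rw [← hex, hinv, Prod.neg_mk, neg_zero]
  have hyi : y⁻¹ = e (0, -1) := by rw [← hey, hinv, Prod.neg_mk, neg_zero]
  -- the signs
  have hT : ∀ v, D.t * e v * D.t⁻¹ = e (v.1, -v.2) := fun v => by
    rw [expPair_act D.x_cube hy3 hc (u := (1, 0)) (v := (0, -1)) (by rw [D.t_x]; exact hex.symm)
      (by rw [hty]; exact hyi)]
    congr 1; simp [act]
  have hS : ∀ v, σ * e v * σ⁻¹ = e (-v.1, v.2) := fun v => by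
    rw [expPair_act D.x_cube hy3 hc (u := (-1, 0)) (v := (0, 1))
      (by rw [hσx]; exact hxi) (by rw [hσy]; exact hey.symm)]
    congr 1; simp [act]
  obtain ⟨R, hR⟩ := (IsPGroup.of_card (p := 3) (n := 2) (G := ↥K) (h9.trans (by norm_num))).exists_le_sylow
  have hR' := hR27 R
  haveI : Nontrivial ↥(R : Subgroup G) := by
    rw [← Finite.one_lt_card_iff_nontrivial, hR']; norm_num
  obtain ⟨z, -, hzc, hz⟩ := Cfsg.Agent.PGroups.exists_mem_center_orderOf_eq R.isPGroup'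
    (⊤ : Subgroup ↥(R : Subgroup G)) top_ne_bot
  have hzall : ∀ r ∈ (R : Subgroup G), r * (z : G) = (z : G) * r := fun r hr =>
    congrArg Subtype.val (Subgroup.mem_center_iff.1 hzc ⟨r, hr⟩)
  have hRC : ∀ r ∈ (R : Subgroup G), r ∈ D.C → r ∈ K := fun r hr hrc => by
    refine (hK r).2 ⟨hrc, ?_⟩
    obtain ⟨k, hk⟩ := R.isPGroup' ⟨r, hr⟩
    exact (Odd.pow (by decide)).of_dvd_nat
      (orderOf_dvd_of_pow_eq_one (show r ^ 3 ^ k = 1 from congrArg Subtype.val hk))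
  have hzK : (z : G) ∈ K := hRC _ z.2 (D.mem_C.2 (hzall D.x (hR hxK)).symm)
  obtain ⟨a, ha⟩ := expPair_surj h9 hxK hyK D.x_cube D.x_ne_one hy3 hyx hc hzK
  change e a = z at ha
  have hnconj : ¬ IsConj D.x (z : G) := by
    intro hcj
    obtain ⟨k, hk⟩ := isConj_iff.1 hcj
    have hle : (R : Subgroup G).map (MulAut.conj k⁻¹).toMonoidHom ≤ D.C := by
      rintro _ ⟨r, hr, rfl⟩
      rw [mem_C]
      show k⁻¹ * r * k⁻¹⁻¹ * D.x = D.x * (k⁻¹ * r * k⁻¹⁻¹)
      calc k⁻¹ * r * k⁻¹⁻¹ * D.x = k⁻¹ * (r * (k * D.x * k⁻¹)) * k := by group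
        _ = D.x * (k⁻¹ * r * k⁻¹⁻¹) := by rw [hk, hzall r hr, ← hk]; group
    have := Subgroup.card_dvd_of_le hle
    rw [Subgroup.card_map_of_injective (MulAut.conj k⁻¹).injective, hR', hC, h9] at this
    norm_num at this
  have hna : ¬ isAxis a := by
    intro hax
    rcases axis_cases a hax with rfl | rfl | rfl | rfl | rfl
    · have h1 : (z : G) = 1 := by rw [← ha]; simp [e, expPair]
      rw [show z = 1 from Subtype.ext h1, orderOf_one] at hz
      omega
    · exact hnconj (isConj_iff.2 ⟨1, by rw [← ha, hex]; group⟩)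
    · refine hnconj (isConj_iff.2 ⟨σ, ?_⟩)
      rw [hσx, ← ha]; exact hxi
    · exact hnconj (isConj_iff.2 ⟨g₀, by rw [hg₀, ← ha, hey]⟩)
    · refine hnconj (isConj_iff.2 ⟨D.t * g₀, ?_⟩)
      rw [show D.t * g₀ * D.x * (D.t * g₀)⁻¹ = D.t * (g₀ * D.x * g₀⁻¹) * D.t⁻¹ by group, hg₀, hty,
        ← ha]
      exact hyi
  have hcorner : ∀ v, ¬ isAxis v → IsConj (e v) (z : G) := by
    intro v hv
    rcases corner_cases a v hna hv with rfl | rfl | rfl | rfl
    · rw [ha]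
    · exact (isConj_iff.2 ⟨D.t, by rw [← ha]; exact hT a⟩ : IsConj (z : G) _).symm
    · exact (isConj_iff.2 ⟨σ, by rw [← ha]; exact hS a⟩ : IsConj (z : G) _).symm
    · refine (isConj_iff.2 ⟨σ * D.t, ?_⟩ : IsConj (z : G) _).symm
      rw [← ha, show σ * D.t * e a * (σ * D.t)⁻¹ = σ * (D.t * e a * D.t⁻¹) * σ⁻¹ by group, hT, hS]
  -- an element of the Sylow subgroup outside the odd part
  obtain ⟨r, hr, hrK⟩ : ∃ r ∈ (R : Subgroup G), r ∉ K := by
    by_contra h
    push Not at h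
    have := Subgroup.card_le_of_le (show (R : Subgroup G) ≤ K from h)
    omega
  have hnorm : (K.subgroupOf (R : Subgroup G)).Normal := by
    refine Subgroup.normal_of_index_eq_minFac_card ?_
    have := (K.subgroupOf (R : Subgroup G)).card_mul_index
    rw [Nat.card_congr (Subgroup.subgroupOfEquivOfLe hR).toEquiv, h9, hR'] at this
    rw [hR', show Nat.minFac 27 = 3 by norm_num]
    omega
  have hmem : ∀ g ∈ K, r * g * r⁻¹ ∈ K := fun g hg =>
    Subgroup.mem_subgroupOf.1 (hnorm.conj_mem ⟨g, hR hg⟩ (Subgroup.mem_subgroupOf.2 hg) ⟨r, hr⟩)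
  obtain ⟨u, hu⟩ := expPair_surj h9 hxK hyK D.x_cube D.x_ne_one hy3 hyx hc (hmem _ hxK)
  obtain ⟨v, hv⟩ := expPair_surj h9 hxK hyK D.x_cube D.x_ne_one hy3 hyx hc (hmem _ hyK)
  have haxis : ∀ w, IsConj D.x (e w) → isAxis w := fun w hw =>
    not_not.1 fun hn => hnconj (hw.trans (hcorner w hn))
  have hfix := axis_fix a hna u (haxis u (isConj_iff.2 ⟨r, hu.symm⟩)) v
    (haxis v (isConj_iff.2 ⟨r * g₀, by
      rw [show r * g₀ * D.x * (r * g₀)⁻¹ = r * (g₀ * D.x * g₀⁻¹) * r⁻¹ by group, hg₀]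
      exact hv.symm⟩))
    (expPair_injective D.x_cube D.x_ne_one hy3 hyx hc (by
      rw [← expPair_act D.x_cube hy3 hc hu.symm hv.symm]
      change r * e a * r⁻¹ = e a
      rw [ha]; exact conj_eq_of_comm (hzall r hr)))
  have hr2 : r * r * D.x * (r * r)⁻¹ = D.x := by
    rw [show r * r * D.x * (r * r)⁻¹ = r * (r * D.x * r⁻¹) * r⁻¹ by group, ← hu,
      expPair_act D.x_cube hy3 hc hu.symm hv.symm, hfix]
    exact hex
  have hr2K : r * r ∈ K :=
    hRC _ ((R : Subgroup G).mul_mem hr hr) (D.mem_C.2 (comm_of_conj_eq hr2))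
  refine hrK ?_
  obtain ⟨k, hk⟩ := R.isPGroup' ⟨r, hr⟩
  have hk' : r ^ 3 ^ k = 1 := congrArg Subtype.val hk
  obtain ⟨j, hj⟩ : Odd (3 ^ k) := Odd.pow (by decide)
  rw [show r = (r * r) ^ (j + 1) by
    rw [← pow_two, ← pow_mul, show 2 * (j + 1) = 3 ^ k + 1 by omega, pow_succ, hk', one_mul]]
  exact K.pow_mem hr2K _

end Setup

end Cfsg.Agent.H23.GL23
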