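import Cfsg.Agent.H23.GL23.Facts
import Cfsg.Agent.CharInduce.Ops

/-!
# Virtual characters of `GL(2,3)` supported on the elements with power the central involution
-/

set_option autoImplicit false
set_option maxHeartbeats 800000

namespace Cfsg.Agent.H23.GL23

open scoped ComplexConjugate
open Cfsg.Agent.CharBasic Cfsg.Agent.CharInduce

/-- the ring `ℤ[√-2]` -/
abbrev Zw := ℤ√(-2)

/-- `√2 i` -/
noncomputable def omega : ℂ := (Real.sqrt 2 : ℂ) * Complex.I

theorem omega_sq : omega * omega = ((-2 : ℤ) : ℂ) := by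
  have h : ((Real.sqrt 2 : ℂ)) * (Real.sqrt 2 : ℂ) = 2 := by
    rw [← Complex.ofReal_mul, Real.mul_self_sqrt (by norm_num)]; norm_num
  rw [omega, mul_mul_mul_comm, h, Complex.I_mul_I]; norm_num

/-- the embedding -/
noncomputable def toC : Zw →+* ℂ := Zsqrtd.lift ⟨omega, omega_sq⟩

theorem toC_apply (a : Zw) : toC a = (a.re : ℂ) + (a.im : ℂ) * omega := rfl

theorem toC_star (a : Zw) : conj (toC a) = toC (star a) := by
  rw [toC_apply, toC_apply, Zsqrtd.re_star, Zsqrtd.im_star, omega]
  simp [Complex.conj_ofReal]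

/-- a representation by matrices gives a character -/
theorem isCharacter_matrix {G : Type*} [Group G] {n : ℕ}
    (f : G →* Matrix (Fin n) (Fin n) Zw) : Cfsg.IsCharacter G (fun g => toC (f g).trace) := by
  let R : Representation ℂ G (Fin n → ℂ) :=
    ((Matrix.toLinAlgEquiv' : Matrix (Fin n) (Fin n) ℂ ≃ₐ[ℂ] _) : Matrix (Fin n) (Fin n) ℂ →*
      Module.End ℂ (Fin n → ℂ)).comp ((toC.mapMatrix.toMonoidHom).comp f)
  refine ⟨n, R, funext fun g => ?_⟩
  change LinearMap.trace ℂ _ (Matrix.toLin' ((f g).map toC)) = _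
  rw [Matrix.trace_toLin'_eq]
  simp [Matrix.trace]

/-- the digits of the two dimensional representation -/
def dig (g : M) (i : ℕ) : ℤ := ((((alphaTable >>> (20 * g.val.val)) % 2 ^ 20) / 5 ^ i % 5 : ℕ) : ℤ) - 2

/-- its entries -/
def alphaEnt (g : M) : Zw × Zw × Zw × Zw :=
  (⟨dig g 0, dig g 1⟩, ⟨dig g 2, dig g 3⟩, ⟨dig g 4, dig g 5⟩, ⟨dig g 6, dig g 7⟩)

theorem alphaEnt_mul : ∀ a b : M, alphaEnt (a * b) =
    ((alphaEnt a).1 * (alphaEnt b).1 + (alphaEnt a).2.1 * (alphaEnt b).2.2.1,
     (alphaEnt a).1 * (alphaEnt b).2.1 + (alphaEnt a).2.1 * (alphaEnt b).2.2.2,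
     (alphaEnt a).2.2.1 * (alphaEnt b).1 + (alphaEnt a).2.2.2 * (alphaEnt b).2.2.1,
     (alphaEnt a).2.2.1 * (alphaEnt b).2.1 + (alphaEnt a).2.2.2 * (alphaEnt b).2.2.2) := by
  decide +kernel

theorem alphaEnt_one : alphaEnt 1 = (1, 0, 0, 1) := by decide +kernel

/-- the two dimensional representation -/
def alphaHom : M →* Matrix (Fin 2) (Fin 2) Zw where
  toFun g := !![(alphaEnt g).1, (alphaEnt g).2.1; (alphaEnt g).2.2.1, (alphaEnt g).2.2.2]
  map_one' := by simp [alphaEnt_one, Matrix.one_fin_two]
  map_mul' a b := by simp [alphaEnt_mul]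

/-- its character -/
def alpha (g : M) : Zw := (alphaEnt g).1 + (alphaEnt g).2.2.2

/-- representatives of the four lines -/
def lineRep : Fin 4 → ZMod 3 × ZMod 3 := ![(1, 0), (0, 1), (1, 1), (1, 2)]

/-- the action on lines -/
def lineAct (g : M) (i : Fin 4) : Fin 4 :=
  let w : ZMod 3 × ZMod 3 := (g.ent.1 * (lineRep i).1 + g.ent.2.1 * (lineRep i).2,
    g.ent.2.2.1 * (lineRep i).1 + g.ent.2.2.2 * (lineRep i).2)
  if w.1 = 0 then 1 else if w.2 = 0 then 0 else if w.1 = w.2 then 2 else 3

theorem lineAct_mul : ∀ a b : M, ∀ i : Fin 4, lineAct (a * b) i = lineAct a (lineAct b i) := by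
  decide +kernel

theorem lineAct_one : ∀ i : Fin 4, lineAct 1 i = i := by decide +kernel

/-- the permutation representation -/
def lineHom : M →* Matrix (Fin 4) (Fin 4) Zw where
  toFun g := Matrix.of fun i j => if i = lineAct g j then 1 else 0
  map_one' := by refine Matrix.ext fun i j => ?_; simp [lineAct_one, Matrix.one_apply]
  map_mul' a b := by refine Matrix.ext fun i j => ?_; simp [Matrix.mul_apply, lineAct_mul]

/-- its character -/
def piChar (g : M) : Zw := ∑ i : Fin 4, if i = lineAct g i then 1 else 0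

/-- the determinant sign -/
def sgn (g : M) : Zw := if par g = 0 then 1 else -1

theorem sgn_mul : ∀ a b : M, sgn (a * b) = sgn a * sgn b := by decide +kernel

/-- the sign as one by one matrices -/
def sgnHom : M →* Matrix (Fin 1) (Fin 1) Zw where
  toFun g := Matrix.of fun _ _ => sgn g
  map_one' := by
    refine Matrix.ext fun i j => ?_
    have : i = j := Subsingleton.elim _ _
    simp [this, sgn, par_one, Matrix.one_apply]
  map_mul' a b := by refine Matrix.ext fun i j => ?_; simp [Matrix.mul_apply, sgn_mul]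

/-- virtual characters -/
def IsV (f : M → Zw) : Prop := Cfsg.IsGeneralizedCharacter M (fun g => toC (f g))

theorem isV_alpha : IsV alpha := by
  refine IsGen.of_char ?_
  convert isCharacter_matrix alphaHom using 2 with g
  simp [alpha, alphaHom, Matrix.trace, Fin.sum_univ_two]

theorem isV_piChar : IsV piChar := by
  refine IsGen.of_char ?_
  convert isCharacter_matrix lineHom using 2 with g
  simp [piChar, lineHom, Matrix.trace]

theorem isV_sgn : IsV sgn := by
  refine IsGen.of_char ?_
  convert isCharacter_matrix sgnHom using 2 with g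
  simp [sgnHom, Matrix.trace]

theorem isV_one : IsV 1 := by
  refine IsGen.of_char ?_
  simpa using IsChar.one (G := M)

theorem isV_star : IsV (fun g => star (alpha g)) := by
  refine IsGen.of_char ?_
  have h : Cfsg.IsCharacter M (fun g => toC (alphaHom g).trace) := isCharacter_matrix alphaHom
  have h' := IsChar.conj h
  simp only [toC_star] at h'
  convert h' using 2 with g
  simp [alpha, alphaHom, Matrix.trace, Fin.sum_univ_two]

theorem IsV.add {f g : M → Zw} (hf : IsV f) (hg : IsV g) : IsV (f + g) := by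
  have := IsGen.add hf hg
  simpa [IsV, Pi.add_def] using this

theorem IsV.sub {f g : M → Zw} (hf : IsV f) (hg : IsV g) : IsV (f - g) := by
  have := IsGen.sub hf hg
  simpa [IsV, Pi.sub_def] using this

theorem IsV.mul {f g : M → Zw} (hf : IsV f) (hg : IsV g) : IsV (f * g) := by
  have := IsGen.mul hf hg
  simpa [IsV, Pi.mul_def] using this

/-- the character of degree three -/
def three : M → Zw := piChar - 1

/-- the other character of degree three -/
def threeB : M → Zw := sgn * three

/-- the character of degree two with kernel the quaternion group -/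
def two : M → Zw := three * three - 1 - three - threeB

/-- the faithful character of degree four -/
def four : M → Zw := alpha * three - fun g => star (alpha g)

/-- the special virtual characters -/
def phi : Fin 5 → M → Zw :=
  ![alpha - fun g => star (alpha g), two - alpha, 1 + two - three, 1 + threeB - four,
    sgn + three - four]

theorem isV_phi : ∀ i, IsV (phi i) := by
  have h3 : IsV three := isV_piChar.sub isV_one
  have h3b : IsV threeB := isV_sgn.mul h3
  have h2 : IsV two := (((h3.mul h3).sub isV_one).sub h3).sub h3b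
  have h4 : IsV four := (isV_alpha.mul h3).sub isV_star
  intro i
  fin_cases i
  · exact isV_alpha.sub isV_star
  · exact h2.sub isV_alpha
  · exact (isV_one.add h2).sub h3
  · exact (isV_one.add h3b).sub h4
  · exact (isV_sgn.add h3).sub h4

theorem phi_support : ∀ i : Fin 5, ∀ g : M, ¬ isT g → phi i g = 0 := by decide +kernel

theorem not_isT_one : ¬ isT 1 := by decide +kernel

/-- the Gram matrix -/
def gram : Fin 5 → Fin 5 → ℤ :=
  ![![2, -1, 0, 0, 0], ![-1, 2, 1, 0, 0], ![0, 1, 3, 1, -1], ![0, 0, 1, 3, 1], ![0, 0, -1, 1, 3]]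

theorem phi_gram : ∀ i j : Fin 5, ∑ g : M, phi i g * star (phi j g) = (48 * gram i j : ℤ) := by
  decide +kernel

/-- inner products with the principal character -/
def gramOne : Fin 5 → ℤ := ![0, 0, 1, 1, 0]

theorem phi_gram_one : ∀ i : Fin 5, ∑ g : M, phi i g = (48 * gramOne i : ℤ) := by decide +kernel

/-- coefficients of the indicator of the central involution -/
def coefT : Fin 5 → ℤ := ![2, 4, -2, 3, 1]

theorem phi_delta : ∀ g : M, ∑ i, (coefT i : Zw) * phi i g = if g = zc then 48 else 0 := by
  decide +kernel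

/-- number of involutions inverting `g` giving an involution as product -/
def countInv (g : M) : ℕ :=
  (Finset.univ.filter fun a : M => a * a = 1 ∧ a ≠ 1 ∧ (a * g) * (a * g) = 1 ∧ a * g ≠ 1).card

theorem phi_count : ∑ g : M, phi 2 g * (countInv g : ℤ) = (96 : ℤ) := by decide +kernel

end Cfsg.Agent.H23.GL23
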